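import Cfsg.Agent.Lib.MTwelveLocal.Sigma

/-!
An element of odd order normalising the extraspecial subgroup and centralising `z` has a cube centralising it,
and centralises it if it fixes an element other than `z` up to `z`.
-/

set_option autoImplicit false
set_option linter.style.haveILetI false
set_option linter.unusedSectionVars false
set_option maxRecDepth 100000

namespace Cfsg.Lib.MTwelveLocal

open Cfsg Cfsg.Lib.MTwelveRecog Subgroup

theorem qWord_inQ {a b c d : Fin 192} (ha : inQ a = true) (hb : inQ b = true) (hc : inQ c = true)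
    (hd : inQ d = true) (k : ℕ) : inQ (qWord a b c d k) = true := by
  have h : ∀ (e : Bool) (x : Fin 192), inQ x = true → inQ (if e then x else 0) = true := fun e x hx => by
    cases e
    · exact max_facts.1.1
    · exact hx
  obtain ⟨-, -, hm, -⟩ := max_facts.1
  exact hm _ _ (h _ _ ha) (hm _ _ (h _ _ hb) (hm _ _ (h _ _ hc) (h _ _ hd)))

theorem inA_mul_cT : ∀ i : Fin 192, inQ i = true → i ≠ 0 → i ≠ cT → inA (cMul i cT) = inA i := by
  decide +kernel

theorem gens_inQ' : inQ 3 = true ∧ inQ 55 = true ∧ inQ 60 = true ∧ inQ 44 = true := by decide +kernel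

theorem inA_gens : inA 3 = true ∧ inA 44 = true ∧ inB 55 = true ∧ inB 60 = true := by decide +kernel

universe u

namespace Frame

variable {G : Type u} [Group G] (F : Frame G)

/-- Equality up to `z`. -/
def Eqz (g g' : G) : Prop := g = g' ∨ g = g' * F.z

/-- An element of the centraliser of `z` normalising the extraspecial subgroup. -/
def Acts (h : G) : Prop :=
  h * F.z = F.z * h ∧ ∀ i, inQ i = true → ∃ j, inQ j = true ∧ h * F.f i * h⁻¹ = F.f j

theorem Eqz.refl (g : G) : F.Eqz g g := Or.inl rfl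

theorem Eqz.symm {g g' : G} (h : F.Eqz g g') : F.Eqz g' g := by
  rcases h with h | h
  · exact Or.inl h.symm
  · exact Or.inr (by rw [h, mul_assoc, F.z_sq, mul_one])

theorem Eqz.trans {g g' g'' : G} (h : F.Eqz g g') (h' : F.Eqz g' g'') : F.Eqz g g'' := by
  rcases h with h | h <;> rcases h' with h' | h'
  · exact Or.inl (h.trans h')
  · exact Or.inr (h.trans h')
  · exact Or.inr (by rw [h, h'])
  · exact Or.inl (by rw [h, h', mul_assoc, F.z_sq, mul_one])

theorem eqz_idx {i j : Fin 192} (hi : inSyl i = true) (hj : inSyl j = true) :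
    F.Eqz (F.f i) (F.f j) ↔ qEq i j = true := by
  simp only [qEq, Bool.or_eq_true, beq_iff_eq, Eqz, show F.z = F.f cT from rfl,
    ← F.fmul _ _ hj inS_cT]
  exact ⟨fun h => h.imp (F.inj _ _ hi hj) (F.inj _ _ hi (inS_mul hj inS_cT)),
    fun h => h.imp (fun e => by rw [e]) (fun e => by rw [e])⟩

theorem Eqz.mul {x x' y y' : G} (hy' : y' * F.z = F.z * y') (hx : F.Eqz x x') (hy : F.Eqz y y') :
    F.Eqz (x * y) (x' * y') := by
  rcases hx with rfl | rfl <;> rcases hy with rfl | rfl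
  · exact Or.inl rfl
  · exact Or.inr (by group)
  · exact Or.inr (by rw [mul_assoc x', ← hy', mul_assoc])
  · refine Or.inl ?_
    rw [show x' * F.z * (y' * F.z) = x' * (F.z * y') * F.z by group, ← hy',
      show x' * (y' * F.z) * F.z = x' * y' * (F.z * F.z) by group, F.z_sq, mul_one]

theorem Eqz.conj {h x x' : G} (hh : h * F.z = F.z * h) (hx : F.Eqz x x') :
    F.Eqz (h * x * h⁻¹) (h * x' * h⁻¹) := by
  rcases hx with rfl | rfl
  · exact Or.inl rfl
  · refine Or.inr ?_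
    rw [show h * (x' * F.z) * h⁻¹ = h * x' * h⁻¹ * (h * F.z * h⁻¹) by group, hh, mul_inv_cancel_right]

theorem f_qWord {a b c d : Fin 192} (ha : inSyl a = true) (hb : inSyl b = true) (hc : inSyl c = true)
    (hd : inSyl d = true) (k : ℕ) :
    F.f (qWord a b c d k) = (if Nat.testBit k 0 then F.f a else 1) * ((if Nat.testBit k 1 then F.f b else 1) *
      ((if Nat.testBit k 2 then F.f c else 1) * (if Nat.testBit k 3 then F.f d else 1))) := by
  have h : ∀ (e : Bool) (x : Fin 192), inSyl x = true → inSyl (if e then x else 0) = true ∧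
      F.f (if e then x else 0) = (if e then F.f x else 1) := fun e x hx => by
    cases e
    · exact ⟨inSyl_facts.1, F.fone⟩
    · exact ⟨hx, rfl⟩
  obtain ⟨s1, e1⟩ := h (Nat.testBit k 0) a ha
  obtain ⟨s2, e2⟩ := h (Nat.testBit k 1) b hb
  obtain ⟨s3, e3⟩ := h (Nat.testBit k 2) c hc
  obtain ⟨s4, e4⟩ := h (Nat.testBit k 3) d hd
  rw [qWord, F.fmul _ _ s1 (inS_mul s2 (inS_mul s3 s4)), F.fmul _ _ s2 (inS_mul s3 s4), F.fmul _ _ s3 s4,
    e1, e2, e3, e4]

variable [Finite G] [IsSimpleGroup G] (h44 : F.T 44) (h3 : F.T 3) (h55 : ¬ F.T 55) (h60 : ¬ F.T 60) (h76 : ¬ F.T 76)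
include h44 h3 h55 h60 h76

theorem inA_iff_T {i : Fin 192} (hi : inQ i = true) :
    inA i = true ↔ sCl i ≠ 0 ∧ F.T i := by
  have hiS := max_facts.1.2.1 i hi
  constructor
  · intro h
    refine ⟨?_, F.T_of_inA hiS h h44 h3⟩
    simp only [inA, Bool.or_eq_true, beq_iff_eq] at h
    rcases h with (e | e) | e <;> rw [e] <;> decide
  · rintro ⟨hc, hT⟩
    have h := ((F.inA_or h44 h3 h55 h60 h76 hiS hc).1 hT).1
    simp only [Bool.or_eq_true, beq_iff_eq] at h
    exact h.resolve_right (max_facts.1.2.2.2.2.2.2 i hi)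

theorem act_spec {h : G} (hA : F.Acts h) :
    (∀ i, inQ i = true → F.Eqz (h ^ 6 * F.f i * (h ^ 6)⁻¹) (F.f i)) ∧
    ((∃ i, inQ i = true ∧ i ≠ 0 ∧ i ≠ cT ∧ F.Eqz (h * F.f i * h⁻¹) (F.f i)) →
      ∀ i, inQ i = true → F.Eqz (h ^ 2 * F.f i * (h ^ 2)⁻¹) (F.f i)) := by
  obtain ⟨hz, hQ⟩ := hA
  obtain ⟨q3, q55, q60, q44⟩ := gens_inQ'
  obtain ⟨-, hQS, hQm, -⟩ := max_facts.1
  obtain ⟨rA, rB, rAQ, rBQ⟩ := rep_spec
  have hrep : ∀ g, inQ g = true → inA g = true → g ≠ cT → ∃ r, r ∈ repA ∧ inQ r = true ∧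
      F.Eqz (h * F.f g * h⁻¹) (F.f r) := by
    intro g hg hgA hgz
    obtain ⟨j, hj, e⟩ := hQ g hg
    obtain ⟨hc, hT⟩ := (F.inA_iff_T h44 h3 h55 h60 h76 hg).1 hgA
    have hjc : sCl j ≠ 0 := by
      have ho : orderOf (F.f j) = 2 := by
        rw [← e, show h * F.f g * h⁻¹ = MulAut.conj h (F.f g) from rfl, MulEquiv.orderOf_eq,
          F.orderOf_f (hQS g hg) hc]
      obtain ⟨j', hj', hje, hjc⟩ := F.exists_idx (F.f_mem (hQS j hj)) ho
      rwa [← F.inj _ _ hj' (hQS j hj) hje]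
    have hjA := (F.inA_iff_T h44 h3 h55 h60 h76 hj).2 ⟨hjc, (F.T_of_conj e).1 hT⟩
    have hjz : j ≠ cT := fun e' => hgz <| by
      refine F.inj _ _ (hQS g hg) inS_cT ?_
      have h2 : h * F.f g * h⁻¹ = h * F.z * h⁻¹ := by rw [e, e', hz, mul_inv_cancel_right]; rfl
      exact mul_left_cancel (mul_right_cancel h2)
    obtain ⟨r, hr, hjr⟩ := List.any_eq_true.1 (rA j hj hjA hjz)
    have hrQ := List.all_eq_true.1 rAQ r hr
    exact ⟨r, hr, hrQ, e ▸ (F.eqz_idx (hQS j hj) (hQS r hrQ)).2 hjr⟩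
  have hrepB : ∀ g, inQ g = true → inB g = true → ¬ F.T g → ∃ r, r ∈ repB ∧ inQ r = true ∧
      F.Eqz (h * F.f g * h⁻¹) (F.f r) := by
    intro g hg hgB hT
    obtain ⟨j, hj, e⟩ := hQ g hg
    have hc : sCl g ≠ 0 := by
      simp only [inB, Bool.or_eq_true, beq_iff_eq] at hgB
      rcases hgB with ((e | e) | e) | e <;> rw [e] <;> decide
    have hjc : sCl j ≠ 0 := by
      have ho : orderOf (F.f j) = 2 := by
        rw [← e, show h * F.f g * h⁻¹ = MulAut.conj h (F.f g) from rfl, MulEquiv.orderOf_eq,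
          F.orderOf_f (hQS g hg) hc]
      obtain ⟨j', hj', hje, hjc⟩ := F.exists_idx (F.f_mem (hQS j hj)) ho
      rwa [← F.inj _ _ hj' (hQS j hj) hje]
    have hjB := (F.inA_or h44 h3 h55 h60 h76 (hQS j hj) hjc).2 fun t => hT ((F.T_of_conj e).2 t)
    obtain ⟨r, hr, hjr⟩ := List.any_eq_true.1 (rB j hj hjB)
    have hrQ := List.all_eq_true.1 rBQ r hr
    exact ⟨r, hr, hrQ, e ▸ (F.eqz_idx (hQS j hj) (hQS r hrQ)).2 hjr⟩
  obtain ⟨a, ha, haQ, hae⟩ := hrep 3 q3 inA_gens.1 (by decide)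
  obtain ⟨b, hb, hbQ, hbe⟩ := hrepB 55 q55 inA_gens.2.2.1 h55
  obtain ⟨c, hc, hcQ, hce⟩ := hrepB 60 q60 inA_gens.2.2.2 h60
  obtain ⟨d, hd, hdQ, hde⟩ := hrep 44 q44 inA_gens.2.1 (by decide)
  have zc : ∀ i, inQ i = true → F.f i * F.z = F.z * F.f i := fun i hi => F.comm_z (hQS i hi)
  have hword : ∀ k, F.Eqz (h * F.f (qWord 3 55 60 44 k) * h⁻¹) (F.f (qWord a b c d k)) := by
    intro k
    rw [F.f_qWord (hQS _ q3) (hQS _ q55) (hQS _ q60) (hQS _ q44),
      F.f_qWord (hQS _ haQ) (hQS _ hbQ) (hQS _ hcQ) (hQS _ hdQ)]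
    have hsel : ∀ (e : Bool) {x y : G}, F.Eqz (h * x * h⁻¹) y → y * F.z = F.z * y →
        F.Eqz (h * (if e then x else 1) * h⁻¹) (if e then y else 1) ∧
          (if e then y else 1) * F.z = F.z * (if e then y else 1) := fun e x y hxy hy => by
      cases e
      · exact ⟨Or.inl (by simp), by simp⟩
      · exact ⟨hxy, hy⟩
    obtain ⟨t1, -⟩ := hsel (Nat.testBit k 0) hae (zc a haQ)
    obtain ⟨t2, -⟩ := hsel (Nat.testBit k 1) hbe (zc b hbQ)
    obtain ⟨t3, c3⟩ := hsel (Nat.testBit k 2) hce (zc c hcQ)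
    obtain ⟨t4, c4⟩ := hsel (Nat.testBit k 3) hde (zc d hdQ)
    have c34 := (Commute.mul_left (show Commute _ F.z from c3) c4).eq
    have c2 : (if Nat.testBit k 1 then F.f b else 1) * F.z = F.z * (if Nat.testBit k 1 then F.f b else 1) :=
      (hsel (Nat.testBit k 1) hbe (zc b hbQ)).2
    have c234 := (Commute.mul_left (show Commute _ F.z from c2) c34).eq
    have := Eqz.mul F c234 t1 (Eqz.mul F c34 t2 (Eqz.mul F c4 t3 t4))
    convert this using 1
    group
  have himg : ∀ i, inQ i = true → F.Eqz (h * F.f i * h⁻¹) (F.f (qImg a b c d i)) := by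
    intro i hi
    refine Eqz.trans F (Eqz.conj F hz ((F.eqz_idx (hQS i hi) ?_).2 (qIdx_spec i hi).2.1)) (hword (qIdx i))
    exact hQS _ (qWord_inQ q3 q55 q60 q44 _)
  have himgQ : ∀ i, inQ (qImg a b c d i) = true := fun i => qWord_inQ haQ hbQ hcQ hdQ _
  have hcm : ∀ {x x' y y' : Fin 192}, inQ x = true → inQ y = true → inQ x' = true → inQ y' = true →
      F.Eqz (h * F.f x * h⁻¹) (F.f x') → F.Eqz (h * F.f y * h⁻¹) (F.f y') → sCm x' y' = sCm x y := by
    intro x x' y y' hx hy hx' hy' e1 e2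
    have key : ∀ {u u' v v' : G}, u' * F.z = F.z * u' → v' * F.z = F.z * v' → F.Eqz u u' → F.Eqz v v' →
        (u * v = v * u ↔ u' * v' = v' * u') := by
      intro u u' v v' hu hv eu ev
      rcases eu with rfl | rfl <;> rcases ev with rfl | rfl
      · exact Iff.rfl
      · rw [mul_assoc v' F.z, ← hu, ← mul_assoc, ← mul_assoc, mul_left_inj]
      · rw [mul_assoc u' F.z, ← hv, ← mul_assoc, ← mul_assoc, mul_left_inj]
      · rw [show u' * F.z * (v' * F.z) = u' * (F.z * v') * F.z by group, ← hv,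
          show v' * F.z * (u' * F.z) = v' * (F.z * u') * F.z by group, ← hu, mul_left_inj,
          ← mul_assoc, ← mul_assoc, mul_left_inj]
    have k' := key (zc x' hx') (zc y' hy') e1 e2
    refine Bool.eq_iff_iff.2 ⟨fun e => F.cm_of_comm (hQS x hx) (hQS y hy) ?_,
      fun e => F.cm_of_comm (hQS x' hx') (hQS y' hy') (k'.1 ?_)⟩
    · have e3 := k'.2 (F.comm_of_cm (hQS x' hx') (hQS y' hy') e)
      refine mul_left_cancel (a := h) (mul_right_cancel (b := h⁻¹) ?_)
      calc h * (F.f x * F.f y) * h⁻¹ = h * F.f x * h⁻¹ * (h * F.f y * h⁻¹) := by group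
        _ = h * F.f y * h⁻¹ * (h * F.f x * h⁻¹) := e3
        _ = h * (F.f y * F.f x) * h⁻¹ := by group
    · calc h * F.f x * h⁻¹ * (h * F.f y * h⁻¹) = h * (F.f x * F.f y) * h⁻¹ := by group
        _ = h * (F.f y * F.f x) * h⁻¹ := by rw [F.comm_of_cm (hQS x hx) (hQS y hy) e]
        _ = _ := by group
  have hgood : qGood a b c d = true := by
    simp only [qGood, Bool.and_eq_true, beq_iff_eq, List.all_eq_true, Bool.or_eq_true, List.mem_range,
      Bool.not_eq_true']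
    refine ⟨⟨⟨⟨⟨⟨hcm q3 q55 haQ hbQ hae hbe, hcm q3 q60 haQ hcQ hae hce⟩, hcm q3 q44 haQ hdQ hae hde⟩,
      hcm q55 q60 hbQ hcQ hbe hce⟩, hcm q55 q44 hbQ hdQ hbe hde⟩, hcm q60 q44 hcQ hdQ hce hde⟩,
      fun k hk => ?_⟩
    rcases Nat.eq_zero_or_pos k with rfl | hk0
    · exact Or.inl rfl
    have hk1 : ∀ k : Fin 16, k.1 ≠ 0 → qWord 3 55 60 44 k ≠ 0 ∧ qWord 3 55 60 44 k ≠ cT := by decide +kernel
    obtain ⟨hs0, hsz⟩ := hk1 ⟨k, hk⟩ (by simp only; omega)
    set s := qWord 3 55 60 44 k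
    set t := qWord a b c d k
    have hs : inQ s = true := qWord_inQ q3 q55 q60 q44 k
    have ht : inQ t = true := qWord_inQ haQ hbQ hcQ hdQ k
    have hst := hword k
    obtain ⟨j, hj, hje⟩ := hQ s hs
    rw [hje] at hst
    have hjt := (F.eqz_idx (hQS j hj) (hQS t ht)).1 hst
    have hj0 : j ≠ 0 := fun e => hs0 <| by
      rw [e, F.fone, conj_eq_one_iff] at hje
      exact F.inj _ _ (hQS s hs) inSyl_facts.1 (hje.trans F.fone.symm)
    have hjz : j ≠ cT := fun e => hsz <| by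
      refine F.inj _ _ (hQS s hs) inS_cT ?_
      have h2 : h * F.f s * h⁻¹ = h * F.z * h⁻¹ := by rw [hje, e, hz, mul_inv_cancel_right]; rfl
      exact mul_left_cancel (mul_right_cancel h2)
    refine Or.inr ⟨⟨?_, ?_⟩, ?_⟩
    · by_contra hne
      rw [Bool.not_eq_false] at hne
      have h1 := Eqz.trans F hst ((F.eqz_idx (hQS t ht) inSyl_facts.1).2 hne)
      rw [F.eqz_idx (hQS j hj) inSyl_facts.1] at h1
      simp only [qEq, Bool.or_eq_true, beq_iff_eq] at h1
      rcases h1 with e | e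
      · exact hj0 e
      · exact hjz (e.trans (cMul_inv cT).2.2.1)
    · refine Bool.eq_iff_iff.2 ?_
      simp only [beq_iff_eq]
      rw [← F.sq_eq (hQS t ht), ← F.sq_eq (hQS s hs)]
      have e2 : F.f t * F.f t = F.f j * F.f j := by
        rcases hst with e | e <;> rw [e]
        rw [show F.f t * F.z * (F.f t * F.z) = F.f t * (F.z * F.f t) * F.z by group, ← zc t ht,
          show F.f t * (F.f t * F.z) * F.z = F.f t * F.f t * (F.z * F.z) by group, F.z_sq, mul_one]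
      rw [e2, ← hje, show h * F.f s * h⁻¹ * (h * F.f s * h⁻¹) = h * (F.f s * F.f s) * h⁻¹ by group,
        conj_eq_one_iff]
    · have e3 : inA t = inA j := by
        simp only [qEq, Bool.or_eq_true, beq_iff_eq] at hjt
        rcases hjt with e | e
        · rw [e]
        · rw [e]
          refine (inA_mul_cT t ht ?_ ?_).symm
          · intro e0; rw [e0, (cMul_inv cT).2.2.1] at e; exact hjz e
          · intro e0; rw [e0] at e
            exact hj0 (e.trans (by decide +kernel))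
      rw [e3]
      refine Bool.eq_iff_iff.2 ?_
      rw [F.inA_iff_T h44 h3 h55 h60 h76 hj, F.inA_iff_T h44 h3 h55 h60 h76 hs, ← F.T_of_conj hje]
      refine and_congr_left' ?_
      rw [← (sCl_facts j (hQS j hj)).1, ← (sCl_facts s (hQS s hs)).1, ← F.sq_eq (hQS j hj),
        ← F.sq_eq (hQS s hs), ← hje,
        show h * F.f s * h⁻¹ * (h * F.f s * h⁻¹) = h * (F.f s * F.f s) * h⁻¹ by group, conj_eq_one_iff]
      exact and_congr_right' (iff_of_true hj0 hs0)
  have hcert := sigma_cert a ha b hb c hc d hd hgood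
  have hiter : ∀ (n : ℕ) i, inQ i = true → inQ ((qImg a b c d)^[n] i) = true ∧
      F.Eqz (h ^ n * F.f i * (h ^ n)⁻¹) (F.f ((qImg a b c d)^[n] i)) := by
    intro n
    induction n with
    | zero => exact fun i hi => ⟨hi, Or.inl (by simp)⟩
    | succ n ih =>
      intro i hi
      obtain ⟨hn, he⟩ := ih i hi
      rw [Function.iterate_succ_apply']
      refine ⟨himgQ _, Eqz.trans F ?_ (himg _ hn)⟩
      have e := Eqz.conj F hz he
      rwa [show h * (h ^ n * F.f i * (h ^ n)⁻¹) * h⁻¹ = h ^ (n + 1) * F.f i * (h ^ (n + 1))⁻¹ by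
        rw [pow_succ']; group] at e
  have hfin : ∀ n, (∀ r ∈ [(3 : Fin 192), 55, 60, 44], qEq ((qImg a b c d)^[n] r) r = true) →
      ∀ i, inQ i = true → F.Eqz (h ^ n * F.f i * (h ^ n)⁻¹) (F.f i) := by
    intro n hn i hi
    have hg : ∀ r ∈ [(3 : Fin 192), 55, 60, 44], inQ r = true →
        F.Eqz (h ^ n * F.f r * (h ^ n)⁻¹) (F.f r) := fun r hr hrQ => by
      obtain ⟨h1, h2⟩ := hiter n r hrQ
      exact Eqz.trans F h2 ((F.eqz_idx (hQS _ h1) (hQS r hrQ)).2 (hn r hr))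
    have hnz : h ^ n * F.z = F.z * h ^ n := (Commute.pow_left (show Commute h F.z from hz) n).eq
    have hk : inQ (qWord 3 55 60 44 (qIdx i)) = true := qWord_inQ q3 q55 q60 q44 _
    have e0 := (F.eqz_idx (hQS i hi) (hQS _ hk)).2 (qIdx_spec i hi).2.1
    refine Eqz.trans F (Eqz.conj F hnz e0) (Eqz.trans F ?_ (Eqz.symm F e0))
    rw [F.f_qWord (hQS _ q3) (hQS _ q55) (hQS _ q60) (hQS _ q44)]
    have hsel : ∀ (e : Bool) {x : G}, F.Eqz (h ^ n * x * (h ^ n)⁻¹) x → x * F.z = F.z * x →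
        F.Eqz (h ^ n * (if e then x else 1) * (h ^ n)⁻¹) (if e then x else 1) ∧
          (if e then x else 1) * F.z = F.z * (if e then x else 1) := fun e x hx hc => by
      cases e
      · exact ⟨Or.inl (by simp), by simp⟩
      · exact ⟨hx, hc⟩
    obtain ⟨t1, -⟩ := hsel (Nat.testBit (qIdx i) 0) (hg 3 (by simp) q3) (zc 3 q3)
    obtain ⟨t2, c2⟩ := hsel (Nat.testBit (qIdx i) 1) (hg 55 (by simp) q55) (zc 55 q55)
    obtain ⟨t3, c3⟩ := hsel (Nat.testBit (qIdx i) 2) (hg 60 (by simp) q60) (zc 60 q60)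
    obtain ⟨t4, c4⟩ := hsel (Nat.testBit (qIdx i) 3) (hg 44 (by simp) q44) (zc 44 q44)
    have c34 := (Commute.mul_left (show Commute _ F.z from c3) c4).eq
    have c234 := (Commute.mul_left (show Commute _ F.z from c2) c34).eq
    have := Eqz.mul F c234 t1 (Eqz.mul F c34 t2 (Eqz.mul F c4 t3 t4))
    convert this using 1
    group
  refine ⟨hfin 6 fun r hr => (hcert r hr).1, fun ⟨i, hi, hi0, hiz, hfix⟩ => hfin 2 fun r hr => ?_⟩
  refine (hcert r hr).2 (List.any_eq_true.2 ⟨qIdx i, List.mem_range.2 (qIdx_spec i hi).1, ?_⟩)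
  simp only [Bool.and_eq_true, bne_iff_ne]
  refine ⟨fun e => ?_, ?_⟩
  · rcases (qIdx_spec i hi).2.2 e with e | e
    · exact hi0 e
    · exact hiz e
  · have hk : inQ (qWord 3 55 60 44 (qIdx i)) = true := qWord_inQ q3 q55 q60 q44 _
    rw [← F.eqz_idx (hQS _ (qWord_inQ haQ hbQ hcQ hdQ _)) (hQS _ hk)]
    exact Eqz.trans F (Eqz.symm F (himg i hi)) (Eqz.trans F hfix ((F.eqz_idx (hQS i hi) (hQS _ hk)).2
      (qIdx_spec i hi).2.1))

/-- An odd element normalising the extraspecial subgroup: its cube centralises it, and it does so if it fixes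
a noncentral element up to `z`. -/
theorem act_odd {h : G} (hA : F.Acts h) (ho : Odd (orderOf h)) :
    (∀ i, inQ i = true → h ^ 3 * F.f i = F.f i * h ^ 3) ∧
    ((∃ i, inQ i = true ∧ i ≠ 0 ∧ i ≠ cT ∧ F.Eqz (h * F.f i * h⁻¹) (F.f i)) →
      ∀ i, inQ i = true → h * F.f i = F.f i * h) := by
  obtain ⟨s6, s2⟩ := F.act_spec h44 h3 h55 h60 h76 hA
  have hz := hA.1
  have dbl : ∀ n, (∀ i, inQ i = true → F.Eqz (h ^ n * F.f i * (h ^ n)⁻¹) (F.f i)) →
      ∀ i, inQ i = true → Commute (h ^ (2 * n)) (F.f i) := by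
    intro n hn i hi
    have hnz : h ^ n * F.z = F.z * h ^ n := (Commute.pow_left (show Commute h F.z from hz) n).eq
    show h ^ (2 * n) * F.f i = F.f i * h ^ (2 * n)
    rw [← mul_inv_eq_iff_eq_mul, two_mul, pow_add,
      show h ^ n * h ^ n * F.f i * (h ^ n * h ^ n)⁻¹ = h ^ n * (h ^ n * F.f i * (h ^ n)⁻¹) * (h ^ n)⁻¹ by group]
    rcases hn i hi with e | e <;> rw [e]
    · exact e
    · rw [show h ^ n * (F.f i * F.z) * (h ^ n)⁻¹ = h ^ n * F.f i * (h ^ n)⁻¹ * (h ^ n * F.z * (h ^ n)⁻¹) by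
        group, e, hnz, mul_inv_cancel_right, mul_assoc, F.z_sq, mul_one]
  obtain ⟨m, hm⟩ := ho
  have red : ∀ (k : ℕ) (x : G), Commute (h ^ (2 * k)) x → Commute (h ^ k) x := by
    intro k x hx
    have e : h ^ k = (h ^ (2 * k)) ^ (m + 1) := by
      rw [← pow_mul, show 2 * k * (m + 1) = orderOf h * k + k by rw [hm]; ring, pow_add, pow_mul,
        pow_orderOf_eq_one, one_pow, one_mul]
    rw [e]
    exact hx.pow_left _
  refine ⟨fun i hi => ?_, fun hex i hi => ?_⟩
  · exact (red 3 _ (red (2 * 3) _ (dbl 6 s6 i hi))).eq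
  · have := red 1 _ (red (2 * 1) _ (dbl 2 (s2 hex) i hi))
    rwa [pow_one] at this

end Frame

end Cfsg.Lib.MTwelveLocal
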