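import Cfsg.Agent.Lib.MTwelveLocal.Quot

/-!
The centraliser of `z` without odd core is the table group.
-/

set_option autoImplicit false
set_option linter.style.haveILetI false
set_option linter.unusedSectionVars false
set_option linter.style.longLine false
set_option maxRecDepth 100000

namespace Cfsg.Lib.MTwelveLocal

open Cfsg Cfsg.Lib.MTwelveRecog Subgroup

/-- The part in the Sylow subgroup of an index. -/
def decS (i : Fin 192) : Fin 192 :=
  idxAt 730005912464120984795893426051875745780754274523629077044196515243830623310330636806861954118270676956521194776416766881242585345439681116411563365166852387381786214734406726669604446820555220478255218526018833054158158885235859502671241675035751442509132988142379493273562056176804353281823685233354203781252782192797299531209504203155433479240050162041895626036908900885402908442767023744736154865283573326023482223013536770560143832852233669918627432436629504 i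

/-- The exponent of 56 of an index. -/
def decK (i : Fin 192) : ℕ :=
  byteAt 9452061366565957182709020388702259413847383486713846010526827220467311938928358210251156105222909753724054582890125387956992290576745249195113952113298606754730726447756507065729916505047875841802225082989648953820568632298066048669062565263145028165821789919667242532126259711047762553702424595247963750367187245961643595988877650043180660272048357901662066106853200630977262743074763115738734108420896921257252764776146081792063885254772758059917205359886592 i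

/-- The map determined exactly by the images of 3, 55, 60, 44. -/
def qExt (a b c d i : Fin 192) : Fin 192 :=
  cMul (qWord a b c d (qIdx i)) (if i == qWord 3 55 60 44 (qIdx i) then 0 else cT)

/-- The possible images of 3 and 44. -/
def sixL : List (Fin 192) := [3, 34, 44, 50, 103, 106]

/-- The possible images of 55 and 60. -/
def twelveL : List (Fin 192) := [55, 60, 65, 68, 76, 82, 149, 160, 166, 171, 188, 189]

/-- The possible images of 3, 55, 60, 44. -/
def tupL : List (Fin 192 × Fin 192 × Fin 192 × Fin 192) :=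
  (sixL.product (twelveL.product (twelveL.product sixL))).filter fun t =>
    (sCm t.1 t.2.1 == sCm 3 55) && (sCm t.1 t.2.2.1 == sCm 3 60) && (sCm t.1 t.2.2.2 == sCm 3 44) &&
    (sCm t.2.1 t.2.2.1 == sCm 55 60) && (sCm t.2.1 t.2.2.2 == sCm 55 44) && (sCm t.2.2.1 t.2.2.2 == sCm 60 44)

theorem tupL_facts : tupL.length = 192 ∧
    (∀ i : Fin 192, inQ i = true → inA i = true → i ≠ cT → i ∈ sixL) ∧
    (∀ i : Fin 192, inQ i = true → inB i = true → i ∈ twelveL) := by
  refine ⟨?_, ?_, ?_⟩ <;> decide +kernel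

/-- The action of order three is that of 56 up to conjugation and inversion. -/
theorem order_three_cert : (tupL.all fun t =>
    !([(3 : Fin 192), 55, 60, 44].all fun g =>
      qExt t.1 t.2.1 t.2.2.1 t.2.2.2 (qExt t.1 t.2.1 t.2.2.1 t.2.2.2 (qExt t.1 t.2.1 t.2.2.1 t.2.2.2 g)) == g) ||
    (t == (3, 55, 60, 44)) ||
    ((List.finRange 192).any fun q => inQ q &&
      (([(3 : Fin 192), 55, 60, 44].all fun g =>
          cConj q (qExt t.1 t.2.1 t.2.2.1 t.2.2.2 (cConj (cInv q) g)) == cConj 56 g) ||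
        ([(3 : Fin 192), 55, 60, 44].all fun g =>
          cConj q (qExt t.1 t.2.1 t.2.2.1 t.2.2.2 (cConj (cInv q) g)) == cConj 145 g)))) = true := by
  decide +kernel

theorem ext_facts : (∀ i : Fin 192, inQ i = true → qExt 3 55 60 44 i = i) ∧
    (∀ i : Fin 192, inQ i = true → qExt (cConj 56 3) (cConj 56 55) (cConj 56 60) (cConj 56 44) i = cConj 56 i ∧
      qExt (cConj 145 3) (cConj 145 55) (cConj 145 60) (cConj 145 44) i = cConj 145 i ∧
      inQ (cConj 56 i) = true ∧ inQ (cConj 145 i) = true ∧ cConj 56 (cConj 145 i) = i ∧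
      cConj 61 (cConj 56 (cConj (cInv 61) i)) = cConj 145 i) := by
  refine ⟨?_, ?_⟩ <;> decide +kernel

theorem dec_facts :
    (∀ i : Fin 192, inSyl (decS i) = true ∧ decK i < 3 ∧ cMul (decS i) (cPow 56 (decK i)) = i) ∧
    (∀ s : Fin 192, inSyl s = true → ∀ i : Fin 192,
      decS (cMul s i) = cMul s (decS i) ∧ decK (cMul s i) = decK i) ∧
    (∀ i : Fin 192, decS (cMul 56 i) = decS (cMul 56 (decS i)) ∧
      decK (cMul 56 i) = (decK (cMul 56 (decS i)) + decK i) % 3) ∧
    (∀ q : Fin 192, inQ q = true →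
      (decS (cMul 56 q) = cConj 56 q ∧ decK (cMul 56 q) = 1) ∧
      (decS (cMul 56 (cMul q 61)) = cMul (cConj 56 q) 61 ∧ decK (cMul 56 (cMul q 61)) = 2)) ∧
    decS cT = cT ∧ decK cT = 0 ∧ decS 0 = 0 ∧ decK 0 = 0 ∧
    (∀ s : Fin 192, inSyl s = true → inQ s = false → cMul (cMul s 61) 61 = s) := by
  refine ⟨?_, ?_, ?_, ?_, ?_, ?_, ?_, ?_, ?_⟩ <;> decide +kernel

theorem fix_three : ∀ j : Fin 192, inSyl j = true → cConj j 3 ≠ 44 ∧ cConj j 3 ≠ 106 := by
  decide +kernel

theorem cMul_assoc (i j k : Fin 192) : cMul (cMul i j) k = cMul i (cMul j k) :=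
  el_injective (by simp only [el_mul, mul_assoc])

universe u

namespace Frame

variable {G : Type u} [Group G] (F : Frame G)

theorem conj_qWord (g : G) (hz : g * F.z * g⁻¹ = F.z) {a b c d : Fin 192} (ha : inQ a = true)
    (hb : inQ b = true) (hc : inQ c = true) (hd : inQ d = true)
    (ea : g * F.f 3 * g⁻¹ = F.f a) (eb : g * F.f 55 * g⁻¹ = F.f b)
    (ec : g * F.f 60 * g⁻¹ = F.f c) (ed : g * F.f 44 * g⁻¹ = F.f d) {i : Fin 192} (hi : inQ i = true) :
    g * F.f i * g⁻¹ = F.f (qExt a b c d i) := by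
  obtain ⟨q3, q55, q60, q44⟩ := gens_inQ'
  have hQS := max_facts.1.2.1
  let σ : G →* G := (MulAut.conj g).toMonoidHom
  have hsel : ∀ (e : Bool) {x y : G}, σ x = y → σ (if e then x else 1) = (if e then y else 1) := fun e x y h => by
    cases e
    · exact map_one σ
    · exact h
  have hk := qWord_inQ q3 q55 q60 q44 (qIdx i)
  have hk' := qWord_inQ ha hb hc hd (qIdx i)
  have hw : σ (F.f (qWord 3 55 60 44 (qIdx i))) = F.f (qWord a b c d (qIdx i)) := by
    rw [F.f_qWord (hQS _ q3) (hQS _ q55) (hQS _ q60) (hQS _ q44),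
      F.f_qWord (hQS _ ha) (hQS _ hb) (hQS _ hc) (hQS _ hd), map_mul, map_mul, map_mul,
      hsel _ ea, hsel _ eb, hsel _ ec, hsel _ ed]
  have hi' := (qIdx_spec i hi).2.1
  simp only [qEq, Bool.or_eq_true, beq_iff_eq] at hi'
  show σ (F.f i) = _
  by_cases he : i = qWord 3 55 60 44 (qIdx i)
  · rw [qExt, show (i == qWord 3 55 60 44 (qIdx i)) = true from beq_iff_eq.2 he, if_pos rfl,
      (cMul_inv _).2.2.2, ← hw, ← he]
  · have e := hi'.resolve_left he
    rw [qExt, show (i == qWord 3 55 60 44 (qIdx i)) = false from beq_eq_false_iff_ne.2 he,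
      if_neg (by decide), F.fmul _ _ (hQS _ hk') inS_cT, ← hw]
    conv_lhs => rw [e, F.fmul _ _ (hQS _ hk) inS_cT, map_mul]
    exact congrArg _ hz

variable [Finite G] [IsSimpleGroup G] (hna : ¬ IsMulCommutative G) (h44 : F.T 44) (h3 : F.T 3)
  (h55 : ¬ F.T 55) (h60 : ¬ F.T 60) (h76 : ¬ F.T 76)
include h44 h3 h55 h60 h76

theorem exists_tup {h : G} (hA : F.Acts h) : ∃ t ∈ tupL, (inQ t.1 = true ∧ inQ t.2.1 = true ∧
    inQ t.2.2.1 = true ∧ inQ t.2.2.2 = true) ∧ h * F.f 3 * h⁻¹ = F.f t.1 ∧ h * F.f 55 * h⁻¹ = F.f t.2.1 ∧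
    h * F.f 60 * h⁻¹ = F.f t.2.2.1 ∧ h * F.f 44 * h⁻¹ = F.f t.2.2.2 := by
  obtain ⟨hz, hQ⟩ := hA
  obtain ⟨q3, q55, q60, q44⟩ := gens_inQ'
  have hQS := max_facts.1.2.1
  have hnc : ∀ {g j : Fin 192}, inQ g = true → sCl g ≠ 0 → inQ j = true → h * F.f g * h⁻¹ = F.f j →
      sCl j ≠ 0 := by
    intro g j hg hc hj e
    have ho : orderOf (F.f j) = 2 := by
      rw [← e, show h * F.f g * h⁻¹ = MulAut.conj h (F.f g) from rfl, MulEquiv.orderOf_eq,
        F.orderOf_f (hQS g hg) hc]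
    obtain ⟨j', hj', hje, hjc⟩ := F.exists_idx (F.f_mem (hQS j hj)) ho
    rwa [← F.inj _ _ hj' (hQS j hj) hje]
  have hsix : ∀ g, inQ g = true → sCl g ≠ 0 → g ≠ cT → F.T g → ∃ j, j ∈ sixL ∧ inQ j = true ∧
      h * F.f g * h⁻¹ = F.f j := by
    intro g hg hc hgz hT
    obtain ⟨j, hj, e⟩ := hQ g hg
    refine ⟨j, tupL_facts.2.1 j hj ((F.inA_iff_T h44 h3 h55 h60 h76 hj).2
      ⟨hnc hg hc hj e, (F.T_of_conj e).1 hT⟩) fun e' => hgz ?_, hj, e⟩
    refine F.inj _ _ (hQS g hg) inS_cT ?_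
    have h2 : h * F.f g * h⁻¹ = h * F.z * h⁻¹ := by rw [e, e', hz, mul_inv_cancel_right]; rfl
    exact mul_left_cancel (mul_right_cancel h2)
  have htw : ∀ g, inQ g = true → sCl g ≠ 0 → ¬ F.T g → ∃ j, j ∈ twelveL ∧ inQ j = true ∧
      h * F.f g * h⁻¹ = F.f j := by
    intro g hg hc hT
    obtain ⟨j, hj, e⟩ := hQ g hg
    exact ⟨j, tupL_facts.2.2 j hj ((F.inA_or h44 h3 h55 h60 h76 (hQS j hj) (hnc hg hc hj e)).2
      fun t => hT ((F.T_of_conj e).2 t)), hj, e⟩
  obtain ⟨a, ha, haQ, ea⟩ := hsix 3 q3 (by decide +kernel) (by decide) h3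
  obtain ⟨b, hb, hbQ, eb⟩ := htw 55 q55 (by decide +kernel) h55
  obtain ⟨c, hc, hcQ, ec⟩ := htw 60 q60 (by decide +kernel) h60
  obtain ⟨d, hd, hdQ, ed⟩ := hsix 44 q44 (by decide +kernel) (by decide) h44
  have hcm : ∀ {x x' y y' : Fin 192}, inQ x = true → inQ y = true → inQ x' = true → inQ y' = true →
      h * F.f x * h⁻¹ = F.f x' → h * F.f y * h⁻¹ = F.f y' → sCm x' y' = sCm x y := by
    intro x x' y y' hx hy hx' hy' e1 e2
    refine Bool.eq_iff_iff.2 ⟨fun e => F.cm_of_comm (hQS x hx) (hQS y hy) ?_,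
      fun e => F.cm_of_comm (hQS x' hx') (hQS y' hy') ?_⟩
    · refine (MulAut.conj h).injective ?_
      rw [map_mul, map_mul, MulAut.conj_apply, MulAut.conj_apply, e1, e2]
      exact F.comm_of_cm (hQS x' hx') (hQS y' hy') e
    · rw [← e1, ← e2, ← MulAut.conj_apply, ← MulAut.conj_apply, ← map_mul, ← map_mul,
        F.comm_of_cm (hQS x hx) (hQS y hy) e]
  refine ⟨(a, b, c, d), ?_, ⟨haQ, hbQ, hcQ, hdQ⟩, ea, eb, ec, ed⟩
  simp only [tupL, List.mem_filter, Bool.and_eq_true, beq_iff_eq, List.product, List.mem_flatMap,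
    List.mem_map]
  exact ⟨⟨a, ha, ⟨b, c, d⟩, ⟨b, hb, ⟨c, d⟩, ⟨c, hc, d, hd, rfl⟩, rfl⟩, rfl⟩,
    ⟨⟨⟨⟨hcm q3 q55 haQ hbQ ea eb, hcm q3 q60 haQ hcQ ea ec⟩, hcm q3 q44 haQ hdQ ea ed⟩,
      hcm q55 q60 hbQ hcQ eb ec⟩, hcm q55 q44 hbQ hdQ eb ed⟩, hcm q60 q44 hcQ hdQ ec ed⟩

variable (hO : centralizerPPrimeCore 2 F.z = ⊥)
include hna hO

theorem acts_of_centralizer {h : G} (hh : h * F.z = F.z * h) : F.Acts h := by
  obtain ⟨o, ho, n, hn, rfl⟩ := (F.centralizer_structure hna h44 h3 h55 h60 h76).1 h hh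
  rw [hO, mem_bot] at ho
  rwa [ho, one_mul]

theorem eq_of_centralises {n : G} (hn : n * F.z = F.z * n)
    (hc : ∀ i, inQ i = true → n * F.f i = F.f i * n) : n = 1 ∨ n = F.z := by
  obtain ⟨o, ho, i, hi, e⟩ := (F.centralizer_structure hna h44 h3 h55 h60 h76).2 n
    (F.acts_of_centralizer hna h44 h3 h55 h60 h76 hO hn)
    (fun i hi => Or.inl (mul_inv_eq_iff_eq_mul.2 (hc i hi)))
  rw [hO, mem_bot] at ho
  rw [ho, one_mul] at e
  subst e
  rcases quot_facts.2.2.2.2.2.2.1 i hi (fun j hj => F.inj _ _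
    (inS_mul (max_facts.1.2.1 i hi) (max_facts.1.2.1 j hj)) (inS_mul (max_facts.1.2.1 j hj) (max_facts.1.2.1 i hi))
    (by rw [F.fmul _ _ (max_facts.1.2.1 i hi) (max_facts.1.2.1 j hj),
      F.fmul _ _ (max_facts.1.2.1 j hj) (max_facts.1.2.1 i hi), hc j hj])) with e | e
  · exact Or.inl (by rw [e, F.fone])
  · exact Or.inr (by rw [e]; rfl)

theorem card_centralizer_le : Nat.card (centralizer ({F.z} : Set G)) ≤ 384 := by
  classical
  haveI := Fintype.ofFinite (centralizer ({F.z} : Set G))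
  have hA : ∀ h : centralizer ({F.z} : Set G), F.Acts (h : G) := fun h =>
    F.acts_of_centralizer hna h44 h3 h55 h60 h76 hO (mem_centralizer_singleton_iff.1 h.2)
  choose φ hφm hφQ hφ using fun h => F.exists_tup h44 h3 h55 h60 h76 (hA h)
  rw [Nat.card_eq_fintype_card, ← Finset.card_univ]
  have himg : (Finset.univ.image φ).card ≤ 192 :=
    (Finset.card_le_card (t := tupL.toFinset) fun t ht => by
      obtain ⟨h, -, rfl⟩ := Finset.mem_image.1 ht
      exact List.mem_toFinset.2 (hφm h)).trans ((List.toFinset_card_le _).trans tupL_facts.1.le)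
  refine le_trans (Finset.card_le_mul_card_image (f := φ) Finset.univ 2 fun t ht => ?_) (by omega)
  obtain ⟨h0, -, rfl⟩ := Finset.mem_image.1 ht
  refine le_trans (Finset.card_le_card (t := ({h0, h0 * ⟨F.z, mem_centralizer_singleton_iff.2 rfl⟩} :
    Finset _)) fun h hh => ?_) Finset.card_le_two
  rw [Finset.mem_filter] at hh
  have e := hh.2
  obtain ⟨q3, q55, q60, q44⟩ := gens_inQ'
  have hz0 : (h0 : G) * F.z * (h0 : G)⁻¹ = F.z :=
    mul_inv_eq_iff_eq_mul.2 (mem_centralizer_singleton_iff.1 h0.2)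
  have hz1 : (h : G) * F.z * (h : G)⁻¹ = F.z :=
    mul_inv_eq_iff_eq_mul.2 (mem_centralizer_singleton_iff.1 h.2)
  have hc : ∀ i, inQ i = true → (h : G) * F.f i * (h : G)⁻¹ = (h0 : G) * F.f i * (h0 : G)⁻¹ := by
    intro i hi
    obtain ⟨p1, p2, p3, p4⟩ := hφQ h0
    obtain ⟨a1, a2, a3, a4⟩ := hφ h0
    obtain ⟨b1, b2, b3, b4⟩ := hφ h
    rw [e] at b1 b2 b3 b4
    rw [F.conj_qWord _ hz0 p1 p2 p3 p4 a1 a2 a3 a4 hi, F.conj_qWord _ hz1 p1 p2 p3 p4 b1 b2 b3 b4 hi]
  rcases F.eq_of_centralises hna h44 h3 h55 h60 h76 hO (n := ((h0⁻¹ * h : _) : G))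
      (mem_centralizer_singleton_iff.1 (h0⁻¹ * h).2) (fun i hi => mul_inv_eq_iff_eq_mul.1 (by
        push_cast
        rw [show (h0 : G)⁻¹ * h * F.f i * ((h0 : G)⁻¹ * h)⁻¹ =
          (h0 : G)⁻¹ * ((h : G) * F.f i * (h : G)⁻¹) * h0 by group, hc i hi]
        group)) with p | p
  · rw [Finset.mem_insert]
    exact Or.inl (inv_mul_eq_one.1 (Subtype.ext p)).symm
  · rw [Finset.mem_insert, Finset.mem_singleton]
    exact Or.inr (eq_mul_of_inv_mul_eq (Subtype.ext p))

/-- An element acting as 56, inverted by 61. -/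
theorem exists_Y : ∃ Y : G, Y * F.z = F.z * Y ∧ Y * Y * Y = 1 ∧
    (∀ i, inQ i = true → Y * F.f i * Y⁻¹ = F.f (cConj 56 i)) ∧ F.f 61 * Y * (F.f 61)⁻¹ = Y⁻¹ := by
  classical
  haveI : Fact (Nat.Prime 2) := ⟨Nat.prime_two⟩
  obtain ⟨q3, q55, q60, q44⟩ := gens_inQ'
  have hQS := max_facts.1.2.1
  have hA := fun {h : G} (hh : h * F.z = F.z * h) => F.acts_of_centralizer hna h44 h3 h55 h60 h76 hO hh
  have hK := fun {n : G} (hn : n * F.z = F.z * n) hc => F.eq_of_centralises hna h44 h3 h55 h60 h76 hO (n := n) hn hc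
  -- an element of odd order
  obtain ⟨h, hhz, ho, h1⟩ : ∃ h : G, h * F.z = F.z * h ∧ Odd (orderOf h) ∧ h ≠ 1 := by
    obtain ⟨g, hgz, w, hw, hgw, -⟩ := F.exists_fix hna (v := 3) (Or.inl rfl) h3
    by_contra hc
    push Not at hc
    have hp : IsPGroup 2 (centralizer ({F.z} : Set G)) := by
      intro x
      have hpow := hc ((x : G) ^ ordProj[2] (orderOf (x : G)))
        ((Commute.pow_left (show Commute (x : G) F.z from mem_centralizer_singleton_iff.1 x.2) _).eq) (by
        rw [orderOf_pow' _ (Nat.ordProj_pos _ 2).ne', Nat.gcd_eq_right (Nat.ordProj_dvd _ 2)]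
        exact Nat.odd_iff.2 (Nat.two_dvd_ne_zero.1 (Nat.not_dvd_ordCompl Nat.prime_two (orderOf_pos _).ne')))
      exact ⟨(orderOf (x : G)).factorization 2, Subtype.ext (by rw [coe_pow]; exact hpow)⟩
    obtain ⟨j, hj, rfl⟩ := (F.mem_iff g).1 (F.le_P hp F.P_le_centralizer (mem_centralizer_singleton_iff.2 hgz))
    have h3S : inSyl 3 = true := by decide +kernel
    have hwS : inSyl w = true := by rcases hw with rfl | rfl <;> decide +kernel
    rw [← F.fconj hj h3S] at hgw
    have e := F.inj _ _ (inS_mul (inS_mul hj h3S) (inS_inv hj)) hwS hgw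
    rcases hw with rfl | rfl
    · exact (fix_three j hj).1 e
    · exact (fix_three j hj).2 e
  have h3c : h * h * h = 1 := by
    have e : h * h * h = h ^ 3 := by rw [pow_succ, sq]
    rw [e]
    rcases hK ((Commute.pow_left (show Commute h F.z from hhz) 3).eq)
        (F.act_odd h44 h3 h55 h60 h76 (hA hhz) ho).1 with p | p
    · exact p
    · exfalso
      have h2 : orderOf (h ^ 3) = 2 := by rw [p, F.orderOf_z]
      have hd : (2 : ℕ) ∣ orderOf h := h2 ▸ orderOf_pow_dvd 3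
      exact absurd hd (Nat.not_even_iff_odd.2 ho ∘ even_iff_two_dvd.2)
  obtain ⟨t, htm, ⟨qa, qb, qc, qd⟩, ea, eb, ec, ed⟩ := F.exists_tup h44 h3 h55 h60 h76 (hA hhz)
  have hhz' : h * F.z * h⁻¹ = F.z := mul_inv_eq_iff_eq_mul.2 hhz
  have hq := fun {i : Fin 192} (hi : inQ i = true) => F.conj_qWord h hhz' qa qb qc qd ea eb ec ed hi
  have hqQ : ∀ i, inQ i = true → inQ (qExt t.1 t.2.1 t.2.2.1 t.2.2.2 i) = true := fun i hi => by
    obtain ⟨j, hj, e⟩ := (hA hhz).2 i hi
    rw [hq hi] at e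
    have hS : inSyl (qExt t.1 t.2.1 t.2.2.1 t.2.2.2 i) = true :=
      inS_mul (hQS _ (qWord_inQ qa qb qc qd _)) (by split_ifs; exacts [inSyl_facts.1, inS_cT])
    rwa [F.inj _ _ hS (hQS j hj) e]
  set σ := qExt t.1 t.2.1 t.2.2.1 t.2.2.2 with hσ
  have hgQ : ∀ g ∈ [(3 : Fin 192), 55, 60, 44], inQ g = true := by
    simp only [List.forall_mem_cons, List.mem_nil_iff, false_imp_iff, implies_true, and_true]
    exact ⟨q3, q55, q60, q44⟩
  have hs3 : ([(3 : Fin 192), 55, 60, 44].all fun g => σ (σ (σ g)) == g) = true := by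
    refine List.all_eq_true.2 fun g hg => beq_iff_eq.2 ?_
    have g0 := hgQ g hg
    refine F.inj _ _ (hQS _ (hqQ _ (hqQ _ (hqQ _ g0)))) (hQS g g0) ?_
    rw [← hq (hqQ _ (hqQ _ g0)), ← hq (hqQ _ g0), ← hq g0,
      show h * (h * (h * F.f g * h⁻¹) * h⁻¹) * h⁻¹ = h * h * h * F.f g * (h * h * h)⁻¹ by group, h3c,
      one_mul, inv_one, mul_one]
  have hne : t ≠ (3, 55, 60, 44) := fun e => by
    rcases hK hhz (fun i hi => mul_inv_eq_iff_eq_mul.1 (by rw [hq hi, hσ, e, ext_facts.1 i hi])) with p | p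
    · exact h1 p
    · rw [p, F.orderOf_z] at ho
      exact absurd ho (by decide)
  have hcert0 := List.all_eq_true.1 order_three_cert t htm
  rw [hs3, show (t == (3, 55, 60, 44)) = false from beq_eq_false_iff_ne.2 hne, Bool.not_true, Bool.false_or,
    Bool.false_or] at hcert0
  obtain ⟨q, -, hcert⟩ := List.any_eq_true.1 hcert0
  simp only [Bool.and_eq_true, Bool.or_eq_true] at hcert
  obtain ⟨hqQ', hcert⟩ := hcert
  set Y0 := F.f q * h * (F.f q)⁻¹ with hY0
  have hY0z : Y0 * F.z = F.z * Y0 := by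
    have c : Commute (F.f q) F.z := F.comm_z (hQS q hqQ')
    exact ((c.mul_left hhz).mul_left c.inv_left).eq
  have hY03 : Y0 * Y0 * Y0 = 1 := by
    rw [show Y0 * Y0 * Y0 = F.f q * (h * h * h) * (F.f q)⁻¹ by rw [hY0]; group, h3c, mul_one, mul_inv_cancel]
  have hact : ∀ (k : Fin 192), (∀ i, inQ i = true → inQ (cConj k i) = true) →
      (∀ i, inQ i = true → qExt (cConj k 3) (cConj k 55) (cConj k 60) (cConj k 44) i = cConj k i) →
      ([(3 : Fin 192), 55, 60, 44].all fun g => cConj q (σ (cConj (cInv q) g)) == cConj k g) = true →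
      ∀ i, inQ i = true → Y0 * F.f i * Y0⁻¹ = F.f (cConj k i) := by
    intro k hkQ hk hall i hi
    have hg : ∀ g ∈ [(3 : Fin 192), 55, 60, 44], Y0 * F.f g * Y0⁻¹ = F.f (cConj k g) := fun g hg => by
      have hgS := hQS g (hgQ g hg)
      have hqS := hQS q hqQ'
      have hin : inQ (cConj (cInv q) g) = true :=
        max_facts.1.2.2.1 _ _ (max_facts.1.2.2.1 _ _ (max_facts.1.2.2.2.1 _ hqQ') (hgQ g hg))
          (max_facts.1.2.2.2.1 _ (max_facts.1.2.2.2.1 _ hqQ'))
      rw [← beq_iff_eq.1 (List.all_eq_true.1 hall g hg), F.fconj hqS (hQS _ (hqQ _ hin)), ← hq hin,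
        F.fconj (inS_inv hqS) hgS, F.finv hqS, hY0]
      group
    rw [← hk i hi]
    exact F.conj_qWord Y0 (mul_inv_eq_iff_eq_mul.2 hY0z) (hkQ _ q3) (hkQ _ q55) (hkQ _ q60) (hkQ _ q44)
      (hg 3 (by simp)) (hg 55 (by simp)) (hg 60 (by simp)) (hg 44 (by simp)) hi
  obtain ⟨Y, hYz, hY3, hY⟩ : ∃ Y : G, Y * F.z = F.z * Y ∧ Y * Y * Y = 1 ∧
      ∀ i, inQ i = true → Y * F.f i * Y⁻¹ = F.f (cConj 56 i) := by
    rcases hcert with c | c
    · exact ⟨Y0, hY0z, hY03, hact 56 (fun i hi => (ext_facts.2 i hi).2.2.1) (fun i hi => (ext_facts.2 i hi).1) c⟩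
    · have e := hact 145 (fun i hi => (ext_facts.2 i hi).2.2.2.1) (fun i hi => (ext_facts.2 i hi).2.1) c
      refine ⟨Y0⁻¹, (Commute.inv_left (show Commute Y0 F.z from hY0z)).eq, ?_, fun i hi => ?_⟩
      · rw [show Y0⁻¹ * Y0⁻¹ * Y0⁻¹ = (Y0 * Y0 * Y0)⁻¹ by group, hY03, inv_one]
      · obtain ⟨-, -, m56, -, hinv, -⟩ := ext_facts.2 i hi
        have hinv2 : cConj 145 (cConj 56 i) = i := by
          have key : ∀ i : Fin 192, inQ i = true → cConj 145 (cConj 56 i) = i := by decide +kernel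
          exact key i hi
        have e' := e (cConj 56 i) m56
        rw [hinv2] at e'
        rw [← e']; group
  refine ⟨Y, hYz, hY3, hY, ?_⟩
  have h61 : inSyl 61 = true := by decide +kernel
  set u := F.f 61 with hu
  have huz : Commute u F.z := F.comm_z h61
  have hY' : ∀ i, inQ i = true → u * Y * u⁻¹ * F.f i * (u * Y * u⁻¹)⁻¹ = Y⁻¹ * F.f i * Y := by
    intro i hi
    have hiS := hQS i hi
    obtain ⟨-, -, -, m145, hinv, hconj⟩ := ext_facts.2 i hi
    have hm : inQ (cConj (cInv 61) i) = true := by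
      have key : ∀ i : Fin 192, inQ i = true → inQ (cConj (cInv 61) i) = true := by decide +kernel
      exact key i hi
    have e1 : Y⁻¹ * F.f i * Y = F.f (cConj 145 i) := by
      have := hY _ m145
      rw [hinv] at this
      rw [← this]; group
    rw [e1, ← hconj, F.fconj h61 (hQS _ (ext_facts.2 _ hm).2.2.1), ← hY _ hm,
      F.fconj (inS_inv h61) hiS, F.finv h61, ← hu]
    group
  rcases hK (n := Y * (u * Y * u⁻¹))
      (((show Commute Y F.z from hYz).mul_left ((huz.mul_left hYz).mul_left huz.inv_left)).eq)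
      (fun i hi => mul_inv_eq_iff_eq_mul.1 (by
        rw [show Y * (u * Y * u⁻¹) * F.f i * (Y * (u * Y * u⁻¹))⁻¹ =
          Y * (u * Y * u⁻¹ * F.f i * (u * Y * u⁻¹)⁻¹) * Y⁻¹ by group, hY' i hi]
        group)) with p | p
  · exact eq_inv_of_mul_eq_one_right p
  · exfalso
    have e : u * Y * u⁻¹ = Y⁻¹ * F.z := eq_inv_mul_of_mul_eq p
    have h3' : (Y⁻¹ * F.z) ^ 3 = 1 := by
      rw [← e, pow_three, show u * Y * u⁻¹ * (u * Y * u⁻¹ * (u * Y * u⁻¹)) = u * (Y * Y * Y) * u⁻¹ by group,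
        hY3, mul_one, mul_inv_cancel]
    rw [(Commute.inv_left (show Commute Y F.z from hYz)).mul_pow, inv_pow,
      show Y ^ 3 = Y * Y * Y by rw [pow_succ, sq], hY3, inv_one, one_mul, pow_succ, sq, F.z_sq, one_mul] at h3'
    exact F.z_ne_one h3'

/-- The table group inside the centraliser of `z`. -/
theorem exists_setup : Nonempty (Setup G) := by
  classical
  haveI : Fact (Nat.Prime 2) := ⟨Nat.prime_two⟩
  obtain ⟨Y, hYz, hY3, hY, hu⟩ := F.exists_Y hna h44 h3 h55 h60 h76 hO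
  obtain ⟨hdec, hleft, h56, hgen, tS, tK, zS, zK, hout⟩ := dec_facts
  have hQS := max_facts.1.2.1
  have h61 : inSyl 61 = true := by decide +kernel
  have hY3' : Y ^ 3 = 1 := by rw [pow_succ, sq, hY3]
  let φ : Fin 192 → G := fun i => F.f (decS i) * Y ^ decK i
  have hmulS : ∀ s, inSyl s = true → ∀ i, φ (cMul s i) = F.f s * φ i := fun s hs i => by
    simp only [φ]
    rw [(hleft s hs i).1, (hleft s hs i).2, F.fmul _ _ hs (hdec i).1, mul_assoc]
  have hYs : ∀ s, inSyl s = true → φ (cMul 56 s) = Y * F.f s := by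
    intro s hs
    by_cases hq : inQ s = true
    · obtain ⟨⟨e1, e2⟩, -⟩ := hgen s hq
      simp only [φ]
      rw [e1, e2, pow_one, ← hY s hq, inv_mul_cancel_right]
    · have hq0 : inQ s = false := by simpa using hq
      have hm := quot_facts.2.2.2.2.2.2.2 s hs hq0
      obtain ⟨-, e1, e2⟩ := hgen _ hm
      rw [hout s hs hq0] at e1 e2
      simp only [φ]
      rw [e1, e2, F.fmul _ _ (hQS _ (ext_facts.2 _ hm).2.2.1) h61, ← hY _ hm]
      have e3 : F.f 61 * Y ^ 2 = Y * F.f 61 := by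
        have hu2 : F.f 61 * F.f 61 = 1 := (F.sq_eq h61).2 (by decide +kernel)
        have hu' : F.f 61 * Y = Y⁻¹ * F.f 61 := mul_inv_eq_iff_eq_mul.1 hu
        have hY2 : Y⁻¹ * Y⁻¹ = Y := by
          rw [← mul_inv_rev, inv_eq_iff_mul_eq_one]; exact hY3
        rw [sq, ← mul_assoc, hu', mul_assoc, hu', ← mul_assoc, hY2]
      rw [show Y * F.f (cMul s 61) * Y⁻¹ * F.f 61 * Y ^ 2 = Y * F.f (cMul s 61) * Y⁻¹ * (F.f 61 * Y ^ 2) by group,
        e3, show Y * F.f (cMul s 61) * Y⁻¹ * (Y * F.f 61) = Y * (F.f (cMul s 61) * F.f 61) by group,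
        ← F.fmul _ _ (inS_mul hs h61) h61, hout s hs hq0]
  have hmodY : ∀ n, Y ^ (n % 3) = Y ^ n := fun n => by
    conv_rhs => rw [← Nat.mod_add_div n 3, pow_add, pow_mul, hY3', one_pow, mul_one]
  have hmulY : ∀ i, φ (cMul 56 i) = Y * φ i := fun i => by
    have e := hYs _ (hdec i).1
    simp only [φ] at e ⊢
    rw [(h56 i).1, (h56 i).2, hmodY, pow_add, ← mul_assoc, e, mul_assoc]
  have hmulP : ∀ k j, φ (cMul (cPow 56 k) j) = Y ^ k * φ j := by
    intro k
    induction k with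
    | zero => intro j; rw [pow_zero, one_mul]; exact congrArg φ (cMul_inv j).2.2.1
    | succ k ih => intro j; rw [cPow, cMul_assoc, hmulY, ih, pow_succ', mul_assoc]
  have hmul : ∀ i j, φ (cMul i j) = φ i * φ j := fun i j => by
    conv_lhs => rw [← (hdec i).2.2, cMul_assoc, hmulS _ (hdec i).1, hmulP]
    simp only [φ, mul_assoc]
  have hker : ∀ i, φ i = 1 → i = 0 := by
    intro i hi
    simp only [φ] at hi
    have e : F.f (decS i) = (Y ^ decK i)⁻¹ := eq_inv_of_mul_eq_one_left hi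
    have h64 : F.f (decS i) ^ 64 = 1 := by
      rw [← F.card_P]
      exact congrArg Subtype.val (pow_card_eq_one' (x := (⟨_, F.f_mem (hdec i).1⟩ : (F.P : Subgroup G))))
    have h3p : F.f (decS i) ^ 3 = 1 := by
      rw [e, inv_pow, ← pow_mul, mul_comm, pow_mul, hY3', one_pow, inv_one]
    have h1 : F.f (decS i) = 1 := by
      have := pow_gcd_eq_one.2 ⟨h64, h3p⟩
      simpa using this
    have hs := F.inj _ _ (hdec i).1 inSyl_facts.1 (h1.trans F.fone.symm)
    have hd := (hdec i).2.2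
    rw [hs, (cMul_inv _).2.2.1] at hd
    have hk := (hdec i).2.1
    rw [h1, one_mul] at hi
    have hY1 : Y ≠ 1 := fun hY1 => by
      have := hY 3 gens_inQ'.1
      rw [hY1, one_mul, inv_one, mul_one] at this
      exact absurd (F.inj _ _ (hQS _ gens_inQ'.1) (hQS _ (ext_facts.2 3 gens_inQ'.1).2.2.1) this)
        (by decide +kernel)
    have hk0 : decK i = 0 := Nat.eq_zero_of_dvd_of_lt
      ((orderOf_eq_prime (p := 3) hY3' hY1) ▸ orderOf_dvd_of_pow_eq_one hi) hk
    rw [← hd, hk0]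
    rfl
  have hinj : Function.Injective φ := fun i j e => by
    have h0 := hker (cMul (cInv i) j) (by rw [hmul, ← e, ← hmul, (cMul_inv i).2.1]; simp [φ, zS, zK, F.fone])
    have h := congrArg (cMul i) h0
    rw [← cMul_assoc, (cMul_inv i).1, (cMul_inv j).2.2.1, (cMul_inv i).2.2.2] at h
    exact h.symm
  have hmem : ∀ i, φ i ∈ centralizer ({F.z} : Set G) := fun i =>
    mem_centralizer_singleton_iff.2 ((show Commute _ F.z from F.comm_z (hdec i).1).mul_left
      ((show Commute Y F.z from hYz).pow_left _)).eq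
  have hone : φ 0 = 1 := by simp [φ, zS, zK, F.fone]
  let R : Subgroup G :=
    { carrier := Set.range φ
      one_mem' := ⟨0, hone⟩
      mul_mem' := by rintro _ _ ⟨i, rfl⟩ ⟨j, rfl⟩; exact ⟨cMul i j, hmul i j⟩
      inv_mem' := by
        rintro _ ⟨i, rfl⟩
        exact ⟨cInv i, eq_inv_of_mul_eq_one_left (by rw [← hmul, (cMul_inv i).2.1, hone])⟩ }
  have hRle : R ≤ centralizer ({F.z} : Set G) := by rintro _ ⟨i, rfl⟩; exact hmem i
  have hRc : Nat.card R = 192 := (Nat.card_range_of_injective hinj).trans (Nat.card_fin 192)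
  obtain ⟨m, hm⟩ := card_dvd_of_le hRle
  have hle := F.card_centralizer_le hna h44 h3 h55 h60 h76 hO
  rw [hRc] at hm
  have hm1 : m ≠ 2 := fun e => by
    obtain ⟨K, hK⟩ := Sylow.exists_subgroup_card_pow_prime 2 (n := 7)
      (G := centralizer ({F.z} : Set G)) (by rw [hm, e]; norm_num)
    obtain ⟨k, -, hk⟩ := exists_conj_into (⊤ : Subgroup G) (K.map (centralizer ({F.z} : Set G)).subtype) F.P
      ((IsPGroup.of_card hK).map _) le_top F.P.isPGroup' le_top (fun R' h1 h2 _ => F.le_P h1 h2)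
    have := card_le_of_le (show (K.map (centralizer ({F.z} : Set G)).subtype).map (MulAut.conj k).toMonoidHom ≤
      (F.P : Subgroup G) by rintro _ ⟨x, hx, rfl⟩; exact hk x hx)
    rw [card_map_of_injective (MulAut.conj k).injective,
      card_map_of_injective (centralizer ({F.z} : Set G)).subtype_injective, hK, F.card_P] at this
    norm_num at this
  have hpos : 0 < Nat.card (centralizer ({F.z} : Set G)) := Nat.card_pos
  have hm2 : m ≤ 2 := by omega
  have heq : centralizer ({F.z} : Set G) = R :=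
    (eq_of_le_of_card_ge hRle (by rw [hm, hRc]; interval_cases m <;> omega)).symm
  refine ⟨⟨F.z, φ, hinj, hmul, by simp [φ, tS, tK]; rfl, fun g => ⟨fun h => ?_, ?_⟩⟩⟩
  · have hg : g ∈ R := heq ▸ mem_centralizer_singleton_iff.2 h
    exact hg
  · rintro ⟨i, rfl⟩
    exact mem_centralizer_singleton_iff.1 (hmem i)

end Frame

end Cfsg.Lib.MTwelveLocal
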