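import Cfsg.Agent.Lib.MTwelveLocal.FiftyFive

/-!
The odd core of the centraliser of the central involution is trivial: otherwise the normaliser of the generated
odd subgroup would contain the centralisers of all its involutions.
-/

set_option autoImplicit false
set_option linter.style.haveILetI false
set_option linter.unusedSectionVars false
set_option maxRecDepth 100000

namespace Cfsg.Lib.MTwelveLocal

open Cfsg Cfsg.Lib Cfsg.Lib.MTwelveRecog Subgroup
open Cfsg.Lib.Syl34 (th th_le odd_th commute_of_mem_th cent_le_norm_th th_conj th_conj_iff mem_of_pow_two odd_of_mem_th)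

theorem rep_comm : sCm 61 cT = true ∧ sCm 61 44 = true ∧ sCm 61 106 = true ∧ sCm 61 0 = true := by
  decide +kernel

universe u

/-- The four-group of two commuting involutions. -/
def fourOf {G : Type u} [Group G] (a x : G) (ha : a * a = 1) (hx : x * x = 1) (hc : a * x = x * a) :
    Subgroup G where
  carrier := {1, a, x, a * x}
  one_mem' := Or.inl rfl
  mul_mem' := by
    have e1 : a * (a * x) = x := by rw [← mul_assoc, ha, one_mul]
    have e2 : x * (a * x) = a := by rw [← mul_assoc, ← hc, mul_assoc, hx, mul_one]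
    have e3 : a * x * a = x := by rw [hc, mul_assoc, ha, mul_one]
    have e4 : a * x * x = a := by rw [mul_assoc, hx, mul_one]
    have e5 : a * x * (a * x) = 1 := by rw [← mul_assoc, e3, hx]
    rintro p q (rfl | rfl | rfl | rfl) (rfl | rfl | rfl | rfl) <;>
      simp [ha, hx, ← hc, e1, e2, e3, e4, e5]
  inv_mem' := by
    have e5 : a * x * (a * x) = 1 := by
      rw [← mul_assoc, hc, mul_assoc x a a, ha, mul_one, hx]
    rintro p (rfl | rfl | rfl | rfl)
    · simp
    · simp [inv_eq_of_mul_eq_one_left ha]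
    · simp [inv_eq_of_mul_eq_one_left hx]
    · simp [inv_eq_of_mul_eq_one_left e5]

namespace Frame

variable {G : Type u} [Group G] [Finite G] [IsSimpleGroup G] (F : Frame G) (hG : F.Good)
include hG

theorem exists_to_55_mem {i : Fin 192} (hi : inSyl i = true) (hc : sCl i ≠ 0) (hT : ¬ F.T i) :
    ∃ g ∈ F.mGrp, g * F.f i * g⁻¹ = F.f 55 := by
  haveI : Fact (Nat.Prime 2) := ⟨Nat.prime_two⟩
  obtain ⟨hna, h44, h3, h55, h60, h76⟩ := hG
  have hG' : F.Good := ⟨hna, h44, h3, h55, h60, h76⟩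
  obtain ⟨h, -, hh⟩ := List.any_eq_true.1 (sCl_wit i hi hc)
  simp only [Bool.and_eq_true, beq_iff_eq] at hh
  obtain ⟨hrS, -⟩ := F.isConj_sCl hi hc
  suffices hs : ∃ g ∈ F.mGrp, g * F.f (sCl i) * g⁻¹ = F.f 55 by
    obtain ⟨g, hg, e⟩ := hs
    refine ⟨g * (F.f h)⁻¹, mul_mem hg (inv_mem (F.P_le hG' (F.f_mem hh.1))), ?_⟩
    rw [← hh.2, F.fconj hh.1 hrS, ← e]; group
  have hTr : ¬ F.T (sCl i) := fun e => hT ((F.T_sCl hi hc).2 e)
  have hfour : ∀ r, Four r → ¬ F.T r → ∃ g ∈ F.mGrp, g * F.f r * g⁻¹ = F.f 55 := fun r hr hTr' => by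
    obtain ⟨g, hgz, e, -⟩ := F.exists_conj_four hr (Or.inr (Or.inl rfl)) h55 h44
      (F.isConj_55 hna h44 h3 h55 hr.inS.1 hr.inS.2.2 hTr').symm
    exact ⟨g, F.centralizer_le hG' (mem_centralizer_singleton_iff.2 hgz), e⟩
  rcases (sCl_facts i hi).2 hc with e | e | e | e | e | e | e <;> rw [e] at hTr ⊢
  · exact absurd h3 hTr
  · exact absurd F.T_z hTr
  · exact absurd h44 hTr
  · exact ⟨1, one_mem _, by simp⟩
  · exact hfour 60 (Or.inr (Or.inr (Or.inl rfl))) hTr
  · have h61S : inSyl 61 = true := by decide +kernel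
    obtain ⟨c, hcc⟩ := isConj_iff.1
      (F.isConj_55 hna h44 h3 h55 h61S (by rw [sCl_Four.2.2.2.2.1]; decide) hTr).symm
    have hQ : (F.centS 61).map (MulAut.conj c).toMonoidHom ≤ F.kGrp := by
      rintro _ ⟨x, hx, rfl⟩
      refine mem_centralizer_singleton_iff.2 ?_
      rw [← hcc]
      exact conj_comm c (mem_centralizer_singleton_iff.1 (Subgroup.mem_inf.1 hx).2)
    obtain ⟨k, hk, hkQ⟩ := exists_conj_into F.kGrp _ (F.centS 55)
      ((F.P.isPGroup'.to_le inf_le_left).map _) hQ (F.P.isPGroup'.to_le inf_le_left) inf_le_right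
      (fun R h1 h2 h3 => F.sylowK_max hG' R h1 h2 h3)
    refine ⟨k * c, F.mem_mGrp_of_map hG' ?_, ?_⟩
    · rintro _ ⟨v, hv, rfl⟩
      have hvS := inV_facts.2.1 v hv
      by_cases hv0 : v = 0
      · rw [hv0, F.fone, mul_one, mul_inv_cancel]; exact one_mem _
      have hv61 : sCm 61 v = true := by
        obtain ⟨a, b, c', d⟩ := rep_comm
        simp only [inV, Bool.or_eq_true, beq_iff_eq] at hv
        rcases hv with ((rfl | rfl) | rfl) | rfl
        exacts [d, a, b, c']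
      obtain ⟨j, hj, ej⟩ := (F.mem_centS55 _).1 (hkQ _ ⟨F.f v, (F.mem_centS h61S _).2
        ⟨v, by simp [hvS, hv61], rfl⟩, rfl⟩)
      have hjS : inSyl j = true := (Bool.and_eq_true _ _ ▸ hj : _ ∧ _).1
      have e' : k * c * F.f v * (k * c)⁻¹ = F.f j := by rw [ej]; simp [mul_inv_rev, mul_assoc]
      have hjc : sCl j ≠ 0 := by
        obtain ⟨j', hj', ej', hjc⟩ := F.exists_idx (F.f_mem hjS) (by
          rw [← e', Invol.orderOf_conj_eq]
          exact orderOf_eq_prime (by rw [sq]; exact (F.sq_eq hvS).2 (inV_facts.2.2.2.2.2.1 v hv)) (F.ne_one hvS hv0))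
        rwa [F.inj _ _ hj' hjS ej'] at hjc
      rw [e']
      exact F.vGrp_le_eGrp ⟨j, F.inV_of_T hG' hj hjc ((F.T_of_conj e').1 (F.T_of_inV hG' hv hv0)), rfl⟩
    · rw [show k * c * F.f 61 * (k * c)⁻¹ = k * (c * F.f 61 * c⁻¹) * k⁻¹ by group, hcc,
        mem_centralizer_singleton_iff.1 hk, mul_inv_cancel_right]
  · exact hfour 76 (Or.inr (Or.inr (Or.inr rfl))) hTr

theorem invol_facts {v : G} (hv : v ∈ F.mGrp) (hv2 : orderOf v = 2) :
    th v ≤ F.wGrp ∧ F.wGrp ⊓ centralizer ({v} : Set G) ≤ th v ∧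
      (¬ IsConj F.z v → ∃ g ∈ F.mGrp, g * v * g⁻¹ = F.f 55) := by
  haveI : Fact (Nat.Prime 2) := ⟨Nat.prime_two⟩
  by_cases hT : IsConj F.z v
  · exact ⟨(F.th_le_of_T hG hv hT).1, (F.th_le_of_T hG hv hT).2, fun h => absurd hT h⟩
  obtain ⟨k, hk, hkP⟩ := exists_conj_into F.mGrp (zpowers v) F.P
    (IsPGroup.of_card (p := 2) (n := 1) (by rw [Nat.card_zpowers, hv2]; rfl))
    (zpowers_le.2 hv) F.P.isPGroup' (F.P_le hG) (fun R' h1 h2 _ => F.le_P h1 h2)
  obtain ⟨i, hi, hie, hic⟩ := F.exists_idx (hkP v (mem_zpowers v)) (by rw [Invol.orderOf_conj_eq, hv2])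
  obtain ⟨g', hg', e'⟩ := F.exists_to_55_mem hG hi hic fun e => hT
    (IsConj.trans e (isConj_iff.2 ⟨k, hie.symm⟩).symm)
  set g := g' * k
  have hg : g ∈ F.mGrp := mul_mem hg' hk
  have e : g * v * g⁻¹ = F.f 55 := by rw [← e', hie]; simp only [g]; group
  refine ⟨fun c hc => (mem_normalizer_iff.1 hg c).2 (F.th55_le hG (e ▸ th_conj g v hc)),
    fun c hc => ?_, fun _ => ⟨g, hg, e⟩⟩
  obtain ⟨hcW, hcv⟩ := Subgroup.mem_inf.1 hc
  refine (th_conj_iff g v).1 ?_
  rw [e]
  refine F.wGrp_inf_le hG (Subgroup.mem_inf.2 ⟨(mem_normalizer_iff.1 hg c).1 hcW, mem_centralizer_singleton_iff.2 ?_⟩)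
  rw [← e]
  exact conj_comm g (mem_centralizer_singleton_iff.1 hcv)

/-- An element carrying a four-group of the normaliser into it lies in it. -/
theorem mem_of_four {a x : G} (ha : a ∈ F.mGrp) (hx : x ∈ F.mGrp) (ha2 : orderOf a = 2) (hx2 : orderOf x = 2)
    (hne : a ≠ x) (hc : Commute a x) {g : G} (hga : g * a * g⁻¹ ∈ F.mGrp) (hgx : g * x * g⁻¹ ∈ F.mGrp) :
    g ∈ F.mGrp := by
  haveI : Fact (Nat.Prime 2) := ⟨Nat.prime_two⟩
  set B := fourOf a x (Invol.inv_mul_self ha2) (Invol.inv_mul_self hx2) hc.eq with hB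
  have hBM : B ≤ F.mGrp := by
    rintro _ (rfl | rfl | rfl | rfl)
    exacts [one_mem _, ha, hx, mul_mem ha hx]
  have hgB : ∀ b ∈ B, g * b * g⁻¹ ∈ F.mGrp := by
    rintro _ (rfl | rfl | rfl | rfl)
    · simp
    · exact hga
    · exact hgx
    · rw [show g * (a * x) * g⁻¹ = g * a * g⁻¹ * (g * x * g⁻¹) by group]; exact mul_mem hga hgx
  have hsq : ∀ b ∈ B, b * b = 1 := by
    rintro _ (rfl | rfl | rfl | rfl)
    · exact one_mul 1
    · exact Invol.inv_mul_self ha2
    · exact Invol.inv_mul_self hx2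
    · rw [hc.symm.mul_mul_mul_comm, Invol.inv_mul_self ha2, Invol.inv_mul_self hx2, one_mul]
  have hcard : Nat.card B = 4 := by
    show Nat.card ({1, a, x, a * x} : Set G) = 4
    have h1 : a * x ≠ 1 := fun h => hne (by rw [eq_inv_of_mul_eq_one_left h, Invol.inv_eq_self hx2])
    rw [Nat.card_coe_set_eq, Set.ncard_insert_of_notMem (by
        simp [Ne.symm (Invol.ne_one ha2), Ne.symm (Invol.ne_one hx2), Ne.symm h1]),
      Set.ncard_insert_of_notMem (by simp [hne, Invol.ne_one hx2]),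
      Set.ncard_pair (fun h => Invol.ne_one ha2 (right_eq_mul.1 h))]
  haveI : IsMulCommutative B := ⟨⟨fun p q => Subtype.ext (by
    have h := hsq _ (mul_mem p.2 q.2)
    show (p : G) * q = q * p
    calc (p : G) * q = p * ((p : G) * q * (p * q)) * q := by rw [h, mul_one]
      _ = (p : G) * p * (q * p) * (q * q) := by group
      _ = q * p := by rw [hsq p p.2, hsq q q.2, one_mul, mul_one])⟩⟩
  have hnc : ¬ IsCyclic B := fun hcy => by
    obtain ⟨y, hy⟩ := hcy.exists_generator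
    have h4 := orderOf_eq_card_of_forall_mem_zpowers hy
    have hle := orderOf_le_of_pow_eq_one (x := y) (n := 2) two_pos
      (Subtype.ext (by rw [SubgroupClass.coe_pow, pow_two]; exact hsq y y.2))
    rw [hcard] at h4
    omega
  have hle : F.wGrp.map (MulAut.conj g).toMonoidHom ≤ F.wGrp := by
    refine map_le_iff_le_comap.2 ((Coprime.le_iSup_centralizer_of_not_isCyclic hnc hBM (by
      rw [hcard, show (4 : ℕ) = 2 ^ 2 from rfl]
      exact (Nat.coprime_two_left.2 (F.wGrp_facts hG).1).pow_left 2)).trans (iSup_le ?_))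
    rintro ⟨b, hb, hb1⟩ c hc'
    have hb2 : orderOf b = 2 := Invol.orderOf_eq_two_of hb1 (hsq b hb)
    have h := th_conj g b ((F.invol_facts hG (hBM hb) hb2).2.1 hc')
    exact (F.invol_facts hG (hgB b hb) (by rw [Invol.orderOf_conj_eq, hb2])).1 h
  exact mem_normalizer_fintype fun c hc' => hle ⟨c, hc', rfl⟩

theorem kGrp_le : F.kGrp ≤ F.mGrp := by
  haveI : Fact (Nat.Prime 2) := ⟨Nat.prime_two⟩
  intro g hg
  by_contra hgM
  have h55S : inSyl 55 = true := by decide +kernel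
  have h76S : inSyl 76 = true := by decide +kernel
  have hzK : F.z ∈ F.kGrp := F.f_mem_k (inC_facts.2.1 cT (by decide +kernel))
  set a := F.f 55 with ha
  set c := F.f 76 with hc
  have ha2 : orderOf a = 2 := F.orderOf_f h55S (by decide +kernel)
  have hc2 : orderOf c = 2 := F.orderOf_f h76S (by decide +kernel)
  have haM : a ∈ F.mGrp := F.P_le hG (F.f_mem h55S)
  have hcM : c ∈ F.mGrp := F.P_le hG (F.f_mem h76S)
  have hcK : c ∈ F.kGrp := F.f_mem_k inC_facts.2.2.2.1
  have htrick : ∀ x ∈ F.mGrp, orderOf x = 2 → x ≠ a → x ∈ F.kGrp → ∀ y ∈ F.kGrp, y * x * y⁻¹ ∈ F.mGrp →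
      y ∈ F.mGrp := fun x hx hx2 hxa hxK y hy hyx =>
    F.mem_of_four hG haM hx ha2 hx2 (Ne.symm hxa) (mem_centralizer_singleton_iff.1 hxK).symm
      (by rwa [mul_inv_eq_iff_eq_mul.2 (mem_centralizer_singleton_iff.1 hy)]) hyx
  set v := g * F.z * g⁻¹ with hv
  have hvM : v ∉ F.mGrp := fun h => hgM (F.mem_of_conj hG (F.P_le hG F.z_mem) (IsConj.refl _) h)
  have hvK : v ∈ F.kGrp := mul_mem (mul_mem hg hzK) (inv_mem hg)
  have hvT : IsConj F.z v := isConj_iff.2 ⟨g, rfl⟩
  have hv2 : orderOf v = 2 := by rw [hv, Invol.orderOf_conj_eq, F.orderOf_z]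
  have heven : Even (orderOf (c * v)) := by
    rw [← Nat.not_odd_iff_even]
    intro hodd
    obtain ⟨d, -, hd⟩ := Invol.exists_conj_of_odd hc2 hv2 hodd
    exact hG.h76 (hvT.trans (isConj_iff.2 ⟨d, hd⟩).symm)
  obtain ⟨hw2, hwc, hwv⟩ := Invol.central_involution hc2 hv2 heven
  set r := c * v with hr
  set w := r ^ (orderOf r / 2) with hw
  have hwK : w ∈ F.kGrp := pow_mem (mul_mem hcK hvK) _
  by_cases hwa : w = a
  · obtain ⟨n, hn⟩ := heven
    have hm : orderOf r / 2 = n := by omega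
    rw [hm] at hw
    rcases Nat.even_or_odd n with ⟨k, hk⟩ | ⟨k, hk⟩
    · -- 55 would be a square
      set s := r ^ k with hs
      have hs2 : s * s = a := by rw [hs, ← pow_add, ← hk, ← hw, hwa]
      have hs4 : orderOf s = 2 ^ 2 := by
        have h4 : s ^ (2 ^ 2) = 1 := by
          rw [show (2 : ℕ) ^ 2 = 2 * 2 by norm_num, pow_mul, sq s, hs2, sq, Invol.inv_mul_self ha2]
        refine orderOf_eq_prime_pow (fun h => Invol.ne_one ha2 ?_) h4
        rw [pow_one, sq, hs2] at h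
        exact h
      have hsK : s ∈ F.kGrp := pow_mem (mul_mem hcK hvK) _
      obtain ⟨d, hd, hdC⟩ := exists_conj_into F.kGrp (zpowers s) (F.centS 55)
        (IsPGroup.of_card (p := 2) (n := 2) (by rw [Nat.card_zpowers, hs4]))
        (zpowers_le.2 hsK) (F.P.isPGroup'.to_le inf_le_left) inf_le_right
        (fun R h1 h2 h3 => F.sylowK_max hG R h1 h2 h3)
      obtain ⟨j, hj, ej⟩ := (F.mem_centS55 _).1 (hdC s (mem_zpowers s))
      have hjS : inSyl j = true := (Bool.and_eq_true _ _ ▸ hj : _ ∧ _).1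
      have hjj : F.f (cMul j j) = F.f 55 := by
        rw [F.fmul _ _ hjS hjS, ej, show d * s * d⁻¹ * (d * s * d⁻¹) = d * (s * s) * d⁻¹ by group, hs2,
          mul_inv_eq_iff_eq_mul.2 (mem_centralizer_singleton_iff.1 hd)]
      have := F.inj _ _ (inS_mul hjS hjS) h55S hjj
      rcases inC_facts.2.2.2.2.2.2.2 j hj with e | e <;> rw [e] at this <;> exact absurd this (by decide)
    · -- 76 55 would be conjugate to `v`
      have hcr : c * r * c⁻¹ = r⁻¹ := by
        rw [hr, mul_inv_rev, Invol.inv_eq_self hc2, Invol.inv_eq_self hv2, ← mul_assoc, Invol.inv_mul_self hc2,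
          one_mul]
      have hck : c * r ^ k = (r ^ k)⁻¹ * c := by
        refine mul_inv_eq_iff_eq_mul.1 ?_
        rw [← inv_pow, ← hcr, conj_pow]
      have hca : c * a = (r ^ k)⁻¹ * v * r ^ k := by
        rw [← hwa, hw, hk, show r ^ (2 * k + 1) = r ^ k * r * r ^ k by group, ← mul_assoc, ← mul_assoc, hck,
          show (r ^ k)⁻¹ * c * r * r ^ k = (r ^ k)⁻¹ * (c * r) * r ^ k by group, hr, ← mul_assoc c c v,
          Invol.inv_mul_self hc2, one_mul]
      refine F.not_T_four hG (u := 166) (Or.inr (Or.inr rfl)) ?_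
      show IsConj F.z (F.f 166)
      rw [← rep55_facts.2.2.2.2.2.2.2.1, F.fmul _ _ h76S h55S, ← hc, ← ha, hca]
      exact hvT.trans (isConj_iff.2 ⟨(r ^ k)⁻¹, by group⟩)
  · have hwM : w ∈ F.mGrp := htrick c hcM hc2 (fun e => absurd
      (F.inj _ _ h76S h55S e) (by decide)) hcK w hwK (by rwa [mul_inv_eq_iff_eq_mul.2 hwc.eq])
    exact hvM (htrick w hwM hw2 hwa hwK v hvK (by rwa [mul_inv_eq_iff_eq_mul.2 hwv.symm.eq]))

theorem cent_le_of_mem {w : G} (hw : w ∈ F.mGrp) (hw2 : orderOf w = 2) :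
    centralizer ({w} : Set G) ≤ F.mGrp := by
  by_cases hT : IsConj F.z w
  · exact F.cent_of_T hG hw hT
  obtain ⟨g, hg, e⟩ := (F.invol_facts hG hw hw2).2.2 hT
  intro x hx
  have h : g * x * g⁻¹ ∈ F.kGrp := mem_centralizer_singleton_iff.2 (by
    rw [← e]; exact conj_comm g (mem_centralizer_singleton_iff.1 hx))
  have h' := F.kGrp_le hG h
  rw [show x = g⁻¹ * (g * x * g⁻¹) * g by group]
  exact mul_mem (mul_mem (inv_mem hg) h') hg

/-- The odd core of the centraliser of `z` is trivial. -/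
theorem core_bot : centralizerPPrimeCore 2 F.z = ⊥ := by
  by_contra hO
  obtain ⟨g, hg⟩ : ∃ g, g ∉ F.mGrp := by
    by_contra hc
    push Not at hc
    exact F.mGrp_ne_top hG hO (eq_top_iff.2 fun g _ => hc g)
  have h55S : inSyl 55 = true := by decide +kernel
  set a := F.f 55 with ha
  have ha2 : orderOf a = 2 := F.orderOf_f h55S (by decide +kernel)
  set v := g * F.z * g⁻¹ with hv
  have hvM : v ∉ F.mGrp := fun h => hg (F.mem_of_conj hG (F.P_le hG F.z_mem) (IsConj.refl _) h)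
  have hv2 : orderOf v = 2 := by rw [hv, Invol.orderOf_conj_eq, F.orderOf_z]
  have heven : Even (orderOf (a * v)) := by
    rw [← Nat.not_odd_iff_even]
    intro hodd
    obtain ⟨d, -, hd⟩ := Invol.exists_conj_of_odd ha2 hv2 hodd
    exact hG.h55 ((isConj_iff.2 ⟨g, hv.symm⟩ : IsConj F.z v).trans (isConj_iff.2 ⟨d, hd⟩).symm)
  obtain ⟨hw2, hwa, hwv⟩ := Invol.central_involution ha2 hv2 heven
  have hwM := F.cent_le_of_mem hG (F.P_le hG (F.f_mem h55S)) ha2 (mem_centralizer_singleton_iff.2 hwa.eq)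
  exact hvM (F.cent_le_of_mem hG hwM hw2 (mem_centralizer_singleton_iff.2 hwv.symm.eq))

end Frame

end Cfsg.Lib.MTwelveLocal
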