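import Cfsg.Agent.Lib.MTwelveRecog.Setup

/-!
The Sylow 2-subgroup of the table group: classes, maximal subgroups and an automorphism.
-/

set_option autoImplicit false
set_option maxRecDepth 100000
set_option linter.style.longLine false

namespace Cfsg.Lib.MTwelveLocal

open Cfsg.Lib.MTwelveRecog

/-- The least member of the class in the Sylow subgroup of an involution of it, and 0 elsewhere. -/
def sCl (i : Fin 192) : Fin 192 :=
  idxAt 10952273694004099733478842882996774597756001656406079171494954551928080862413068782518361555952428293386141731162487557574783959002363013015665928597143588030296776925574005023655833560150768587097789751112615157475484178227298751228817452983194397114775716895718278439190280105951005638834372042647165129659874188502246014372198824095770175882919516599516397668869906681335537871992087140172025832825298116592393009649445854274072981273785898839733138620416 i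

/-- A map of the indices restricting to an automorphism of the Sylow subgroup. -/
def sSwap (i : Fin 192) : Fin 192 :=
  idxAt 1805317954514008593132493928552490408419615648238790658213100434264351334350388752936452659522141103026021058167406803969992463852182995245654231415713229101778483533050643070416467602895410169783703258428811416055322154163172621938781500661903988520042793121163259540247816082302410295005614318733586766215023668743660784739435255338867925798488877142212185534684365344019080433612892712190636963451739246678253271338516698654282746562294045689132371956589527296 i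

/-- The elements commuting with `i`. -/
def sCm (i j : Fin 192) : Bool := cMul i j == cMul j i

/-- The commutator. -/
def sComm (i j : Fin 192) : Fin 192 := cMul (cMul i j) (cMul (cInv i) (cInv j))

/-- The extraspecial subgroup of order 32. -/
def inQ (i : Fin 192) : Bool :=
  Nat.testBit 1373119852750384833189273100866824403405030506966710501385 i

/-- The maximal subgroup with the classes of 14, 44 and 60. -/
def inM60 (i : Fin 192) : Bool :=
  Nat.testBit 588478395940786921186483196009742972811535305317546475537 i

/-- The maximal subgroup with the classes of 14, 44 and 76. -/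
def inM76 (i : Fin 192) : Bool :=
  Nat.testBit 784641462849197410489460073772867172682394060201527140353 i

/-- The maximal subgroup with the classes of 3, 14, 44 and 55. -/
def inM3 (i : Fin 192) : Bool :=
  Nat.testBit 735925017075953199946113024483642022944366617 i

/-- The centraliser of 44 in the Sylow subgroup. -/
def inM0 (i : Fin 192) : Bool :=
  Nat.testBit 73559812731845607001240931391734268716815423344136962057 i

theorem sCl_facts : ∀ i : Fin 192, inSyl i = true →
    ((cMul i i = 0 ∧ i ≠ 0) ↔ sCl i ≠ 0) ∧
    (sCl i ≠ 0 → sCl i = 3 ∨ sCl i = cT ∨ sCl i = 44 ∨ sCl i = 55 ∨ sCl i = 60 ∨ sCl i = 61 ∨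
      sCl i = 76) := by
  decide +kernel

theorem sCl_wit : ∀ i : Fin 192, inSyl i = true → sCl i ≠ 0 →
    (List.finRange 192).any (fun h => inSyl h && (cConj h (sCl i) == i)) = true := by
  decide +kernel

theorem sCl_eq : sCl cT = cT ∧ sCl 44 = 44 ∧ sCl 106 = 44 ∧
    (∀ i : Fin 192, sCl i = cT → i = cT) ∧
    (∀ i : Fin 192, sCl i = 44 → i = 44 ∨ i = 106) := by
  decide +kernel

theorem sSwap_facts : (∀ i : Fin 192, inSyl i = true → inSyl (sSwap i) = true) ∧
    (∀ i j : Fin 192, inSyl i = true → inSyl j = true → sSwap (cMul i j) = cMul (sSwap i) (sSwap j)) ∧
    (∀ i j : Fin 192, inSyl i = true → inSyl j = true → sSwap i = sSwap j → i = j) ∧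
    sCl (sSwap 3) = 55 ∧ sCl (sSwap 55) = 3 ∧ sSwap cT = cT ∧ sCl (sSwap 44) = 44 := by
  decide +kernel

theorem comm_invol : ∀ i j : Fin 192, inSyl i = true → inSyl j = true →
    cMul (sComm i j) (sComm i j) = 0 →
    sComm i j = 0 ∨ sComm i j = cT ∨ sComm i j = 44 ∨ sComm i j = 106 := by
  decide +kernel

theorem card_cent : ∀ i : Fin 192, inSyl i = true →
    (sCl i = 3 ∨ sCl i = 55 ∨ sCl i = 60 ∨ sCl i = 76 →
      ((List.finRange 192).filter fun j => inSyl j && sCm i j).length = 16) ∧
    (sCl i = 61 → ((List.finRange 192).filter fun j => inSyl j && sCm i j).length = 8) ∧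
    (sCl i = 44 → ((List.finRange 192).filter fun j => inSyl j && sCm i j).length = 32) := by
  decide +kernel

end Cfsg.Lib.MTwelveLocal
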