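import Cfsg.Agent.Lib.MTwelveLocal.Signal
import Cfsg.Agent.Lib.Syl34.FourCount

/-!
The centraliser of an involution outside the class of the central one: its odd core is its intersection with
the generated odd subgroup.
-/

set_option autoImplicit false
set_option linter.style.haveILetI false
set_option linter.unusedSectionVars false
set_option maxRecDepth 100000

namespace Cfsg.Lib.MTwelveLocal

open Cfsg Cfsg.Lib Cfsg.Lib.MTwelveRecog Subgroup
open Cfsg.Lib.Syl34 (th th_le odd_th commute_of_mem_th cent_le_norm_th th_conj th_conj_iff mem_of_pow_two odd_of_mem_th)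

/-- The centraliser of 55 in the Sylow subgroup. -/
def inC (i : Fin 192) : Bool := inSyl i && sCm 55 i

/-- A dihedral complement of 55. -/
def inD (i : Fin 192) : Bool := inV i || inV (cMul 76 i)

/-- The four-group with 55. -/
def inU (i : Fin 192) : Bool := inV i || inV (cMul 55 i)

theorem inD_facts : inD 0 = true ∧ (∀ i, inD i = true → inSyl i = true) ∧
    (∀ i j, inD i = true → inD j = true → inD (cMul i j) = true) ∧
    (∀ i, inD i = true → inD (cInv i) = true) ∧ ((List.finRange 192).filter inD).length = 8 ∧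
    (∀ i, inD i = true → inC i = true) ∧ inD 55 = false := by
  refine ⟨?_, ?_, ?_, ?_, ?_, ?_, ?_⟩ <;> decide +kernel

theorem inU_facts : inU 0 = true ∧ (∀ i, inU i = true → inSyl i = true) ∧
    (∀ i j, inU i = true → inU j = true → inU (cMul i j) = true) ∧
    (∀ i, inU i = true → inU (cInv i) = true) ∧ ((List.finRange 192).filter inU).length = 8 ∧
    (∀ i, inU i = true → inC i = true) ∧ inU 76 = false ∧ inU 166 = false := by
  refine ⟨?_, ?_, ?_, ?_, ?_, ?_, ?_, ?_⟩ <;> decide +kernel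

theorem inC_facts : ((List.finRange 192).filter inC).length = 16 ∧
    (∀ i, inV i = true → inC i = true) ∧ inC 55 = true ∧ inC 76 = true ∧ inC 166 = true ∧
    (∀ i, inC i = true → inV i = true ∨ inV (cMul 55 i) = true ∨ inV (cMul 76 i) = true ∨
      inV (cMul 166 i) = true) ∧
    (∀ i, inC i = true → sCl i ≠ 0 → inV i = true ∨ sCl i = 55 ∨ sCl i = 60 ∨ sCl i = 76) ∧
    (∀ i, inC i = true → cMul i i = 0 ∨ cMul i i = cT) := by
  refine ⟨?_, ?_, ?_, ?_, ?_, ?_, ?_, ?_⟩ <;> decide +kernel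

theorem rep55_facts : sComm 44 76 = cT ∧ cConj 76 44 = 106 ∧ cConj 76 106 = 44 ∧
    cMul 55 55 = 0 ∧ cMul 76 76 = 0 ∧ cMul 166 166 = 0 ∧ sCl 166 = 60 ∧
    (cMul 76 55 = 166 ∧ cMul 55 76 = 166 ∧ cMul 166 55 = 76) := by
  refine ⟨?_, ?_, ?_, ?_, ?_, ?_, ?_, ?_, ?_, ?_⟩ <;> decide +kernel

/-- An element of odd order lies in a subgroup of index two. -/
theorem mem_of_index_two_of_odd {G : Type*} [Group G] [Finite G] {M : Subgroup G} (hM : M.index = 2) {x : G}
    (hx : Odd (orderOf x)) : x ∈ M :=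
  mem_of_pow_two hx (k := 1) (by rw [pow_one, pow_two, mul_mem_iff_of_index_two hM])

universe u

namespace Frame

variable {G : Type u} [Group G] (F : Frame G)

/-- The centraliser of 55. -/
abbrev kGrp : Subgroup G := centralizer ({F.f 55} : Set G)

variable [Finite G]

theorem card_centS55 : Nat.card (F.centS 55) = 16 :=
  (F.card_centS (by decide +kernel)).trans inC_facts.1

theorem mem_centS55 (g : G) : g ∈ F.centS 55 ↔ ∃ i, inC i = true ∧ F.f i = g :=
  F.mem_centS (by decide +kernel) g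

theorem f_mem_k {i : Fin 192} (hi : inC i = true) : F.f i ∈ F.kGrp :=
  (Subgroup.mem_inf.1 ((F.mem_centS55 _).2 ⟨i, hi, rfl⟩)).2

variable [IsSimpleGroup G] (hG : F.Good)
include hG

theorem not_T_four {u : Fin 192} (hu : u = 55 ∨ u = 76 ∨ u = 166) : ¬ F.T u := by
  rcases hu with rfl | rfl | rfl
  · exact hG.h55
  · exact hG.h76
  · rw [F.T_sCl (by decide +kernel) (by rw [rep55_facts.2.2.2.2.2.2.1]; decide), rep55_facts.2.2.2.2.2.2.1]
    exact hG.h60

theorem inV_of_T {i : Fin 192} (hi : inC i = true) (hc : sCl i ≠ 0) (hT : F.T i) : inV i = true := by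
  have hiS : inSyl i = true := (Bool.and_eq_true _ _ ▸ hi : _ ∧ _).1
  have h := (F.T_sCl hiS hc).1 hT
  rcases inC_facts.2.2.2.2.2.2.1 i hi hc with e | e | e | e
  · exact e
  · exact absurd (e ▸ h) hG.h55
  · exact absurd (e ▸ h) hG.h60
  · exact absurd (e ▸ h) hG.h76

theorem T_of_inV {i : Fin 192} (hi : inV i = true) (h0 : i ≠ 0) : F.T i := by
  simp only [inV, Bool.or_eq_true, beq_iff_eq] at hi
  rcases hi with ((e | rfl) | rfl) | rfl
  exacts [absurd e h0, F.T_z, hG.h44, F.T_44_iff_106.1 hG.h44]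

theorem th55_le : th (F.f 55) ≤ F.wGrp := by
  haveI : Fact (Nat.Prime 2) := ⟨Nat.prime_two⟩
  have hV2 : ∀ v ∈ F.vGrp, v * v = 1 := by
    rintro _ ⟨i, hi, rfl⟩
    exact (F.sq_eq (inV_facts.2.1 i hi)).2 (inV_facts.2.2.2.2.2.1 i hi)
  haveI : IsMulCommutative F.vGrp := ⟨⟨fun a b => Subtype.ext (by
    have h := hV2 _ (mul_mem a.2 b.2)
    show (a : G) * b = b * a
    calc (a : G) * b = a * ((a : G) * b * (a * b)) * b := by rw [h, mul_one]
      _ = (a : G) * a * (b * a) * (b * b) := by group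
      _ = b * a := by rw [hV2 a a.2, hV2 b b.2, one_mul, mul_one])⟩⟩
  have hVn : F.vGrp ≤ normalizer (th (F.f 55) : Set G) := by
    rintro _ ⟨i, hi, rfl⟩
    exact cent_le_norm_th _ (F.f_mem_k (inC_facts.2.1 i hi))
  have hnc : ¬ IsCyclic F.vGrp := fun hc => by
    obtain ⟨g, hg⟩ := hc.exists_generator
    have h4 := orderOf_eq_card_of_forall_mem_zpowers hg
    have hle := orderOf_le_of_pow_eq_one (x := g) (n := 2) two_pos
      (Subtype.ext (by rw [SubgroupClass.coe_pow, pow_two]; exact hV2 g g.2))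
    rw [F.card_vGrp] at h4
    omega
  refine (Coprime.le_iSup_centralizer_of_not_isCyclic hnc hVn (by
    rw [F.card_vGrp, show (4 : ℕ) = 2 ^ 2 from rfl]
    exact (Nat.coprime_two_left.2 (odd_th _)).pow_left 2)).trans (iSup_le ?_)
  rintro ⟨v, hv, hv1⟩
  have hvE := F.vGrp_le_eGrp hv
  obtain ⟨i, hi, rfl⟩ := hv
  have hodd : Odd (Nat.card ↥(th (F.f 55) ⊓ centralizer ({F.f i} : Set G))) :=
    (odd_th _).of_dvd_nat (card_dvd_of_le inf_le_left)
  have hnorm : ∀ x, x ∈ F.kGrp → Commute x (F.f i) →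
      x ∈ normalizer ((th (F.f 55) ⊓ centralizer ({F.f i} : Set G) : Subgroup G) : Set G) := by
    intro x hx hc
    refine mem_normalizer_fintype fun d hd => ?_
    obtain ⟨hd1, hd2⟩ := Subgroup.mem_inf.1 hd
    exact Subgroup.mem_inf.2 ⟨(mem_normalizer_iff.1 (cent_le_norm_th _ hx) d).1 hd1,
      mem_centralizer_singleton_iff.2
        ((hc.mul_left (show Commute d _ from mem_centralizer_singleton_iff.1 hd2)).mul_left hc.inv_left).eq⟩
  refine le_trans ?_ (le_iSup_of_le ⟨_, hvE, hv1⟩ le_rfl)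
  simp only [inV, Bool.or_eq_true, beq_iff_eq] at hi
  rcases hi with ((rfl | rfl) | h4) | h6
  · exact absurd F.fone hv1
  · exact F.le_th_z hG inf_le_right hodd (q := 55) gens_inQ'.2.1 (by decide) (by decide)
      (hnorm _ (F.f_mem_k inC_facts.2.2.1) (F.comm_z (by decide +kernel)))
  · exact F.le_th_w hG (Or.inl h4) inf_le_right hodd (hnorm _ (F.f_mem_k (inC_facts.2.1 cT (by decide +kernel)))
      ((show Commute (F.f i) F.z from F.comm_z (by rw [h4]; decide +kernel)).symm))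
  · exact F.le_th_w hG (Or.inr h6) inf_le_right hodd (hnorm _ (F.f_mem_k (inC_facts.2.1 cT (by decide +kernel)))
      ((show Commute (F.f i) F.z from F.comm_z (by rw [h6]; decide +kernel)).symm))

theorem sylowK_max (R' : Subgroup G) (hR : IsPGroup 2 R') (hle : F.centS 55 ≤ R') (hK : R' ≤ F.kGrp) :
    R' ≤ F.centS 55 :=
  F.centS_max (Or.inr (Or.inl rfl)) hG.h55 R' hR hle hK hG.h44

theorem exists_index_two (p : Fin 192 → Bool) (h0 : p 0 = true) (hS : ∀ i, p i = true → inSyl i = true)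
    (hm : ∀ i j, p i = true → p j = true → p (cMul i j) = true) (hv : ∀ i, p i = true → p (cInv i) = true)
    (h8 : ((List.finRange 192).filter p).length = 8) (hC : ∀ i, p i = true → inC i = true)
    {u : Fin 192} (hu : inC u = true) (hu2 : cMul u u = 0) (hu0 : u ≠ 0) (hup : p u = false)
    (hno : ∀ g ∈ F.kGrp, ∀ e, p e = true → g * F.f u * g⁻¹ ≠ F.f e) :
    ∃ M : Subgroup F.kGrp, M.Normal ∧ M.index = 2 ∧
      (⟨F.f u, F.f_mem_k hu⟩ : F.kGrp) ∉ M := by
  haveI : Fact (Nat.Prime 2) := ⟨Nat.prime_two⟩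
  have hCK : F.centS 55 ≤ F.kGrp := inf_le_right
  have hQC : F.sub p h0 hS hm hv ≤ F.centS 55 := by
    rintro _ ⟨i, hi, rfl⟩; exact (F.mem_centS55 _).2 ⟨i, hC i hi, rfl⟩
  let PK : Sylow 2 F.kGrp :=
    { toSubgroup := (F.centS 55).subgroupOf F.kGrp
      isPGroup' := (F.P.isPGroup'.to_le inf_le_left).of_equiv (subgroupOfEquivOfLe hCK).symm
      is_maximal' := by
        intro Q hQ hle
        refine le_antisymm (fun x hx => ?_) hle
        exact F.sylowK_max hG (Q.map F.kGrp.subtype) (hQ.map _)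
          (fun y hy => ⟨⟨y, hCK hy⟩, hle (mem_subgroupOf.2 hy), rfl⟩) (map_subtype_le _) ⟨x, hx, rfl⟩ }
  have huS : inSyl u = true := (Bool.and_eq_true _ _ ▸ hu : _ ∧ _).1
  have hrel : ((F.sub p h0 hS hm hv).subgroupOf F.kGrp).relIndex (PK : Subgroup F.kGrp) = 2 := by
    have hle : (F.sub p h0 hS hm hv).subgroupOf F.kGrp ≤ (PK : Subgroup F.kGrp) := comap_mono hQC
    have h1 := (((F.sub p h0 hS hm hv).subgroupOf F.kGrp).subgroupOf (PK : Subgroup F.kGrp)).index_mul_card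
    rw [Nat.card_congr (subgroupOfEquivOfLe hle).toEquiv,
      Nat.card_congr (subgroupOfEquivOfLe (hQC.trans hCK)).toEquiv,
      F.card_of_pred p hS _ (fun _ => Iff.rfl), h8] at h1
    rw [show Nat.card (PK : Subgroup F.kGrp) = 16 from
      (Nat.card_congr (subgroupOfEquivOfLe hCK).toEquiv).trans F.card_centS55] at h1
    rw [relIndex]
    omega
  rcases Cfsg.Agent.S0111.result PK ((F.sub p h0 hS hm hv).subgroupOf F.kGrp) (comap_mono hQC) hrel
      ⟨F.f u, F.f_mem_k hu⟩ (by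
        rw [← orderOf_coe]
        exact orderOf_eq_prime (by rw [sq]; exact (F.sq_eq huS).2 hu2) (F.ne_one huS hu0))
      (mem_subgroupOf.2 ((F.mem_centS55 _).2 ⟨u, hu, rfl⟩)) (fun h => by
        obtain ⟨i, hi, e⟩ := mem_subgroupOf.1 h
        rw [F.inj _ _ (hS i hi) huS e, hup] at hi
        exact Bool.noConfusion hi) with h | ⟨g, hg⟩
  · exact h
  · exfalso
    obtain ⟨e, he, hee⟩ := mem_subgroupOf.1 hg
    exact hno (g : G) g.2 e he hee.symm

/-- A normal subgroup of the centraliser of 55 with Sylow subgroup the four-group. -/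
theorem exists_kTwo (hfus : ∃ k ∈ F.kGrp, ∃ w, (w = 44 ∨ w = 106) ∧ k * F.z * k⁻¹ = F.f w) :
    ∃ K2 : Subgroup G, K2 ≤ F.kGrp ∧ F.kGrp ≤ normalizer (K2 : Set G) ∧
      (∀ x ∈ F.kGrp, Odd (orderOf x) → x ∈ K2) ∧
      (∀ i, inC i = true → (F.f i ∈ K2 ↔ inV i = true)) ∧
      ∀ v, inV v = true → v ≠ 0 → ∃ m ∈ K2, m ∈ F.mGrp ∧ m * F.z * m⁻¹ = F.f v := by
  haveI : Fact (Nat.Prime 2) := ⟨Nat.prime_two⟩
  obtain ⟨h0D, hSD, hmD, hvD, h8D, hCD, h55D⟩ := inD_facts
  obtain ⟨h0U, hSU, hmU, hvU, h8U, hCU, h76U, h166U⟩ := inU_facts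
  obtain ⟨rcomm, rc44, rc106, s55, s76, s166, -, r76, r55, r166⟩ := rep55_facts
  have h55S : inSyl 55 = true := by decide +kernel
  have hnoU : ∀ u, (u = 76 ∨ u = 166) → ∀ g ∈ F.kGrp, ∀ e, inU e = true → g * F.f u * g⁻¹ ≠ F.f e := by
    intro u hu g hg e he hge
    have huS : inSyl u = true := by rcases hu with rfl | rfl <;> decide +kernel
    have hgen : ∀ {a b : Fin 192}, inV b = true → ¬ F.T a → inSyl a = true → a ≠ 0 →
        g * F.f a * g⁻¹ = F.f b → False := by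
      intro a b hb ha haS ha0 hab
      by_cases hb0 : b = 0
      · rw [hb0, F.fone, conj_eq_one_iff] at hab
        exact F.ne_one haS ha0 hab
      · exact ha ((F.T_of_conj hab).2 (F.T_of_inV hG hb hb0))
    have hu' : ¬ F.T u := F.not_T_four hG (Or.inr hu)
    simp only [inU, Bool.or_eq_true] at he
    rcases he with he | he
    · exact hgen he hu' huS (by rcases hu with rfl | rfl <;> decide) hge
    · have hg55 : g * F.f 55 * g⁻¹ = F.f 55 :=
        mul_inv_eq_iff_eq_mul.2 (mem_centralizer_singleton_iff.1 hg)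
      have hkey : ∀ e : Fin 192, inV (cMul 55 e) = true → inSyl e = true := by decide +kernel
      refine hgen he (a := cMul 55 u) ?_ (inS_mul h55S huS) (by rcases hu with rfl | rfl <;> decide +kernel) ?_
      · rcases hu with rfl | rfl
        · rw [r55]; exact F.not_T_four hG (Or.inr (Or.inr rfl))
        · rw [show cMul 55 166 = 76 from by decide +kernel]; exact hG.h76
      · rw [F.fmul _ _ h55S huS, F.fmul _ _ h55S (hkey e he), ← hge,
          show g * (F.f 55 * F.f u) * g⁻¹ = g * F.f 55 * g⁻¹ * (g * F.f u * g⁻¹) by group, hg55]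
  obtain ⟨A, hAn, hA2, hA⟩ := F.exists_index_two hG inD h0D hSD hmD hvD h8D hCD inC_facts.2.2.1 s55 (by decide)
    h55D (fun g hg e he hge => by
      rw [mul_inv_eq_iff_eq_mul.2 (mem_centralizer_singleton_iff.1 hg)] at hge
      rw [← F.inj _ _ h55S (hSD e he) hge, h55D] at he
      exact Bool.noConfusion he)
  obtain ⟨B, hBn, hB2, hB⟩ := F.exists_index_two hG inU h0U hSU hmU hvU h8U hCU inC_facts.2.2.2.1 s76 (by decide)
    h76U (hnoU 76 (Or.inl rfl))
  obtain ⟨C, hCn, hC2, hC⟩ := F.exists_index_two hG inU h0U hSU hmU hvU h8U hCU inC_facts.2.2.2.2.1 s166 (by decide)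
    h166U (hnoU 166 (Or.inr rfl))
  let fK : ∀ i : Fin 192, inC i = true → F.kGrp := fun i hi => ⟨F.f i, F.f_mem_k hi⟩
  set N : Subgroup F.kGrp := A ⊓ B ⊓ C with hN
  haveI hNn : N.Normal := by
    haveI := hAn; haveI := hBn; haveI := hCn
    infer_instance
  have hcomm : ∀ x y : F.kGrp, x * y * (x⁻¹ * y⁻¹) ∈ N := fun x y => by
    have key : ∀ M : Subgroup F.kGrp, M.index = 2 → x * y * (x⁻¹ * y⁻¹) ∈ M := fun M h => by
      rw [mul_mem_iff_of_index_two h, mul_mem_iff_of_index_two h, mul_mem_iff_of_index_two h,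
        Subgroup.inv_mem_iff, Subgroup.inv_mem_iff]
    exact ⟨⟨key A hA2, key B hB2⟩, key C hC2⟩
  have hsq : ∀ x : F.kGrp, x * x ∈ N := fun x =>
    ⟨⟨mul_self_mem_of_index_two hA2 x, mul_self_mem_of_index_two hB2 x⟩, mul_self_mem_of_index_two hC2 x⟩
  have hodd : ∀ x : F.kGrp, Odd (orderOf x) → x ∈ N := fun x hx =>
    ⟨⟨mem_of_index_two_of_odd hA2 hx, mem_of_index_two_of_odd hB2 hx⟩, mem_of_index_two_of_odd hC2 hx⟩
  have hzC : inC cT = true := inC_facts.2.1 cT (by decide +kernel)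
  have h44C : inC 44 = true := inC_facts.2.1 44 (by decide +kernel)
  have h106C : inC 106 = true := inC_facts.2.1 106 (by decide +kernel)
  have hzN : fK cT hzC ∈ N := by
    have e : fK cT hzC = fK 44 h44C * fK 76 inC_facts.2.2.2.1 *
        ((fK 44 h44C)⁻¹ * (fK 76 inC_facts.2.2.2.1)⁻¹) := Subtype.ext (by
      show F.f cT = F.f 44 * F.f 76 * ((F.f 44)⁻¹ * (F.f 76)⁻¹)
      rw [← F.fcomm (by decide +kernel) (by decide +kernel), rcomm])
    rw [e]; exact hcomm _ _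
  obtain ⟨k, hk, w, hw, hkw⟩ := hfus
  have hwN : ∀ h : inC w = true, fK w h ∈ N := fun h => by
    rw [show fK w h = ⟨k, hk⟩ * fK cT hzC * (⟨k, hk⟩ : F.kGrp)⁻¹ from Subtype.ext hkw.symm]
    exact hNn.conj_mem _ hzN _
  have h44N : fK 44 h44C ∈ N ∧ fK 106 h106C ∈ N := by
    rcases hw with rfl | rfl
    · refine ⟨hwN h44C, ?_⟩
      rw [show fK 106 h106C = fK 44 h44C * fK cT hzC from Subtype.ext (by
        show F.f 106 = F.f 44 * F.f cT
        rw [← F.fmul _ _ (by decide +kernel) inS_cT, inV_facts.2.2.2.2.2.2.1])]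
      exact mul_mem (hwN h44C) hzN
    · refine ⟨?_, hwN h106C⟩
      rw [show fK 44 h44C = fK 106 h106C * fK cT hzC from Subtype.ext (by
        show F.f 44 = F.f 106 * F.f cT
        rw [← F.fmul _ _ (by decide +kernel) inS_cT, inV_facts.2.2.2.2.2.2.2])]
      exact mul_mem (hwN h106C) hzN
  have hVN : ∀ i (hi : inC i = true), inV i = true → fK i hi ∈ N := by
    intro i hi hv
    simp only [inV, Bool.or_eq_true, beq_iff_eq] at hv
    rcases hv with ((rfl | rfl) | rfl) | rfl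
    · rw [show fK 0 hi = 1 from Subtype.ext F.fone]; exact one_mem _
    · exact hzN
    · exact h44N.1
    · exact h44N.2
  have hiff : ∀ i (hi : inC i = true), fK i hi ∈ N ↔ inV i = true := by
    intro i hi
    refine ⟨fun h => ?_, hVN i hi⟩
    by_contra hv
    have hiS : inSyl i = true := (Bool.and_eq_true _ _ ▸ hi : _ ∧ _).1
    have key : ∀ u : Fin 192, ∀ (hu : inC u = true) (M : Subgroup F.kGrp), M.index = 2 → fK u hu ∉ M → N ≤ M →
        inV (cMul u i) = true → False := by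
      intro u hu M hM huM hNM huv
      have huS : inSyl u = true := (Bool.and_eq_true _ _ ▸ hu : _ ∧ _).1
      have h' := hNM (hVN _ (inC_facts.2.1 _ huv) huv)
      rw [show fK (cMul u i) (inC_facts.2.1 _ huv) = fK u hu * fK i hi from Subtype.ext (F.fmul _ _ huS hiS),
        mul_mem_iff_of_index_two hM] at h'
      exact huM (h'.2 (hNM h))
    rcases inC_facts.2.2.2.2.2.1 i hi with e | e | e | e
    · exact hv e
    · exact key 55 inC_facts.2.2.1 A hA2 hA (inf_le_left.trans inf_le_left) e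
    · exact key 76 inC_facts.2.2.2.1 B hB2 hB (inf_le_left.trans inf_le_right) e
    · exact key 166 inC_facts.2.2.2.2.1 C hC2 hC inf_le_right e
  have hcover : ∀ x : F.kGrp, ∃ i, ∃ hi : inC i = true, x * (fK i hi)⁻¹ ∈ N := by
    intro x
    obtain ⟨c, m, hm, e⟩ := Nat.exists_eq_two_pow_mul_odd (orderOf_pos x).ne'
    set y := x ^ m with hy
    have hy2 : IsPGroup 2 (zpowers (y : G)) := by
      refine IsPGroup.of_card (n := c) ?_
      rw [Nat.card_zpowers, orderOf_coe, hy, orderOf_pow_of_dvd (fun h => by simp [h] at hm) ⟨2 ^ c, by rw [e]; ring⟩,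
        e, Nat.mul_div_cancel _ hm.pos]
    obtain ⟨d, hd, hdy⟩ := exists_conj_into F.kGrp (zpowers (y : G)) (F.centS 55) hy2 (zpowers_le.2 y.2)
      (F.P.isPGroup'.to_le inf_le_left) inf_le_right (fun R h1 h2 h3 => F.sylowK_max hG R h1 h2 h3)
    obtain ⟨i, hi, ei⟩ := (F.mem_centS55 _).1 (hdy _ (mem_zpowers _))
    refine ⟨i, hi, ?_⟩
    obtain ⟨j, hj⟩ := hm
    have h1 : x * y⁻¹ ∈ N := by
      rw [hy, hj, pow_succ, mul_inv_rev, mul_inv_cancel_left, ← inv_pow, pow_mul, sq]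
      exact pow_mem (hsq x⁻¹) j
    have h2 : y * (fK i hi)⁻¹ ∈ N := by
      rw [show fK i hi = ⟨d, hd⟩ * y * (⟨d, hd⟩ : F.kGrp)⁻¹ from Subtype.ext ei]
      have := hcomm y ⟨d, hd⟩
      rwa [show y * (⟨d, hd⟩ * y * (⟨d, hd⟩ : F.kGrp)⁻¹)⁻¹ = y * ⟨d, hd⟩ * (y⁻¹ * (⟨d, hd⟩ : F.kGrp)⁻¹) by group]
    simpa [mul_assoc] using mul_mem h1 h2
  refine ⟨N.map F.kGrp.subtype, map_subtype_le _, fun g hg => mem_normalizer_fintype ?_, fun x hx hxo => ?_,
    fun i hi => ?_, ?_⟩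
  · rintro _ ⟨x, hx, rfl⟩
    exact ⟨⟨g, hg⟩ * x * (⟨g, hg⟩ : F.kGrp)⁻¹, hNn.conj_mem x hx _, rfl⟩
  · exact ⟨⟨x, hx⟩, hodd _ (by rwa [Subgroup.orderOf_mk]), rfl⟩
  · rw [← hiff i hi]
    constructor
    · rintro ⟨x, hx, e⟩
      rwa [show fK i hi = x from Subtype.ext e.symm]
    · exact fun h => ⟨_, h, rfl⟩
  -- adjust the fusing element
  obtain ⟨i, hi, hki⟩ := hcover ⟨k, hk⟩
  have hiS : inSyl i = true := (Bool.and_eq_true _ _ ▸ hi : _ ∧ _).1
  set k' : F.kGrp := ⟨k, hk⟩ * (fK i hi)⁻¹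
  have hk'w : (k' : G) * F.z * (k' : G)⁻¹ = F.f w := by
    show k * (F.f i)⁻¹ * F.z * (k * (F.f i)⁻¹)⁻¹ = _
    rw [← hkw, mul_inv_rev, inv_inv, show k * (F.f i)⁻¹ * F.z * (F.f i * k⁻¹) =
      k * ((F.f i)⁻¹ * (F.z * F.f i)) * k⁻¹ by group, ← F.comm_z hiS, inv_mul_cancel_left]
  have hM : ∀ v, inV v = true → v ≠ 0 → ∀ m : G, m * F.z * m⁻¹ = F.f v → m ∈ F.mGrp := fun v hv hv0 m hm =>
    F.mem_of_conj hG (F.P_le hG F.z_mem) (IsConj.refl _) (by
      rw [hm]; exact F.P_le hG (F.f_mem (inV_facts.2.1 v hv)))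
  intro v hv hv0
  suffices h : ∃ m ∈ N.map F.kGrp.subtype, m * F.z * m⁻¹ = F.f v by
    obtain ⟨m, hm, e⟩ := h
    exact ⟨m, hm, hM v hv hv0 m e, e⟩
  have h76S : inSyl 76 = true := by decide +kernel
  set c := fK 76 inC_facts.2.2.2.1
  have hother : ((c * k' * c⁻¹ : F.kGrp) : G) * F.z * ((c * k' * c⁻¹ : F.kGrp) : G)⁻¹ =
      F.f 76 * F.f w * (F.f 76)⁻¹ := by
    push_cast
    show F.f 76 * k' * (F.f 76)⁻¹ * F.z * (F.f 76 * k' * (F.f 76)⁻¹)⁻¹ = _
    rw [← hk'w, mul_inv_rev, mul_inv_rev, inv_inv,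
      show F.f 76 * k' * (F.f 76)⁻¹ * F.z * (F.f 76 * ((k' : G)⁻¹ * (F.f 76)⁻¹)) =
        F.f 76 * k' * ((F.f 76)⁻¹ * (F.z * F.f 76)) * (k' : G)⁻¹ * (F.f 76)⁻¹ by group,
      ← F.comm_z h76S, inv_mul_cancel_left]
    group
  simp only [inV, Bool.or_eq_true, beq_iff_eq] at hv
  rcases hv with ((h | rfl) | rfl) | rfl
  · exact absurd h hv0
  · exact ⟨1, one_mem _, by rw [one_mul, inv_one, mul_one]; rfl⟩
  · rcases hw with rfl | rfl
    · exact ⟨_, ⟨k', hki, rfl⟩, hk'w⟩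
    · exact ⟨_, ⟨c * k' * c⁻¹, hNn.conj_mem _ hki _, rfl⟩, by
        show ((c * k' * c⁻¹ : F.kGrp) : G) * F.z * ((c * k' * c⁻¹ : F.kGrp) : G)⁻¹ = _
        rw [hother, ← F.fconj h76S (by decide +kernel), rc106]⟩
  · rcases hw with rfl | rfl
    · exact ⟨_, ⟨c * k' * c⁻¹, hNn.conj_mem _ hki _, rfl⟩, by
        show ((c * k' * c⁻¹ : F.kGrp) : G) * F.z * ((c * k' * c⁻¹ : F.kGrp) : G)⁻¹ = _
        rw [hother, ← F.fconj h76S (by decide +kernel), rc44]⟩
    · exact ⟨_, ⟨k', hki, rfl⟩, hk'w⟩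

/-- The odd elements of the centraliser of a member of the four-group inside that of 55. -/
theorem odd_mem_th {m x : G} (hm : m ∈ F.kGrp) (hx : x ∈ F.kGrp) (hxo : Odd (orderOf x))
    (hxv : Commute x (m * F.z * m⁻¹)) : x ∈ th (m * F.z * m⁻¹) := by
  set y := m⁻¹ * x * m with hy
  have hyK : y ∈ F.kGrp := mul_mem (mul_mem (inv_mem hm) hx) hm
  have hyo : Odd (orderOf y) := by
    rw [hy, show m⁻¹ * x * m = m⁻¹ * x * m⁻¹⁻¹ by group, Invol.orderOf_conj_eq]; exact hxo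
  have hyz : Commute y F.z := by
    have := (Commute.conj_iff m⁻¹).2 hxv
    rwa [show m⁻¹ * (m * F.z * m⁻¹) * m⁻¹⁻¹ = F.z by group, inv_inv] at this
  have h : y ∈ th F.z := F.le_th_z hG (D := zpowers y)
    (zpowers_le.2 (mem_centralizer_singleton_iff.2 hyz.eq)) (by rwa [Nat.card_zpowers])
    (q := 55) gens_inQ'.2.1 (by decide) (by decide)
    (centralizer_le_normalizer _ (mem_centralizer_iff.2 fun g hg => by
      obtain ⟨i, rfl⟩ := mem_zpowers_iff.1 hg
      exact ((show Commute y (F.f 55) from mem_centralizer_singleton_iff.1 hyK).zpow_left i).eq))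
    (mem_zpowers y)
  have := th_conj m F.z h
  rwa [show m * y * m⁻¹ = x by rw [hy]; group] at this

theorem wGrp_inf_le : F.wGrp ⊓ F.kGrp ≤ th (F.f 55) := by
  haveI : Fact (Nat.Prime 2) := ⟨Nat.prime_two⟩
  obtain ⟨hWodd, hWz, -, -⟩ := F.wGrp_facts hG
  have hKodd : ∀ x ∈ F.wGrp ⊓ F.kGrp, Odd (orderOf x) := fun x hx =>
    hWodd.of_dvd_nat (Subgroup.orderOf_dvd_natCard _ (Subgroup.mem_inf.1 hx).1)
  by_cases hiso : ∀ g ∈ F.kGrp, ∀ i, inC i = true → g * F.z * g⁻¹ = F.f i → i = cT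
  · -- the isolated case
    have hKM : F.kGrp ≤ F.mGrp := by
      have hzK : F.z ∈ F.kGrp := F.f_mem_k (inC_facts.2.1 cT (by decide +kernel))
      let zK : F.kGrp := ⟨F.z, hzK⟩
      let PK : Sylow 2 F.kGrp :=
        { toSubgroup := (F.centS 55).subgroupOf F.kGrp
          isPGroup' := (F.P.isPGroup'.to_le inf_le_left).of_equiv (subgroupOfEquivOfLe inf_le_right).symm
          is_maximal' := by
            intro Q hQ hle
            refine le_antisymm (fun x hx => ?_) hle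
            exact F.sylowK_max hG (Q.map F.kGrp.subtype) (hQ.map _)
              (fun y hy => ⟨⟨y, (Subgroup.mem_inf.1 hy).2⟩, hle (mem_subgroupOf.2 hy), rfl⟩)
              (map_subtype_le _) ⟨x, hx, rfl⟩ }
      have hI : IsIsolatedInvolution zK := Invol.isolated_of_sylow PK
        (by rw [← orderOf_coe]; exact F.orderOf_z) fun g hg => Subtype.ext (by
          obtain ⟨i, hi, e⟩ := (F.mem_centS55 _).1 (mem_subgroupOf.1 hg)
          show (g : G) * F.z * (g : G)⁻¹ = F.z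
          have e' : (g : G) * F.z * (g : G)⁻¹ = F.f i := e.symm
          rw [e', hiso g g.2 i hi e']; rfl)
      intro g hg
      have h := ZStar.zStarHolds F.kGrp zK hI ⟨g, hg⟩
      have hth : F.z * g * F.z⁻¹ * g⁻¹ ∈ th (F.f 55) := ⟨_, h, rfl⟩
      refine F.mem_of_conj hG (F.P_le hG F.z_mem) (IsConj.refl _) ?_
      have h' := mul_mem (F.P_le hG F.z_mem) (le_normalizer (F.th55_le hG hth))
      rwa [show F.z * (F.z * g * F.z⁻¹ * g⁻¹) = F.z * F.z * (g * F.z⁻¹ * g⁻¹) by group, F.z_sq, one_mul,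
        Invol.inv_eq_self F.orderOf_z] at h'
    refine Syl34.le_th inf_le_right (fun g hg => mem_normalizer_fintype fun d hd => ?_)
      (hWodd.of_dvd_nat (card_dvd_of_le inf_le_left))
    obtain ⟨hd1, hd2⟩ := Subgroup.mem_inf.1 hd
    exact Subgroup.mem_inf.2 ⟨(mem_normalizer_iff.1 (hKM hg) d).1 hd1, mul_mem (mul_mem hg hd2) (inv_mem hg)⟩
  push Not at hiso
  obtain ⟨k, hk, i, hi, hki, hine⟩ := hiso
  have hiS : inSyl i = true := (Bool.and_eq_true _ _ ▸ hi : _ ∧ _).1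
  have hfus : ∃ k ∈ F.kGrp, ∃ w, (w = 44 ∨ w = 106) ∧ k * F.z * k⁻¹ = F.f w := by
    have hT : F.T i := isConj_iff.2 ⟨k, hki⟩
    have hc : sCl i ≠ 0 := by
      obtain ⟨i', hi', e, hc⟩ := F.exists_idx (F.f_mem hiS) (by rw [← hki, Invol.orderOf_conj_eq, F.orderOf_z])
      rwa [F.inj _ _ hi' hiS e] at hc
    have hv := F.inV_of_T hG hi hc hT
    simp only [inV, Bool.or_eq_true, beq_iff_eq] at hv
    rcases hv with ((e | e) | e) | e
    · rw [e, F.fone, conj_eq_one_iff] at hki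
      exact absurd hki F.z_ne_one
    · exact absurd e hine
    · exact ⟨k, hk, i, Or.inl e, hki⟩
    · exact ⟨k, hk, i, Or.inr e, hki⟩
  obtain ⟨K2, hK2K, hKn, hK2odd, hK2C, hK2fus⟩ := F.exists_kTwo hG hfus
  have hVK2 : F.vGrp ≤ K2 := by
    rintro _ ⟨v, hv, rfl⟩; exact (hK2C v (inC_facts.2.1 v hv)).2 hv
  have hV4 : ∀ R : Subgroup G, IsPGroup 2 R → R ≤ K2 → Nat.card R ≤ 4 := by
    intro R hR hRK
    obtain ⟨d, hd, hdR⟩ := exists_conj_into F.kGrp R (F.centS 55) hR (hRK.trans hK2K)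
      (F.P.isPGroup'.to_le inf_le_left) inf_le_right (fun R h1 h2 h3 => F.sylowK_max hG R h1 h2 h3)
    have hle : R.map (MulAut.conj d).toMonoidHom ≤ F.vGrp := by
      rintro _ ⟨x, hx, rfl⟩
      obtain ⟨j, hj, e⟩ := (F.mem_centS55 _).1 (hdR x hx)
      refine ⟨j, (hK2C j hj).1 ?_, e⟩
      rw [e]; exact (mem_normalizer_iff.1 (hKn hd) x).1 (hRK hx)
    have := card_le_of_le hle
    rwa [card_map_of_injective (MulAut.conj d).injective, F.card_vGrp] at this
  have hsylV : ∀ H : Subgroup G, F.vGrp ≤ H → H ≤ K2 → ∃ V : Sylow 2 H, (V : Subgroup H) = F.vGrp.subgroupOf H := by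
    intro H hVH hHK
    obtain ⟨V, hV⟩ := (IsPGroup.of_card (p := 2) (n := 2) (by
      rw [Nat.card_congr (subgroupOfEquivOfLe hVH).toEquiv, F.card_vGrp]; rfl) :
      IsPGroup 2 (F.vGrp.subgroupOf H)).exists_le_sylow
    refine ⟨V, (eq_of_le_of_card_ge hV ?_).symm⟩
    rw [Nat.card_congr (subgroupOfEquivOfLe hVH).toEquiv, F.card_vGrp]
    have := hV4 ((V : Subgroup H).map H.subtype) (V.isPGroup'.map _) ((map_subtype_le _).trans hHK)
    rwa [card_map_of_injective H.subtype_injective] at this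
  have hcent : ∀ v, inV v = true → v ≠ 0 → ∀ x ∈ K2, Commute x (F.f v) →
      ∃ o ∈ th (F.f v), o ∈ K2 ∧ ∃ u, inV u = true ∧ x = o * F.f u := by
    intro v hv hv0 x hx hxv
    obtain ⟨m, hmK, -, hmv⟩ := hK2fus v hv hv0
    set X := K2 ⊓ centralizer ({F.f v} : Set G) with hX
    have hVX : F.vGrp ≤ X := by
      refine le_inf hVK2 ?_
      rintro _ ⟨u, hu, rfl⟩
      have key : ∀ u v : Fin 192, inV u = true → inV v = true → sCm u v = true := by decide +kernel
      exact mem_centralizer_singleton_iff.2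
        (F.comm_of_cm (inV_facts.2.1 u hu) (inV_facts.2.1 v hv) (key u v hu hv))
    obtain ⟨VX, hVX'⟩ := hsylV X hVX inf_le_left
    set R0 : Subgroup X := (th (F.f v)).subgroupOf X with hR0
    haveI hR0n : R0.Normal := ⟨fun r hr g => by
      rw [hR0, mem_subgroupOf] at hr ⊢
      exact (mem_normalizer_iff.1 (cent_le_norm_th _ (Subgroup.mem_inf.1 g.2).2) r).1 hr⟩
    have hp : IsPGroup 2 (X ⧸ R0) := by
      intro q
      obtain ⟨y, rfl⟩ := QuotientGroup.mk_surjective q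
      obtain ⟨c, r, hr, e⟩ := Nat.exists_eq_two_pow_mul_odd (orderOf_pos y).ne'
      refine ⟨c, (QuotientGroup.eq_one_iff _).2 ?_⟩
      show ((y ^ 2 ^ c : X) : G) ∈ th (F.f v)
      rw [← hmv]
      refine F.odd_mem_th hG (hK2K hmK) (hK2K (Subgroup.mem_inf.1 (y ^ 2 ^ c).2).1) ?_ ?_
      · rw [orderOf_coe, orderOf_pow_of_dvd (by positivity) ⟨r, e⟩, e, Nat.mul_div_cancel_left _ (Nat.two_pow_pos c)]
        exact hr
      · rw [hmv]; exact mem_centralizer_singleton_iff.1 (Subgroup.mem_inf.1 (y ^ 2 ^ c).2).2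
    have htop : R0 ⊔ (VX : Subgroup X) = ⊤ := by
      rw [← index_eq_one]
      obtain ⟨c, hc⟩ := IsPGroup.iff_card.1 hp
      have h1 : (R0 ⊔ (VX : Subgroup X)).index ∣ 2 ^ c := by
        rw [← hc, ← index_eq_card]; exact index_dvd_of_le le_sup_left
      refine Nat.Coprime.eq_one_of_dvd ?_ h1
      refine Nat.Coprime.pow_right c (Nat.coprime_two_right.2 ?_)
      rw [← Nat.not_even_iff_odd, even_iff_two_dvd]
      exact fun h => VX.not_dvd_index (h.trans (index_dvd_of_le le_sup_right))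
    have hxX : (⟨x, Subgroup.mem_inf.2 ⟨hx, mem_centralizer_singleton_iff.2 hxv.eq⟩⟩ : X) ∈
        R0 ⊔ (VX : Subgroup X) := htop ▸ mem_top _
    obtain ⟨o, ho, u, hu, e⟩ := mem_sup_of_normal_left.1 hxX
    rw [hVX', mem_subgroupOf] at hu
    obtain ⟨u', hu', eu⟩ := hu
    exact ⟨o, ho, (Subgroup.mem_inf.1 o.2).1, u', hu', by rw [eu]; exact (congrArg Subtype.val e).symm⟩
  -- the quotient by the odd core
  let π := QuotientGroup.mk' (oddCore K2)
  have hπs : Function.Surjective π := QuotientGroup.mk'_surjective _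
  obtain ⟨V0, hV0⟩ := hsylV K2 hVK2 le_rfl
  let V : Sylow 2 (K2 ⧸ oddCore K2) := V0.mapSurjective (f := π) hπs
  let vK : ∀ v, inV v = true → K2 := fun v hv => ⟨F.f v, hVK2 ⟨v, hv, rfl⟩⟩
  have hVmem : ∀ y, y ∈ (V : Subgroup (K2 ⧸ oddCore K2)) ↔ ∃ v, ∃ hv : inV v = true, π (vK v hv) = y := by
    intro y
    constructor
    · rintro ⟨x, hx, rfl⟩
      have hx' : x ∈ (V0 : Subgroup K2) := hx
      rw [hV0, mem_subgroupOf] at hx'
      obtain ⟨v, hv, e⟩ := hx'
      exact ⟨v, hv, congrArg π (Subtype.ext e)⟩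
    · rintro ⟨v, hv, rfl⟩
      refine ⟨vK v hv, ?_, rfl⟩
      show vK v hv ∈ (V0 : Subgroup K2)
      rw [hV0, mem_subgroupOf]
      exact ⟨v, hv, rfl⟩
  have hker : ∀ v (hv : inV v = true), π (vK v hv) = 1 → v = 0 := fun v hv h => by
    have h1 := ZStar.odd_orderOf_oddCore ((QuotientGroup.eq_one_iff _).1 h)
    rw [← orderOf_coe] at h1
    exact F.inj _ _ (inV_facts.2.1 v hv) inSyl_facts.1 ((Syl34.eq_one_of_odd_of_sq h1
      ((F.sq_eq (inV_facts.2.1 v hv)).2 (inV_facts.2.2.2.2.2.1 v hv))).trans F.fone.symm)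
  have hvmul : ∀ a b (ha : inV a = true) (hb : inV b = true),
      vK (cMul a b) (inV_facts.2.2.1 a b ha hb) = vK a ha * vK b hb := fun a b ha hb =>
    Subtype.ext (F.fmul _ _ (inV_facts.2.1 a ha) (inV_facts.2.1 b hb))
  have hlift : ∀ v (hv : inV v = true), v ≠ 0 → ∀ γ : K2, Commute (π γ) (π (vK v hv)) →
      ∃ d : K2, π d ∈ zpowers (π (vK v hv)) ∧ Commute (d⁻¹ * γ) (vK v hv) := by
    intro v hv hv0 γ hg
    set ζ := vK v hv with hζ
    have hζ2 : orderOf ζ = 2 := by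
      rw [← orderOf_coe]
      exact orderOf_eq_prime (by rw [sq]; exact (F.sq_eq (inV_facts.2.1 v hv)).2 (inV_facts.2.2.2.2.2.1 v hv))
        (F.ne_one (inV_facts.2.1 v hv) hv0)
    set η := γ * ζ * γ⁻¹ with hη
    have hπη : π η = π ζ := by rw [hη, map_mul, map_mul, map_inv, hg.eq, mul_inv_cancel_right]
    obtain ⟨d, hd, hdη⟩ := Invol.exists_conj_of_odd hζ2 (by rw [hη, Invol.orderOf_conj_eq, hζ2])
      (ZStar.odd_orderOf_oddCore ((QuotientGroup.eq_one_iff (ζ * η)).1 (by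
        show π (ζ * η) = 1
        rw [map_mul, hπη, ← map_mul, Invol.inv_mul_self hζ2, map_one])))
    refine ⟨d, (closure_le (K := (zpowers (π ζ)).comap π)).2 ?_ hd, mul_inv_eq_iff_eq_mul.1 ?_⟩
    · rintro _ (rfl | rfl)
      · exact mem_zpowers _
      · show π η ∈ zpowers (π ζ)
        rw [hπη]; exact mem_zpowers _
    · rw [mul_inv_rev, inv_inv, show d⁻¹ * γ * ζ * (γ⁻¹ * d) = d⁻¹ * (γ * ζ * γ⁻¹) * d by group, ← hη, ← hdη]
      group
  have hV : Syl34.FourData V := by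
    refine ⟨?_, fun y hy => ?_, fun y hy hy1 g hg => ?_⟩
    · have h1 : Nat.card (V0 : Subgroup K2) = 4 := by
        rw [hV0, Nat.card_congr (subgroupOfEquivOfLe hVK2).toEquiv, F.card_vGrp]
      rw [← h1]
      refine (Nat.card_congr (Equiv.ofBijective (fun x : (V0 : Subgroup K2) =>
        (⟨π x, mem_map_of_mem π x.2⟩ : (V : Subgroup (K2 ⧸ oddCore K2)))) ⟨?_, ?_⟩)).symm
      · intro a b e
        have h : π ((a : K2)⁻¹ * b) = 1 := by
          rw [map_mul, map_inv, show π a = π b from congrArg Subtype.val e, inv_mul_cancel]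
        have hm : ((a : K2)⁻¹ * b) ∈ (V0 : Subgroup K2) := mul_mem (inv_mem a.2) b.2
        obtain ⟨v, hv, e'⟩ := mem_subgroupOf.1 (le_of_eq hV0 hm)
        have h0 := hker v hv (by rw [show vK v hv = (a : K2)⁻¹ * b from Subtype.ext e']; exact h)
        rw [h0, F.fone] at e'
        exact Subtype.ext (inv_mul_eq_one.1 (Subtype.ext e'.symm))
      · rintro ⟨_, x, hx, rfl⟩
        exact ⟨⟨x, hx⟩, rfl⟩
    · obtain ⟨v, hv, rfl⟩ := (hVmem y).1 hy
      rw [← map_mul, ← map_one π]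
      exact congrArg π (Subtype.ext ((F.sq_eq (inV_facts.2.1 v hv)).2 (inV_facts.2.2.2.2.2.1 v hv)))
    obtain ⟨v, hv, rfl⟩ := (hVmem y).1 hy
    have hv0 : v ≠ 0 := fun e => hy1 (by
      rw [show vK v hv = 1 from Subtype.ext (by show F.f v = 1; rw [e, F.fone]), map_one])
    obtain ⟨γ, rfl⟩ := hπs g
    set ζ := vK v hv with hζ
    have hζ2 : orderOf ζ = 2 := by
      rw [← orderOf_coe]
      exact orderOf_eq_prime (by rw [sq]; exact (F.sq_eq (inV_facts.2.1 v hv)).2 (inV_facts.2.2.2.2.2.1 v hv))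
        (F.ne_one (inV_facts.2.1 v hv) hv0)
    obtain ⟨d, hπd, hcomm⟩ := hlift v hv hv0 γ hg
    obtain ⟨o, ho, hoK, u, hu, e⟩ := hcent v hv hv0 _ (d⁻¹ * γ).2 (congrArg Subtype.val hcomm.eq)
    have hsplit : γ = d * (⟨o, hoK⟩ * vK u hu) := by
      rw [← inv_mul_eq_iff_eq_mul]; exact Subtype.ext e
    set B : Subgroup (K2 ⧸ oddCore K2) := ((th (F.f v)).subgroupOf K2).map π with hB
    have hBth : B ≤ Syl34.th (π ζ) := by
      refine Syl34.le_th ?_ ?_ ?_
      · rintro _ ⟨r, hr, rfl⟩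
        rw [mem_centralizer_singleton_iff, ← map_mul, ← map_mul]
        exact congrArg π (Subtype.ext (commute_of_mem_th (mem_subgroupOf.1 hr)).eq)
      · intro q hq
        obtain ⟨γ', rfl⟩ := hπs q
        have hq' := mem_centralizer_singleton_iff.1 hq
        refine mem_normalizer_fintype ?_
        rintro _ ⟨r, hr, rfl⟩
        obtain ⟨d', hπd', hc0⟩ := hlift v hv hv0 γ' hq'
        have hc' : ((d'⁻¹ * γ' : K2) : G) ∈ centralizer ({F.f v} : Set G) :=
          mem_centralizer_singleton_iff.2 (congrArg Subtype.val hc0.eq)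
        have hr' : π ((d'⁻¹ * γ') * r * (d'⁻¹ * γ')⁻¹) ∈ B := mem_map_of_mem π (mem_subgroupOf.2
          ((mem_normalizer_iff.1 (cent_le_norm_th _ hc') r).1 (mem_subgroupOf.1 hr)))
        have hζc : ∀ c ∈ B, Commute (π ζ) c := by
          rintro _ ⟨c, hc, rfl⟩
          exact (show Commute ζ c from Subtype.ext (commute_of_mem_th (mem_subgroupOf.1 hc)).eq.symm).map π
        obtain ⟨j, hj⟩ := mem_zpowers_iff.1 hπd'
        have e1 : π γ' * π r * (π γ')⁻¹ = π d' * π ((d'⁻¹ * γ') * r * (d'⁻¹ * γ')⁻¹) * (π d')⁻¹ := by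
          simp only [map_mul, map_inv]; group
        rw [e1, ← hj, ((hζc _ hr').zpow_left j).eq, mul_inv_cancel_right]
        exact hr'
      · refine (odd_th (F.f v)).of_dvd_nat ((card_map_dvd _ _).trans ?_)
        rw [← inf_subgroupOf_right, Nat.card_congr (subgroupOfEquivOfLe
          (inf_le_right : th (F.f v) ⊓ K2 ≤ K2)).toEquiv]
        exact card_dvd_of_le inf_le_left
    obtain ⟨j, hj⟩ := mem_zpowers_iff.1 hπd
    refine ⟨π ⟨o, hoK⟩, hBth (mem_map_of_mem π (mem_subgroupOf.2 ho)), π d * π (vK u hu),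
      mul_mem ?_ ((hVmem _).2 ⟨u, hu, rfl⟩), ?_⟩
    · rw [← hj]; exact zpow_mem hy j
    · have hc : Commute (π ζ) (π ⟨o, hoK⟩) :=
        (show Commute ζ (⟨o, hoK⟩ : K2) from Subtype.ext (commute_of_mem_th ho).eq.symm).map π
      rw [hsplit, map_mul, map_mul, ← mul_assoc, ← mul_assoc, ← hj, (hc.zpow_left j).eq]
  -- the image of the generated odd subgroup
  set R : Subgroup (K2 ⧸ oddCore K2) := (F.wGrp.subgroupOf K2).map π with hR
  have hMR : ∀ x : K2, (x : G) ∈ F.mGrp → π x ∈ normalizer (R : Set (K2 ⧸ oddCore K2)) := fun x hx => by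
    refine mem_normalizer_fintype ?_
    rintro _ ⟨r, hr, rfl⟩
    rw [← map_inv, ← map_mul, ← map_mul]
    exact mem_map_of_mem π (mem_subgroupOf.2 ((mem_normalizer_iff.1 hx r).1 (mem_subgroupOf.1 hr)))
  have hVR : ∀ y ∈ (V : Subgroup (K2 ⧸ oddCore K2)), y ∈ normalizer (R : Set (K2 ⧸ oddCore K2)) := by
    intro y hy
    obtain ⟨v, hv, rfl⟩ := (hVmem y).1 hy
    exact hMR _ (F.P_le hG (F.f_mem (inV_facts.2.1 v hv)))
  have hRodd : Odd (Nat.card R) := hWodd.of_dvd_nat ((card_map_dvd _ _).trans (by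
    rw [← inf_subgroupOf_right, Nat.card_congr (subgroupOfEquivOfLe (inf_le_right : F.wGrp ⊓ K2 ≤ K2)).toEquiv]
    exact card_dvd_of_le inf_le_left))
  -- the centralisers of the involutions lie over the generated subgroup
  have hcentR : ∀ v (hv : inV v = true), v ≠ 0 → ∀ g, Commute g (π (vK v hv)) →
      ∃ r ∈ R, ∃ x ∈ (V : Subgroup (K2 ⧸ oddCore K2)), r * x = g := by
    intro v hv hv0 g hg
    obtain ⟨γ, rfl⟩ := hπs g
    set ζ := vK v hv with hζ
    obtain ⟨d, hπd, hcomm⟩ := hlift v hv hv0 γ hg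
    obtain ⟨o, ho, hoK, u, hu, e⟩ := hcent v hv hv0 _ (d⁻¹ * γ).2 (congrArg Subtype.val hcomm.eq)
    obtain ⟨j, hj⟩ := mem_zpowers_iff.1 hπd
    have hdV : π d ∈ (V : Subgroup (K2 ⧸ oddCore K2)) := by
      rw [← hj]; exact zpow_mem ((hVmem _).2 ⟨v, hv, rfl⟩) j
    have hW : o ∈ F.wGrp := (F.th_le_of_T hG (F.P_le hG (F.f_mem (inV_facts.2.1 v hv))) (F.T_of_inV hG hv hv0)).1 ho
    refine ⟨π d * π ⟨o, hoK⟩ * (π d)⁻¹, (mem_normalizer_iff.1 (hVR _ hdV) _).1
      (mem_map_of_mem π (mem_subgroupOf.2 hW)), π d * π (vK u hu), mul_mem hdV ((hVmem _).2 ⟨u, hu, rfl⟩), ?_⟩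
    have hγ : γ = d * (⟨o, hoK⟩ * vK u hu) := by
      rw [← inv_mul_eq_iff_eq_mul]; exact Subtype.ext e
    rw [hγ, map_mul, map_mul]; group
  have hth : ∀ y ∈ (V : Subgroup (K2 ⧸ oddCore K2)), y ≠ 1 → Syl34.th y ≤ R := by
    intro y hy hy1
    obtain ⟨v, hv, rfl⟩ := (hVmem y).1 hy
    intro c hc
    obtain ⟨r, hr, x, hx, rfl⟩ := hcentR v hv (fun e => hy1 (by
      rw [show vK v hv = 1 from Subtype.ext (by show F.f v = 1; rw [e, F.fone]), map_one])) c
      (commute_of_mem_th hc)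
    refine mem_of_pow_two (odd_of_mem_th hc) (k := 1) ?_
    rw [pow_one, sq, show r * x * (r * x) = r * (x * r * x⁻¹) * (x * x) by group, hV.sq x hx, mul_one]
    exact mul_mem hr ((mem_normalizer_iff.1 (hVR x hx) r).1 hr)
  have hNR : normalizer ((V : Subgroup (K2 ⧸ oddCore K2)) : Set (K2 ⧸ oddCore K2)) ≤
      normalizer (R : Set (K2 ⧸ oddCore K2)) := by
    intro y hy
    have hzv : inV cT = true := by decide +kernel
    obtain ⟨v, hv, hve⟩ := (hVmem _).1 ((mem_normalizer_iff.1 hy _).1 ((hVmem _).2 ⟨cT, hzv, rfl⟩))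
    have hv0 : v ≠ 0 := fun e => by
      rw [show vK v hv = 1 from Subtype.ext (by show F.f v = 1; rw [e, F.fone]), map_one, eq_comm,
        conj_eq_one_iff] at hve
      exact absurd (hker _ hzv hve) (by decide)
    obtain ⟨m, hmK, hmM, hme⟩ := hK2fus v hv hv0
    have hme' : π ⟨m, hmK⟩ * π (vK cT hzv) * (π ⟨m, hmK⟩)⁻¹ = π (vK v hv) := by
      rw [← map_inv, ← map_mul, ← map_mul]; exact congrArg π (Subtype.ext hme)
    obtain ⟨r, hr, x, hx, e⟩ := hcentR cT hzv (by decide) ((π ⟨m, hmK⟩)⁻¹ * y) (mul_inv_eq_iff_eq_mul.1 (by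
      rw [mul_inv_rev, inv_inv, show (π ⟨m, hmK⟩)⁻¹ * y * π (vK cT hzv) * (y⁻¹ * π ⟨m, hmK⟩) =
        (π ⟨m, hmK⟩)⁻¹ * (y * π (vK cT hzv) * y⁻¹) * π ⟨m, hmK⟩ by group, ← hve, ← hme']
      group))
    rw [eq_mul_of_inv_mul_eq e.symm]
    exact mul_mem (hMR _ hmM) (mul_mem (le_normalizer hr) (hVR x hx))
  have hObot : oddCore (K2 ⧸ oddCore K2) = ⊥ := Core.pPrimeCore_quotient_eq_bot
  have hRbot : R = ⊥ := by
    by_cases hn : (V : Subgroup (K2 ⧸ oddCore K2)).Normal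
    · haveI : R.Normal := normalizer_eq_top_iff.1 (top_unique fun y _ =>
        hNR ((normalizer_eq_top_iff.2 hn) ▸ mem_top y))
      exact le_bot_iff.1 (hObot ▸ ZStar.le_oddCore inferInstance hRodd)
    · exact hV.eq_bot_of_invariant hObot hn R hRodd hNR hth
  intro x hx
  have hxK2 : x ∈ K2 := hK2odd x (Subgroup.mem_inf.1 hx).2 (hKodd x hx)
  have h1 : π ⟨x, hxK2⟩ ∈ R := mem_map_of_mem π (mem_subgroupOf.2 (Subgroup.mem_inf.1 hx).1)
  rw [hRbot, mem_bot] at h1
  have h2 : (⟨x, hxK2⟩ : K2) ∈ oddCore K2 := (QuotientGroup.eq_one_iff _).1 h1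
  haveI : (K2.subgroupOf F.kGrp).Normal := (normal_subgroupOf_iff_le_normalizer hK2K).2 hKn
  have hmap : (oddCore K2).map (inclusion hK2K) ≤ oddCore F.kGrp := by
    refine le_trans ?_ (Core.pPrimeCore_map_le_of_isSubnormal (p := 2)
      (inferInstance : (K2.subgroupOf F.kGrp).Normal).isSubnormal)
    let e : K2 ≃* K2.subgroupOf F.kGrp := (subgroupOfEquivOfLe hK2K).symm
    rintro _ ⟨y, hy, rfl⟩
    exact ⟨e y, Core.map_pPrimeCore_equiv e ▸ mem_map_of_mem e.toMonoidHom hy, rfl⟩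
  exact ⟨_, hmap (mem_map_of_mem _ h2), rfl⟩

end Frame

end Cfsg.Lib.MTwelveLocal
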