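import Cfsg.Agent.Lib.WalterBig.Main
import Cfsg.Agent.Lib.Spec.SLTwo
import Cfsg.Agent.Lib.Fusion.Abelian
import Cfsg.Agent.Lib.Core.Cores

/-!
A group without odd core whose Sylow 2-subgroup is elementary abelian of order 16, with two classes of
involutions and odd automizer elements fixed point free, has a normal Sylow 2-subgroup.
-/

set_option autoImplicit false
set_option linter.style.haveILetI false
set_option linter.unusedSectionVars false

namespace Cfsg.Lib.MTwelveLocal

open Subgroup Cfsg Cfsg.Lib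
open scoped Pointwise

universe u

section SL

variable {F : Type} [Field F] [Fintype F]

/-- The standard unipotent element. -/
def slUnip : Matrix.SpecialLinearGroup (Fin 2) F :=
  ⟨!![1, 1; 0, 1], by simp [Matrix.det_fin_two]⟩

/-- In characteristic two every involution of `SL₂` is conjugate to the standard unipotent element. -/
theorem sl_involution_conj [CharP F 2] (M : Matrix.SpecialLinearGroup (Fin 2) F) (h : M * M = 1) (h1 : M ≠ 1) :
    ∃ g : Matrix.SpecialLinearGroup (Fin 2) F,
      g * slUnip * g⁻¹ = M := by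
  have h2 : (2 : F) = 0 := CharTwo.two_eq_zero
  have hsq : ∀ x : F, ∃ y, y * y = x := fun x => by
    have hinj : Function.Injective fun y : F => y * y := fun y y' e => by
      have : (y + y') * (y + y') = 0 := by linear_combination e + (y * y' + y' * y') * h2
      have e' := mul_self_eq_zero.1 this
      linear_combination e' - y' * h2
    exact (Finite.injective_iff_surjective.1 hinj) x
  set a := (M : Matrix (Fin 2) (Fin 2) F) 0 0 with ha
  set b := (M : Matrix (Fin 2) (Fin 2) F) 0 1 with hb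
  set c := (M : Matrix (Fin 2) (Fin 2) F) 1 0 with hc
  set d := (M : Matrix (Fin 2) (Fin 2) F) 1 1 with hd
  have hdet : a * d - b * c = 1 := by
    have := M.2
    rw [Matrix.det_fin_two] at this
    exact this
  have e : (M : Matrix (Fin 2) (Fin 2) F) * M = 1 := by
    rw [← Matrix.SpecialLinearGroup.coe_mul, h, Matrix.SpecialLinearGroup.coe_one]
  have e00 : a * a + b * c = 1 := by
    have := congrFun (congrFun e 0) 0
    simpa [Matrix.mul_apply, Fin.sum_univ_two] using this
  have e01 : a * b + b * d = 0 := by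
    have := congrFun (congrFun e 0) 1
    simpa [Matrix.mul_apply, Fin.sum_univ_two] using this
  have e10 : c * a + d * c = 0 := by
    have := congrFun (congrFun e 1) 0
    simpa [Matrix.mul_apply, Fin.sum_univ_two] using this
  have had : a + d = 0 ∨ (b = 0 ∧ c = 0) := by
    by_cases hs : a + d = 0
    · exact Or.inl hs
    · refine Or.inr ⟨?_, ?_⟩
      · exact (mul_eq_zero.1 (show b * (a + d) = 0 by linear_combination e01)).resolve_right hs
      · exact (mul_eq_zero.1 (show c * (a + d) = 0 by linear_combination e10)).resolve_right hs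
  have hne : ¬ (b = 0 ∧ c = 0) := by
    rintro ⟨hb0, hc0⟩
    apply h1
    have ha1 : a = 1 := by
      have : (a + 1) * (a + 1) = 0 := by linear_combination e00 - c * hb0 + (a + 1) * h2
      linear_combination mul_self_eq_zero.1 this - h2
    have hd1 : d = 1 := by linear_combination hdet - d * ha1 + c * hb0
    ext i j
    fin_cases i <;> fin_cases j
    exacts [ha1, hb0, hc0, hd1]
  have htr : d = a := by linear_combination (had.resolve_right hne) - a * h2
  obtain ⟨p, hp⟩ := hsq b
  obtain ⟨r, hr⟩ := hsq c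
  have hpr : p * r = a + 1 := by
    have : (p * r + (a + 1)) * (p * r + (a + 1)) = 0 := by
      linear_combination r * r * hp + b * hr + e00 + (p * r * (a + 1) + a + 1) * h2
    linear_combination mul_self_eq_zero.1 this - (a + 1) * h2
  obtain ⟨q, s, hqs⟩ : ∃ q s, p * s - q * r = 1 := by
    by_cases hp0 : p = 0
    · have hr0 : r ≠ 0 := fun hr0 => hne ⟨by rw [← hp, hp0, mul_zero], by rw [← hr, hr0, mul_zero]⟩
      exact ⟨r⁻¹, 0, by rw [hp0, inv_mul_cancel₀ hr0]; linear_combination -h2⟩
    · exact ⟨0, p⁻¹, by rw [mul_inv_cancel₀ hp0]; ring⟩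
  refine ⟨⟨!![p, q; r, s], by simp [Matrix.det_fin_two, hqs]⟩, mul_inv_eq_iff_eq_mul.2 ?_⟩
  apply Subtype.ext
  show !![p, q; r, s] * !![1, 1; 0, 1] = (M : Matrix (Fin 2) (Fin 2) F) * !![p, q; r, s]
  ext i j
  fin_cases i <;> fin_cases j <;> simp [Matrix.mul_apply, Fin.sum_univ_two, ← ha, ← hb, ← hc, ← hd]
  · linear_combination r * hp - p * hpr - a * p * h2
  · linear_combination s * hp - p * hqs - q * hpr - a * q * h2
  · linear_combination p * hr - r * hpr - r * htr - a * r * h2
  · linear_combination q * hr - s * hpr + r * hqs - s * htr - a * s * h2 + r * h2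

end SL

variable {R : Type u} [Group R] [Finite R]

/-- A subnormal subgroup with a normal 2-complement in a group without odd core is a 2-group. -/
theorem isPGroup_of_complement (hO : oddCore R = ⊥) {X : Subgroup R} (hX : X.IsSubnormal)
    (h : HasNormalPComplement 2 X) : IsPGroup 2 X := by
  haveI : Fact (Nat.Prime 2) := ⟨Nat.prime_two⟩
  obtain ⟨P, N, hN, hc⟩ := h
  have hNc : (Nat.card N).Coprime 2 := Fusion.coprime_card_of_complement hc
  have hle : N.map X.subtype ≤ oddCore R :=
    Core.le_pPrimeCore_of_isSubnormal (Subgroup.IsSubnormal.trans' hN.isSubnormal hX)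
      (by rwa [card_map_of_injective X.subtype_injective])
  rw [hO, le_bot_iff, map_eq_bot_iff_of_injective _ X.subtype_injective] at hle
  subst hle
  have hP : (P : Subgroup X) = ⊤ := Subgroup.isComplement'_bot_left.1 hc
  exact IsPGroup.of_equiv (hP ▸ P.isPGroup') Subgroup.topEquiv

/-- The hypothesis on the odd elements normalising `E`. -/
def FixFree (E : Subgroup R) : Prop :=
  ∀ r : R, Odd (orderOf r) → r ∈ normalizer (E : Set R) →
    (∃ e ∈ E, e ≠ 1 ∧ r * e = e * r) → r ∈ centralizer (E : Set R)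

theorem le_of_no_complement (P : Sylow 2 R) [IsMulCommutative (P : Subgroup R)] (hfix : FixFree (P : Subgroup R))
    (X : Subgroup R) (hX : (P : Subgroup R) ≤ normalizer (X : Set R))
    (hn : ¬ HasNormalPComplement 2 X) : (P : Subgroup R) ≤ X := by
  haveI : Fact (Nat.Prime 2) := ⟨Nat.prime_two⟩
  set E := (P : Subgroup R) with hE
  set Y := X ⊔ E with hY
  let PY : Sylow 2 Y := P.subtype le_sup_right
  have hPY : (PY : Subgroup Y) = E.subgroupOf Y := P.coe_subtype le_sup_right
  by_contra hle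
  refine hn (Fusion.hasNormalPComplement_of_le (le_sup_left : X ≤ Y)
    (Fusion.hasNormalPComplement_of_normalizer_le_centralizer PY ?_))
  intro y hy
  -- it suffices to treat the part of odd order
  have key : ∀ x : Y, x ∈ normalizer ((PY : Subgroup Y) : Set Y) → Odd (orderOf x) →
      x ∈ centralizer ((PY : Subgroup Y) : Set Y) := by
    intro x hx hxo
    have hxN : (x : R) ∈ normalizer (E : Set R) := by
      refine mem_normalizer_fintype fun e he => ?_
      have h := (mem_normalizer_iff.1 hx ⟨e, le_sup_right (a := X) he⟩).1 (by rw [hPY]; exact he)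
      rw [hPY] at h
      exact h
    by_contra hxc
    have hinj : ∀ e ∈ E, (x : R) * e = e * x → e = 1 := fun e he hc => by
      by_contra he1
      have h := hfix x (by rwa [orderOf_coe]) hxN ⟨e, he, he1, hc⟩
      refine hxc fun e' he' => Subtype.ext ?_
      rw [SetLike.mem_coe, hPY] at he'
      exact h _ he'
    -- `x` lies in `X`
    have hxX : (x : R) ∈ X := by
      haveI hXn : (X.subgroupOf Y).Normal :=
        normal_subgroupOf_of_le_normalizer (sup_le le_normalizer hX)
      have hsurj : ∀ q : Y ⧸ X.subgroupOf Y, ∃ e : E.subgroupOf Y, QuotientGroup.mk (e : Y) = q := by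
        intro q
        obtain ⟨y, rfl⟩ := QuotientGroup.mk_surjective q
        obtain ⟨a, ha, e, he, hae⟩ : (y : R) ∈ (X : Set R) * (E : Set R) := by
          rw [← coe_mul_of_right_le_normalizer_left X E hX]
          exact y.2
        have hae : a * e = (y : R) := hae
        refine ⟨⟨⟨e, le_sup_right (a := X) he⟩, he⟩, QuotientGroup.eq.2 ?_⟩
        rw [mem_subgroupOf]
        show e⁻¹ * (y : R) ∈ X
        rw [← hae, ← mul_assoc]
        have := (mem_normalizer_iff.1 (hX (inv_mem he)) a).1 ha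
        simpa [mul_assoc] using this
      have hq : IsPGroup 2 (Y ⧸ X.subgroupOf Y) := by
        intro q
        obtain ⟨e, rfl⟩ := hsurj q
        obtain ⟨k, hk⟩ := P.isPGroup' ⟨((e : Y) : R), e.2⟩
        exact ⟨k, by rw [← QuotientGroup.mk_pow, QuotientGroup.eq_one_iff, mem_subgroupOf]; rw [show
          (((e : Y) ^ 2 ^ k : Y) : R) = 1 from by simpa using congrArg Subtype.val hk]; exact one_mem X⟩
      obtain ⟨k, hk⟩ := hq (QuotientGroup.mk x)
      have hd : orderOf (QuotientGroup.mk (s := X.subgroupOf Y) x) = 1 := by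
        refine Nat.eq_one_of_dvd_coprimes ((Nat.coprime_two_left.2 hxo).pow_left k)
          (orderOf_dvd_of_pow_eq_one hk) (orderOf_map_dvd (QuotientGroup.mk' (X.subgroupOf Y)) x)
      exact mem_subgroupOf.1 ((QuotientGroup.eq_one_iff x).1 (orderOf_eq_one_iff.1 hd))
    let φ : E → E := fun e => ⟨(x : R) * e * (x : R)⁻¹ * (e : R)⁻¹,
      mul_mem ((mem_normalizer_iff.1 hxN e).1 e.2) (inv_mem e.2)⟩
    have hφ : Function.Injective φ := by
      intro e e' h
      have h' : (x : R) * e * (x : R)⁻¹ * (e : R)⁻¹ = (x : R) * e' * (x : R)⁻¹ * (e' : R)⁻¹ :=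
        congrArg Subtype.val h
      have hm : ∀ {a b : R}, a ∈ E → b ∈ E → a * b = b * a := fun ha hb => setLike_mul_comm ha hb
      have hd := hinj ((e' : R)⁻¹ * e) (mul_mem (inv_mem e'.2) e.2) (mul_inv_eq_iff_eq_mul.1 ?_)
      · exact Subtype.ext (inv_mul_eq_one.1 hd).symm
      have e1 : (x : R) * e * (x : R)⁻¹ = (x : R) * e' * (x : R)⁻¹ * (e' : R)⁻¹ * e := by
        rw [← h', inv_mul_cancel_right]
      calc (x : R) * ((e' : R)⁻¹ * e) * (x : R)⁻¹
          = ((x : R) * e' * (x : R)⁻¹)⁻¹ * ((x : R) * e * (x : R)⁻¹) := by group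
        _ = (e' : R)⁻¹ * e := by rw [e1]; group
    obtain ⟨e, he⟩ : ∃ e ∈ E, e ∉ X := SetLike.not_le_iff_exists.1 hle
    obtain ⟨e', hee⟩ := (Finite.injective_iff_surjective.1 hφ) ⟨e, he.1⟩
    refine he.2 ?_
    rw [← show (x : R) * e' * (x : R)⁻¹ * (e' : R)⁻¹ = e from congrArg Subtype.val hee, mul_assoc, mul_assoc]
    refine mul_mem hxX ?_
    rw [← mul_assoc]
    exact (mem_normalizer_iff.1 (hX e'.2) _).1 (inv_mem hxX)
  obtain ⟨a, ha⟩ : ∃ a, a = ordProj[2] (orderOf y) := ⟨_, rfl⟩
  obtain ⟨b, hb⟩ : ∃ b, b = ordCompl[2] (orderOf y) := ⟨_, rfl⟩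
  have hab : a * b = orderOf y := by rw [ha, hb]; exact Nat.ordProj_mul_ordCompl_eq_self _ 2
  have hodd : Odd (orderOf (y ^ a)) := by
    rw [orderOf_pow' _ (by rw [ha]; positivity), Nat.gcd_eq_right (hab ▸ dvd_mul_right a b), ← hab,
      Nat.mul_div_cancel_left _ (by rw [ha]; positivity), hb]
    exact Nat.odd_iff.2 (Nat.two_dvd_ne_zero.1 (Nat.not_dvd_ordCompl Nat.prime_two (orderOf_pos y).ne'))
  have h2 : y ^ b ∈ (PY : Subgroup Y) := by
    obtain ⟨Q, hQ⟩ := (IsPGroup.of_card (p := 2) (n := (orderOf (y ^ b)).factorization 2) (by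
      rw [Nat.card_zpowers]
      have hd : orderOf (y ^ b) ∣ a := orderOf_dvd_of_pow_eq_one (by
        rw [← pow_mul, mul_comm, hab, pow_orderOf_eq_one])
      obtain ⟨i, -, hi⟩ := (Nat.dvd_prime_pow Nat.prime_two).1 (ha ▸ hd)
      rw [hi, Nat.Prime.factorization_pow Nat.prime_two, Finsupp.single_eq_same]) :
      IsPGroup 2 (zpowers (y ^ b))).exists_le_sylow
    have hsup : IsPGroup 2 ((PY : Subgroup Y) ⊔ zpowers (y ^ b) : Subgroup Y) :=
      PY.isPGroup'.to_sup_of_normal_left' (Q.isPGroup'.to_le hQ)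
        (zpowers_le.2 (pow_mem hy b))
    rw [← PY.3 hsup le_sup_left]
    exact mem_sup_right (mem_zpowers _)
  have h3 := key _ (pow_mem hy a) hodd
  haveI : IsMulCommutative (PY : Subgroup Y) := ⟨⟨fun p q => Subtype.ext (Subtype.ext (by
    have hp := p.2; have hq := q.2
    simp only [hPY, mem_subgroupOf] at hp hq
    exact setLike_mul_comm hp hq))⟩⟩
  have h4 : y ^ b ∈ centralizer ((PY : Subgroup Y) : Set Y) := fun p hp => setLike_mul_comm hp h2
  have hcop : Nat.Coprime a b := by
    rw [ha, hb]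
    exact (Nat.coprime_ordCompl Nat.prime_two (orderOf_pos y).ne').pow_left _
  obtain ⟨s, t, hst⟩ : ∃ s t : ℤ, (a : ℤ) * s + (b : ℤ) * t = 1 := ⟨_, _, by
    rw [← Nat.gcd_eq_gcd_ab, hcop]; rfl⟩
  have : y = (y ^ a) ^ s * (y ^ b) ^ t := by
    rw [← zpow_natCast y a, ← zpow_natCast y b, ← zpow_mul, ← zpow_mul, ← zpow_add, hst, zpow_one]
  rw [this]
  exact mul_mem (zpow_mem h3 s) (zpow_mem h4 t)

/-- A simple subgroup containing a Sylow 2-subgroup of order sixteen fuses all involutions of it. -/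
theorem isConj_of_simple (P : Sylow 2 R) [IsMulCommutative (P : Subgroup R)]
    (hP : 16 ≤ Nat.card (P : Subgroup R)) (X : Subgroup R) [IsSimpleGroup X] (hX : ¬ IsMulCommutative X)
    (hPX : (P : Subgroup R) ≤ X) {a b : R} (ha : a ∈ (P : Subgroup R)) (hb : b ∈ (P : Subgroup R))
    (ha2 : a * a = 1) (hb2 : b * b = 1) (ha1 : a ≠ 1) (hb1 : b ≠ 1) : IsConj a b := by
  haveI : Fact (Nat.Prime 2) := ⟨Nat.prime_two⟩
  let PX : Sylow 2 X := P.subtype hPX
  have hc : (PX : Subgroup X) = (P : Subgroup R).subgroupOf X := P.coe_subtype hPX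
  haveI : IsMulCommutative (PX : Subgroup X) := ⟨⟨fun p q => Subtype.ext (Subtype.ext (by
    have hp := p.2; have hq := q.2
    simp only [hc, mem_subgroupOf] at hp hq
    exact setLike_mul_comm hp hq))⟩⟩
  obtain ⟨n, F, _, _, -, hF, ⟨e⟩⟩ := WalterBig.big hX PX inferInstance
    (Or.inr (by rw [hc, Nat.card_congr (subgroupOfEquivOfLe hPX).toEquiv]; exact hP))
  haveI : CharP F 2 := by
    obtain ⟨p, hp⟩ := CharP.exists F
    obtain ⟨m, hpp, hm⟩ := FiniteField.card F p
    have hd : p ∣ 2 ^ n := hF ▸ hm ▸ dvd_pow_self p m.ne_zero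
    obtain rfl := (Nat.prime_dvd_prime_iff_eq hpp Nat.prime_two).1 (hpp.dvd_of_dvd_pow hd)
    exact hp
  let ψ : X ≃* Matrix.SpecialLinearGroup (Fin 2) F := e.trans Spec.pslEquivOfCharTwo
  have hkey : ∀ c : X, c * c = 1 → c ≠ 1 → ∃ g, g * slUnip * g⁻¹ = ψ c :=
    fun c h h' => sl_involution_conj _ (by rw [← map_mul, h, map_one]) fun e => h' (ψ.injective (by rw [e, map_one]))
  obtain ⟨g, hg⟩ := hkey ⟨a, hPX ha⟩ (Subtype.ext ha2) fun e => ha1 (congrArg Subtype.val e)
  obtain ⟨g', hg'⟩ := hkey ⟨b, hPX hb⟩ (Subtype.ext hb2) fun e => hb1 (congrArg Subtype.val e)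
  have hconj : IsConj (⟨a, hPX ha⟩ : X) ⟨b, hPX hb⟩ := by
    refine isConj_iff.2 ⟨ψ.symm (g' * g⁻¹), ψ.injective ?_⟩
    rw [map_mul, map_mul, map_inv, MulEquiv.apply_symm_apply, ← hg, ← hg']
    simp [mul_assoc]
  exact X.subtype.map_isConj hconj

/-- The normality of the Sylow 2-subgroup. -/
theorem normal_of_fixFree (hO : oddCore R = ⊥) (P : Sylow 2 R) [IsMulCommutative (P : Subgroup R)]
    (hfix : FixFree (P : Subgroup R)) (hP : 16 ≤ Nat.card (P : Subgroup R))
    (hcl : ∃ a ∈ (P : Subgroup R), ∃ b ∈ (P : Subgroup R),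
      a * a = 1 ∧ b * b = 1 ∧ a ≠ 1 ∧ b ≠ 1 ∧ ¬ IsConj a b) :
    (P : Subgroup R).Normal ∧ centralizer ((P : Subgroup R) : Set R) ≤ (P : Subgroup R) := by
  haveI : Fact (Nat.Prime 2) := ⟨Nat.prime_two⟩
  have hsub : ∀ X : Subgroup R, X.IsSubnormal → IsPGroup 2 X → X ≤ Cfsg.pCore 2 R :=
    fun X hX h => Core.le_pCore_of_isSubnormal hX h
  by_cases hp : Cfsg.pCore 2 R = ⊥
  · exfalso
    obtain ⟨a, ha, b, hb, ha2, hb2, ha1, hb1, hab⟩ := hcl
    have hnc : ∀ X : Subgroup R, X.IsSubnormal → X ≠ ⊥ → ¬ HasNormalPComplement 2 X := fun X hX h1 h =>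
      h1 (le_bot_iff.1 (hp ▸ hsub X hX (isPGroup_of_complement hO hX h)))
    haveI : Nontrivial R := ⟨a, 1, ha1⟩
    obtain ⟨K, ⟨hKn, hK1⟩, hKmin⟩ := Set.Finite.exists_minimal
      (Set.toFinite {K : Subgroup R | K.Normal ∧ K ≠ ⊥}) ⟨⊤, inferInstance, top_ne_bot⟩
    haveI := hKn
    have hPK : (P : Subgroup R) ≤ K := le_of_no_complement P hfix K
      (by rw [normalizer_eq_top_iff.2 hKn]; exact le_top) (hnc K hKn.isSubnormal hK1)
    haveI : Nontrivial K := (nontrivial_iff_ne_bot K).2 hK1
    obtain ⟨X', ⟨hXn, hX1⟩, hXmin⟩ := Set.Finite.exists_minimal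
      (Set.toFinite {X : Subgroup K | X.Normal ∧ X ≠ ⊥}) ⟨⊤, inferInstance, top_ne_bot⟩
    haveI := hXn
    set X := X'.map K.subtype with hXdef
    have hXsn : X.IsSubnormal := Subgroup.IsSubnormal.trans' hXn.isSubnormal hKn.isSubnormal
    have hnormX : K ≤ normalizer (X : Set R) := fun k hk => by
      refine mem_normalizer_fintype ?_
      rintro _ ⟨y, hy, rfl⟩
      exact ⟨⟨k, hk⟩ * y * ⟨k, hk⟩⁻¹, hXn.conj_mem y hy _, rfl⟩
    have hPX : (P : Subgroup R) ≤ X := le_of_no_complement P hfix X (hPK.trans hnormX)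
      (hnc X hXsn fun h => hX1 (by rwa [hXdef, map_eq_bot_iff_of_injective _ K.subtype_injective] at h))
    haveI : Nontrivial X := ⟨⟨a, hPX ha⟩, 1, fun e => ha1 (congrArg Subtype.val e)⟩
    haveI hsimp : IsSimpleGroup X := by
      refine ⟨fun Y hY => ?_⟩
      by_contra hne
      push Not at hne
      set Y' := (Y.map X.subtype).subgroupOf K with hY'
      have hle : Y.map X.subtype ≤ K := (map_subtype_le _).trans (map_subtype_le _)
      have hmem : (P : Subgroup R).subgroupOf K ≤ Y'.normalCore := by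
        intro p hp k
        -- a conjugate of `Y` normal in `X` contains the Sylow subgroup
        set Z := (Y.map X.subtype).map (MulAut.conj (k : R)⁻¹).toMonoidHom with hZ
        have hZX : Z ≤ X := by
          rintro _ ⟨y, hy, rfl⟩
          obtain ⟨y', -, rfl⟩ := hy
          exact (mem_normalizer_iff.1 (inv_mem (hnormX k.2)) _).1 y'.2
        have hZn : (Z.subgroupOf X).Normal := by
          refine normal_subgroupOf_of_le_normalizer fun x hx => mem_normalizer_fintype ?_
          rintro _ ⟨_, ⟨y, hy, rfl⟩, rfl⟩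
          have hx' : (k : R) * x * (k : R)⁻¹ ∈ X := (mem_normalizer_iff.1 (hnormX k.2) x).1 hx
          refine ⟨_, ⟨⟨_, hx'⟩ * y * ⟨_, hx'⟩⁻¹, hY.conj_mem y hy _, rfl⟩, ?_⟩
          show (k : R)⁻¹ * ((k : R) * x * (k : R)⁻¹ * (y : R) * ((k : R) * x * (k : R)⁻¹)⁻¹) * (k : R)⁻¹⁻¹ =
            x * ((k : R)⁻¹ * (y : R) * (k : R)⁻¹⁻¹) * x⁻¹
          group
        have hPZ : (P : Subgroup R) ≤ Z := le_of_no_complement P hfix Z
          (hPX.trans ((normal_subgroupOf_iff_le_normalizer hZX).1 hZn))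
          (hnc Z (Subgroup.IsSubnormal.trans hZX hZn.isSubnormal hXsn) fun h => hne.1 (by
            rw [hZ, map_eq_bot_iff_of_injective _ (MulAut.conj (k : R)⁻¹).injective,
              map_eq_bot_iff_of_injective _ X.subtype_injective] at h
            exact h))
        obtain ⟨y, hy, hye⟩ := hPZ (mem_subgroupOf.1 hp)
        rw [hY', mem_subgroupOf]
        show (k : R) * (p : R) * (k : R)⁻¹ ∈ _
        rw [← hye]
        show (k : R) * ((k : R)⁻¹ * y * (k : R)⁻¹⁻¹) * (k : R)⁻¹ ∈ _
        rw [show (k : R) * ((k : R)⁻¹ * y * (k : R)⁻¹⁻¹) * (k : R)⁻¹ = y by group]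
        exact hy
      have hcore : Y'.normalCore ≠ ⊥ := fun h => ha1 (by
        have := hmem (show (⟨a, hPK ha⟩ : K) ∈ _ from ha)
        rw [h, mem_bot] at this
        exact congrArg Subtype.val this)
      have hle' : Y'.normalCore ≤ X' := fun y hy => by
        have h := normalCore_le Y' hy
        rw [hY', mem_subgroupOf] at h
        obtain ⟨w, -, hw⟩ := h
        obtain ⟨v, hv, hve⟩ := w.2
        rwa [show y = v from Subtype.ext (hw.symm.trans hve.symm)]
      refine hne.2 ((eq_top_iff' Y).2 fun x => ?_)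
      obtain ⟨v, hv, hve⟩ := x.2
      have h := normalCore_le Y' (hXmin ⟨normalCore_normal Y', hcore⟩ hle' hv)
      rw [hY', mem_subgroupOf] at h
      obtain ⟨w, hw, hwe⟩ := h
      rwa [show x = w from Subtype.ext (hve.symm.trans hwe.symm)]
    have hna : ¬ IsMulCommutative X := fun h => by
      refine hnc X hXsn (fun e => ha1 ?_) (Fusion.hasNormalPComplement_of_normalizer_le_centralizer
        (default : Sylow 2 X) fun y _ p _ => setLike_mul_comm (s := (⊤ : Subgroup X)) (mem_top p) (mem_top y))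
      have := hPX ha
      rwa [e, mem_bot] at this
    exact hab (isConj_of_simple P hP X hna hPX ha hb ha2 hb2 ha1 hb1)
  · -- the centraliser of the normal 2-subgroup
    obtain ⟨k, hk, hk1⟩ : ∃ k ∈ Cfsg.pCore 2 R, k ≠ (1 : R) := by
      by_contra h
      push Not at h
      exact hp (eq_bot_iff.2 fun x hx => mem_bot.2 (h x hx))
    haveI : (Cfsg.pCore 2 R).Normal := inferInstance
    have hCP : Cfsg.pCore 2 R ≤ (P : Subgroup R) := Core.pCore_le_sylow P
    set C := centralizer ((Cfsg.pCore 2 R : Subgroup R) : Set R) with hC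
    have hPC : (P : Subgroup R) ≤ C := fun x hx y hy => setLike_mul_comm (hCP hy) hx
    let PC : Sylow 2 C := P.subtype hPC
    have hPCe : (PC : Subgroup C) = (P : Subgroup R).subgroupOf C := P.coe_subtype hPC
    haveI hCn : C.Normal := inferInstance
    have hCc : HasNormalPComplement 2 C := by
      by_contra hn
      refine hn (Fusion.hasNormalPComplement_of_normalizer_le_centralizer PC fun y hy => ?_)
      have key : ∀ x : C, x ∈ normalizer ((PC : Subgroup C) : Set C) → Odd (orderOf x) →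
          (x : R) ∈ centralizer ((P : Subgroup R) : Set R) := fun x hx hxo => by
        refine hfix x (by rwa [orderOf_coe]) (mem_normalizer_fintype fun e he => ?_)
          ⟨k, hCP hk, hk1, (x.2 k hk).symm⟩
        have h := (mem_normalizer_iff.1 hx ⟨e, hPC he⟩).1 (by rw [hPCe]; exact he)
        rw [hPCe] at h
        exact h
      obtain ⟨a, b, hab, hodd, h2⟩ : ∃ a b : ℕ, Nat.Coprime a b ∧ Odd (orderOf (y ^ a)) ∧
          y ^ b ∈ (PC : Subgroup C) := by
        refine ⟨ordProj[2] (orderOf y), ordCompl[2] (orderOf y),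
          (Nat.coprime_ordCompl Nat.prime_two (orderOf_pos y).ne').pow_left _, ?_, ?_⟩
        · rw [orderOf_pow' _ (by positivity), Nat.gcd_eq_right (Nat.ordProj_dvd _ 2)]
          exact Nat.odd_iff.2 (Nat.two_dvd_ne_zero.1 (Nat.not_dvd_ordCompl Nat.prime_two (orderOf_pos y).ne'))
        · have hp' : IsPGroup 2 (zpowers (y ^ ordCompl[2] (orderOf y))) := by
            intro g
            obtain ⟨i, hi⟩ := mem_zpowers_iff.1 g.2
            refine ⟨(orderOf y).factorization 2, Subtype.ext ?_⟩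
            rw [coe_pow, coe_one, ← hi, ← zpow_natCast, ← zpow_mul, mul_comm, zpow_mul, zpow_natCast,
              ← pow_mul, mul_comm (ordCompl[2] (orderOf y)), Nat.ordProj_mul_ordCompl_eq_self,
              pow_orderOf_eq_one, one_zpow]
          rw [← PC.3 (PC.isPGroup'.to_sup_of_normal_left' hp' (zpowers_le.2 (pow_mem hy _))) le_sup_left]
          exact mem_sup_right (mem_zpowers _)
      have hin : ∀ z : C, (z : R) ∈ centralizer ((P : Subgroup R) : Set R) → z ∈ centralizer ((PC : Subgroup C) : Set C) :=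
        fun z hz p hp => by
          rw [SetLike.mem_coe, hPCe] at hp
          exact Subtype.ext (hz _ hp)
      have hy2 := hin _ (key _ (pow_mem hy a) hodd)
      have hy1 : y ^ b ∈ centralizer ((PC : Subgroup C) : Set C) := hin _ fun p hp => by
        rw [hPCe] at h2
        exact setLike_mul_comm hp h2
      obtain ⟨s, t, hst⟩ : ∃ s t : ℤ, (a : ℤ) * s + (b : ℤ) * t = 1 := ⟨_, _, by
        rw [← Nat.gcd_eq_gcd_ab, hab]; rfl⟩
      rw [show y = (y ^ a) ^ s * (y ^ b) ^ t by
        rw [← zpow_natCast y a, ← zpow_natCast y b, ← zpow_mul, ← zpow_mul, ← zpow_add, hst, zpow_one]]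
      exact mul_mem (zpow_mem hy2 s) (zpow_mem hy1 t)
    have hC2 := isPGroup_of_complement hO hCn.isSubnormal hCc
    have hCeq : (P : Subgroup R) = C := (P.3 hC2 hPC).symm
    refine ⟨hCeq ▸ hCn, fun x hx => ?_⟩
    rw [hCeq]
    exact fun y hy => hx y (hCP hy)

end Cfsg.Lib.MTwelveLocal
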