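import Cfsg.Agent.Lib.MTwelveLocal.Data
import Cfsg.Agent.S0111

/-!
A Sylow 2-subgroup of the type of M12, by indices, and the conjugations normalised into it.
-/

set_option autoImplicit false
set_option linter.style.haveILetI false
set_option linter.unusedSectionVars false
set_option maxRecDepth 100000

namespace Cfsg.Lib.MTwelveLocal

open Cfsg Cfsg.Lib.MTwelveRecog Subgroup

universe u

/-- A Sylow 2-subgroup indexed by the Sylow subgroup of the table group. -/
structure Frame (G : Type u) [Group G] where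
  /-- the Sylow subgroup -/
  P : Sylow 2 G
  /-- the indexing -/
  f : Fin 192 → G
  inj : ∀ i j, inSyl i = true → inSyl j = true → f i = f j → i = j
  fmul : ∀ i j, inSyl i = true → inSyl j = true → f (cMul i j) = f i * f j
  mem_iff : ∀ g : G, g ∈ (P : Subgroup G) ↔ ∃ i, inSyl i = true ∧ f i = g

theorem inS_mul {i j : Fin 192} (hi : inSyl i = true) (hj : inSyl j = true) : inSyl (cMul i j) = true :=
  inSyl_facts.2.2.1 i j hi hj

theorem inS_inv {i : Fin 192} (hi : inSyl i = true) : inSyl (cInv i) = true :=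
  inSyl_facts.2.2.2.1 i hi

theorem inS_comm {i j : Fin 192} (hi : inSyl i = true) (hj : inSyl j = true) : inSyl (sComm i j) = true :=
  inS_mul (inS_mul hi hj) (inS_mul (inS_inv hi) (inS_inv hj))

theorem inS_cT : inSyl cT = true := inSyl_facts.2.1

/-- A 2-subgroup moved into a maximal one inside a subgroup. -/
theorem exists_conj_into {G : Type u} [Group G] [Finite G] (K Q R : Subgroup G) (hQ : IsPGroup 2 Q)
    (hQK : Q ≤ K) (hR : IsPGroup 2 R) (hRK : R ≤ K)
    (hmax : ∀ R' : Subgroup G, IsPGroup 2 R' → R ≤ R' → R' ≤ K → R' ≤ R) :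
    ∃ k ∈ K, ∀ x ∈ Q, k * x * k⁻¹ ∈ R := by
  haveI : Fact (Nat.Prime 2) := ⟨Nat.prime_two⟩
  obtain ⟨Q', hQ'⟩ := (hQ.of_equiv (subgroupOfEquivOfLe hQK).symm : IsPGroup 2 (Q.subgroupOf K)).exists_le_sylow
  obtain ⟨R', hR'⟩ := (hR.of_equiv (subgroupOfEquivOfLe hRK).symm : IsPGroup 2 (R.subgroupOf K)).exists_le_sylow
  have hR'' : (R' : Subgroup K).map K.subtype ≤ R :=
    hmax _ (R'.isPGroup'.map _) (fun x hx => ⟨⟨x, hRK hx⟩, hR' (mem_subgroupOf.2 hx), rfl⟩) (map_subtype_le _)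
  obtain ⟨k, hk⟩ := MulAction.exists_smul_eq K Q' R'
  refine ⟨k, k.2, fun x hx => hR'' ⟨k * ⟨x, hQK hx⟩ * k⁻¹, ?_, rfl⟩⟩
  show k * ⟨x, hQK hx⟩ * k⁻¹ ∈ (R' : Subgroup K)
  rw [← hk, Sylow.coe_subgroup_smul, Subgroup.mem_smul_pointwise_iff_exists]
  exact ⟨⟨x, hQK hx⟩, hQ' (mem_subgroupOf.2 hx), rfl⟩

namespace Frame

variable {G : Type u} [Group G] (F : Frame G)

/-- The central involution. -/
def z : G := F.f cT

theorem fone : F.f 0 = 1 := by
  have h := F.fmul 0 0 inSyl_facts.1 inSyl_facts.1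
  rw [(cMul_inv 0).2.2.1] at h
  exact left_eq_mul.1 h

theorem finv {i : Fin 192} (hi : inSyl i = true) : F.f (cInv i) = (F.f i)⁻¹ :=
  eq_inv_of_mul_eq_one_left (by rw [← F.fmul _ _ (inS_inv hi) hi, (cMul_inv i).2.1, F.fone])

theorem fconj {h i : Fin 192} (hh : inSyl h = true) (hi : inSyl i = true) :
    F.f (cConj h i) = F.f h * F.f i * (F.f h)⁻¹ := by
  rw [cConj, F.fmul _ _ (inS_mul hh hi) (inS_inv hh), F.fmul _ _ hh hi, F.finv hh]

theorem fcomm {i j : Fin 192} (hi : inSyl i = true) (hj : inSyl j = true) :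
    F.f (sComm i j) = F.f i * F.f j * ((F.f i)⁻¹ * (F.f j)⁻¹) := by
  rw [sComm, F.fmul _ _ (inS_mul hi hj) (inS_mul (inS_inv hi) (inS_inv hj)), F.fmul _ _ hi hj,
    F.fmul _ _ (inS_inv hi) (inS_inv hj), F.finv hi, F.finv hj]

theorem f_mem {i : Fin 192} (hi : inSyl i = true) : F.f i ∈ (F.P : Subgroup G) :=
  (F.mem_iff _).2 ⟨i, hi, rfl⟩

theorem cm_of_comm {i j : Fin 192} (hi : inSyl i = true) (hj : inSyl j = true)
    (h : F.f i * F.f j = F.f j * F.f i) : sCm i j = true := by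
  simp only [sCm, beq_iff_eq]
  exact F.inj _ _ (inS_mul hi hj) (inS_mul hj hi) (by rw [F.fmul _ _ hi hj, F.fmul _ _ hj hi, h])

theorem comm_of_cm {i j : Fin 192} (hi : inSyl i = true) (hj : inSyl j = true) (h : sCm i j = true) :
    F.f i * F.f j = F.f j * F.f i := by
  simp only [sCm, beq_iff_eq] at h
  rw [← F.fmul _ _ hi hj, ← F.fmul _ _ hj hi, h]

theorem ne_one {i : Fin 192} (hi : inSyl i = true) (h0 : i ≠ 0) : F.f i ≠ 1 := fun h =>
  h0 (F.inj _ _ hi inSyl_facts.1 (h.trans F.fone.symm))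

theorem sq_eq {i : Fin 192} (hi : inSyl i = true) : F.f i * F.f i = 1 ↔ cMul i i = 0 := by
  rw [← F.fmul _ _ hi hi, ← F.fone]
  exact ⟨F.inj _ _ (inS_mul hi hi) inSyl_facts.1, fun h => by rw [h]⟩

theorem orderOf_f {i : Fin 192} (hi : inSyl i = true) (h : sCl i ≠ 0) : orderOf (F.f i) = 2 := by
  obtain ⟨h2, h0⟩ := (sCl_facts i hi).1.2 h
  exact orderOf_eq_prime (by rw [sq]; exact (F.sq_eq hi).2 h2) (F.ne_one hi h0)

theorem exists_idx {g : G} (hg : g ∈ (F.P : Subgroup G)) (h2 : orderOf g = 2) :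
    ∃ i, inSyl i = true ∧ F.f i = g ∧ sCl i ≠ 0 := by
  obtain ⟨i, hi, rfl⟩ := (F.mem_iff g).1 hg
  refine ⟨i, hi, rfl, (sCl_facts i hi).1.1 ⟨(F.sq_eq hi).1 ?_, fun h => ?_⟩⟩
  · rw [← sq, ← h2, pow_orderOf_eq_one]
  · rw [h, F.fone, orderOf_one] at h2
    norm_num at h2

theorem z_mem : F.z ∈ (F.P : Subgroup G) := F.f_mem inS_cT

theorem orderOf_z : orderOf F.z = 2 := F.orderOf_f inS_cT (by decide +kernel)

theorem z_ne_one : F.z ≠ 1 := F.ne_one inS_cT (by decide)

theorem z_sq : F.z * F.z = 1 := by rw [← sq, ← F.orderOf_z, pow_orderOf_eq_one]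

theorem comm_z {i : Fin 192} (hi : inSyl i = true) : F.f i * F.z = F.z * F.f i :=
  F.comm_of_cm hi inS_cT (by simp only [sCm, beq_iff_eq]; exact (cT_central i).1)

theorem P_le_centralizer : (F.P : Subgroup G) ≤ centralizer ({F.z} : Set G) := fun g hg => by
  obtain ⟨i, hi, rfl⟩ := (F.mem_iff g).1 hg
  exact mem_centralizer_singleton_iff.2 (F.comm_z hi)

/-- Composition with an automorphism of the Sylow subgroup. -/
def precomp (α : Fin 192 → Fin 192) (hα : ∀ i, inSyl i = true → inSyl (α i) = true)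
    (hm : ∀ i j, inSyl i = true → inSyl j = true → α (cMul i j) = cMul (α i) (α j))
    (hi : ∀ i j, inSyl i = true → inSyl j = true → α i = α j → i = j) : Frame G where
  P := F.P
  f := fun i => F.f (α i)
  inj := fun i j h h' e => hi i j h h' (F.inj _ _ (hα i h) (hα j h') e)
  fmul := fun i j h h' => by rw [hm i j h h', F.fmul _ _ (hα i h) (hα j h')]
  mem_iff := fun g => by
    rw [F.mem_iff]
    refine ⟨fun ⟨i, h, e⟩ => ?_, fun ⟨i, h, e⟩ => ⟨α i, hα i h, e⟩⟩
    have hsurj : Function.Surjective fun j : {j // inSyl j = true} => (⟨α j.1, hα j.1 j.2⟩ : {j // inSyl j = true}) :=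
      Finite.injective_iff_surjective.1 fun j k e => Subtype.ext (hi _ _ j.2 k.2 (congrArg Subtype.val e))
    obtain ⟨j, hj⟩ := hsurj ⟨i, h⟩
    exact ⟨j.1, j.2, by rw [show α j.1 = i from congrArg Subtype.val hj, e]⟩

/-- The subgroup of a closed set of indices. -/
def sub (p : Fin 192 → Bool) (h0 : p 0 = true)
    (hS : ∀ i, p i = true → inSyl i = true)
    (hm : ∀ i j, p i = true → p j = true → p (cMul i j) = true)
    (hv : ∀ i, p i = true → p (cInv i) = true) : Subgroup G where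
  carrier := {g | ∃ i, p i = true ∧ F.f i = g}
  one_mem' := ⟨0, h0, F.fone⟩
  mul_mem' := by
    rintro _ _ ⟨i, hi, rfl⟩ ⟨j, hj, rfl⟩
    exact ⟨cMul i j, hm i j hi hj, F.fmul _ _ (hS i hi) (hS j hj)⟩
  inv_mem' := by
    rintro _ ⟨i, hi, rfl⟩
    exact ⟨cInv i, hv i hi, F.finv (hS i hi)⟩

theorem card_of_pred (p : Fin 192 → Bool) (hS : ∀ i, p i = true → inSyl i = true) (K : Subgroup G)
    (hK : ∀ g, g ∈ K ↔ ∃ i, p i = true ∧ F.f i = g) :
    Nat.card K = ((List.finRange 192).filter p).length := by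
  let Φ : {i : Fin 192 // p i = true} → K := fun i => ⟨F.f i.1, (hK _).2 ⟨i.1, i.2, rfl⟩⟩
  have hΦ : Function.Bijective Φ := by
    refine ⟨fun i j h => Subtype.ext (F.inj _ _ (hS _ i.2) (hS _ j.2) (congrArg Subtype.val h)), ?_⟩
    rintro ⟨g, hg⟩
    obtain ⟨i, hi, rfl⟩ := (hK g).1 hg
    exact ⟨⟨i, hi⟩, rfl⟩
  rw [← Nat.card_eq_of_bijective Φ hΦ, Nat.card_eq_fintype_card, Fintype.card_subtype,
    ← List.toFinset_card_of_nodup ((List.nodup_finRange 192).filter p)]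
  congr 1
  ext i
  simp

theorem card_P : Nat.card (F.P : Subgroup G) = 64 :=
  (F.card_of_pred inSyl (fun _ h => h) _ F.mem_iff).trans inSyl_facts.2.2.2.2.1

/-- The centraliser of an indexed element in the Sylow subgroup. -/
def centS (v : Fin 192) : Subgroup G := (F.P : Subgroup G) ⊓ centralizer ({F.f v} : Set G)

theorem mem_centS {v : Fin 192} (hv : inSyl v = true) (g : G) :
    g ∈ F.centS v ↔ ∃ i, (inSyl i && sCm v i) = true ∧ F.f i = g := by
  simp only [centS, mem_inf, mem_centralizer_singleton_iff, F.mem_iff, Bool.and_eq_true]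
  constructor
  · rintro ⟨⟨i, hi, rfl⟩, h⟩
    exact ⟨i, ⟨hi, F.cm_of_comm hv hi h.symm⟩, rfl⟩
  · rintro ⟨i, ⟨hi, hc⟩, rfl⟩
    exact ⟨⟨i, hi, rfl⟩, (F.comm_of_cm hv hi hc).symm⟩

theorem card_centS {v : Fin 192} (hv : inSyl v = true) :
    Nat.card (F.centS v) = ((List.finRange 192).filter fun j => inSyl j && sCm v j).length :=
  F.card_of_pred _ (fun _ h => (Bool.and_eq_true _ _ ▸ h : _ ∧ _).1) _ (F.mem_centS hv)

/-- An element whose class is that of the central involution. -/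
def T (i : Fin 192) : Prop := IsConj F.z (F.f i)

theorem T_z : F.T cT := IsConj.refl _

theorem isConj_sCl {i : Fin 192} (hi : inSyl i = true) (h : sCl i ≠ 0) :
    inSyl (sCl i) = true ∧ IsConj (F.f (sCl i)) (F.f i) := by
  have hc : inSyl (sCl i) = true := by
    rcases (sCl_facts i hi).2 h with e | e | e | e | e | e | e <;> rw [e] <;> decide +kernel
  refine ⟨hc, ?_⟩
  obtain ⟨g, -, hg⟩ := List.any_eq_true.1 (sCl_wit i hi h)
  simp only [Bool.and_eq_true, beq_iff_eq] at hg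
  exact isConj_iff.2 ⟨F.f g, by rw [← F.fconj hg.1 hc, hg.2]⟩

theorem T_sCl {i : Fin 192} (hi : inSyl i = true) (h : sCl i ≠ 0) : F.T i ↔ F.T (sCl i) :=
  ⟨fun e => IsConj.trans e (F.isConj_sCl hi h).2.symm, fun e => IsConj.trans e (F.isConj_sCl hi h).2⟩

theorem T_of_conj {g : G} {i j : Fin 192} (h : g * F.f i * g⁻¹ = F.f j) : F.T i ↔ F.T j :=
  ⟨fun e => IsConj.trans e (isConj_iff.2 ⟨g, h⟩), fun e => IsConj.trans e (isConj_iff.2 ⟨g, h⟩).symm⟩

variable [Finite G]

theorem le_P {R' : Subgroup G} (h : IsPGroup 2 R') (hle : (F.P : Subgroup G) ≤ R') : R' ≤ F.P :=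
  (F.P.3 h hle).le

/-- The centraliser in the Sylow subgroup of a conjugate of `z`, moved into the Sylow subgroup. -/
theorem exists_to_z {v : Fin 192} (hv : inSyl v = true) (hT : F.T v) :
    ∃ g : G, g * F.f v * g⁻¹ = F.z ∧
      ∀ i, inSyl i = true → sCm v i = true → ∃ j, inSyl j = true ∧ g * F.f i * g⁻¹ = F.f j := by
  obtain ⟨c, hc⟩ := isConj_iff.1 hT.symm
  have hle : (F.centS v).map (MulAut.conj c).toMonoidHom ≤ centralizer ({F.z} : Set G) := by
    rintro _ ⟨x, hx, rfl⟩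
    rw [mem_centralizer_singleton_iff]
    show c * x * c⁻¹ * F.z = F.z * (c * x * c⁻¹)
    have hxv := mem_centralizer_singleton_iff.1 (mem_inf.1 hx).2
    rw [← hc]
    calc c * x * c⁻¹ * (c * F.f v * c⁻¹) = c * (x * F.f v) * c⁻¹ := by group
      _ = c * (F.f v * x) * c⁻¹ := by rw [hxv]
      _ = c * F.f v * c⁻¹ * (c * x * c⁻¹) := by group
  obtain ⟨k, hk, hkQ⟩ := exists_conj_into (centralizer ({F.z} : Set G))
    ((F.centS v).map (MulAut.conj c).toMonoidHom) F.P
    ((F.P.isPGroup'.to_le inf_le_left).map _) hle F.P.isPGroup' F.P_le_centralizer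
    (fun R' h1 h2 _ => F.le_P h1 h2)
  refine ⟨k * c, ?_, fun i hi hci => ?_⟩
  · rw [mul_inv_rev, show k * c * F.f v * (c⁻¹ * k⁻¹) = k * (c * F.f v * c⁻¹) * k⁻¹ by group, hc,
      mem_centralizer_singleton_iff.1 hk, mul_inv_cancel_right]
  · obtain ⟨j, hj, e⟩ := (F.mem_iff _).1 (hkQ _ ⟨F.f i, (F.mem_centS hv _).2
      ⟨i, by simp [hi, hci], rfl⟩, rfl⟩)
    refine ⟨j, hj, ?_⟩
    rw [e]
    simp [mul_inv_rev, mul_assoc]

/-- A maximal subgroup meets the class of any involution, in a simple group. -/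
theorem exists_conj_mem [IsSimpleGroup G] (hna : ¬ IsMulCommutative G) (p : Fin 192 → Bool)
    (h0 : p 0 = true) (hS : ∀ i, p i = true → inSyl i = true)
    (hm : ∀ i j, p i = true → p j = true → p (cMul i j) = true)
    (hv : ∀ i, p i = true → p (cInv i) = true)
    (h32 : ((List.finRange 192).filter p).length = 32)
    {v : Fin 192} (hvS : inSyl v = true) (hv2 : sCl v ≠ 0) (hvp : p v ≠ true) :
    ∃ i, p i = true ∧ IsConj (F.f v) (F.f i) := by
  have hle : F.sub p h0 hS hm hv ≤ (F.P : Subgroup G) := by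
    rintro _ ⟨i, hi, rfl⟩
    exact F.f_mem (hS i hi)
  have hrel : (F.sub p h0 hS hm hv).relIndex (F.P : Subgroup G) = 2 := by
    have h1 := ((F.sub p h0 hS hm hv).subgroupOf (F.P : Subgroup G)).index_mul_card
    rw [Nat.card_congr (subgroupOfEquivOfLe hle).toEquiv, F.card_of_pred p hS _ fun _ => Iff.rfl, h32,
      F.card_P] at h1
    rw [relIndex]
    omega
  have hout : F.f v ∉ F.sub p h0 hS hm hv := by
    rintro ⟨i, hi, e⟩
    exact hvp ((F.inj _ _ (hS i hi) hvS e) ▸ hi)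
  rcases Cfsg.Agent.S0111.result F.P _ hle hrel (F.f v) (F.orderOf_f hvS hv2) (F.f_mem hvS) hout with
    ⟨M, hMn, hMi, -⟩ | ⟨g, i, hi, e⟩
  · exfalso
    rcases IsSimpleGroup.eq_bot_or_eq_top_of_normal M hMn with rfl | rfl
    · rw [index_bot] at hMi
      haveI : Fact (Nat.Prime 2) := ⟨Nat.prime_two⟩
      haveI := isCyclic_of_prime_card hMi
      exact hna ⟨⟨fun a b => by
        letI := IsCyclic.commGroup (α := G)
        exact mul_comm a b⟩⟩
    · rw [index_top] at hMi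
      exact absurd hMi (by norm_num)
  · exact ⟨i, hi, isConj_iff.2 ⟨g, e.symm⟩⟩

end Frame

end Cfsg.Lib.MTwelveLocal
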