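import Cfsg.Agent.Lib.MTwelveLocal.Pattern

/-!
The centraliser of the central involution has a subgroup of index 2 meeting the Sylow subgroup in the
extraspecial subgroup of order 32.
-/

set_option autoImplicit false
set_option linter.style.haveILetI false
set_option linter.unusedSectionVars false
set_option maxRecDepth 100000

namespace Cfsg.Lib.MTwelveLocal

open Cfsg Cfsg.Lib.MTwelveRecog Subgroup

/-- The elements fixing `v` up to the central involution. -/
def sPm (v i : Fin 192) : Bool :=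
  inSyl i && (cConj i v == v || cConj i v == cMul v cT)

/-- The class of `i` is that of 14, 44 or 3. -/
def inA (i : Fin 192) : Bool := sCl i == 14 || sCl i == 44 || sCl i == 3

/-- An involution outside the classes of 14, 44 and 3. -/
def inB (i : Fin 192) : Bool := sCl i == 55 || sCl i == 60 || sCl i == 76 || sCl i == 61

theorem cert_T : ∀ a : Fin 192, (a = 44 ∨ a = 106) →
    ∀ b : Fin 192, sPm a b = true → (inA b || (sCl b == 61)) = true → sComm a b = cT →
    ∀ c : Fin 192, sPm a c = true → (inA c || (sCl c == 61)) = true → sCm a c = true → sCm b c = true →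
      c = cT ∨ (inA (cMul a c) || (sCl (cMul a c) == 61)) = false ∨
        (inA (cMul b c) || (sCl (cMul b c) == 61)) = false := by
  decide +kernel

theorem cert_B : ∀ a : Fin 192, inQ a = true → inB a = true →
    ∀ b : Fin 192, sPm a b = true → inB b = true → sComm a b = cT →
    ∀ c : Fin 192, sPm a c = true → inA c = true → sCm a c = true → sCm b c = true →
      c = cT ∨ inB (cMul a c) = false ∨ inB (cMul b c) = false := by
  decide +kernel

theorem src61 : sPm 61 61 = true ∧ sPm 61 73 = true ∧ sPm 61 44 = true ∧ sComm 61 73 = cT ∧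
    sCm 61 44 = true ∧ sCm 73 44 = true ∧ sCl 73 = 61 ∧ sCl (cMul 61 44) = 61 ∧
    sCl (cMul 73 44) = 61 ∧ sPm 61 cT = true := by
  decide +kernel

theorem centre_pm : ∀ i : Fin 192, inSyl i = true → sCl i ≠ 0 →
    ((List.finRange 192).filter fun j => sPm i j).length = 64 → sCl i = cT ∨ sCl i = 44 := by
  decide +kernel

theorem pm_card : ∀ i : Fin 192, inSyl i = true → (sCl i = 55 ∨ sCl i = 60 ∨ sCl i = 76) →
    ((List.finRange 192).filter fun j => sPm i j).length = 32 := by
  decide +kernel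

theorem sPm_44 : ∀ j : Fin 192, inSyl j = true → sPm 44 j = true ∧ sPm 106 j = true := by
  decide +kernel

theorem quad_rel : cMul (cMul 55 60) 76 = 144 ∧ inSyl 144 = true ∧
    (List.finRange 192).any (fun i => inSyl i && (cMul i i == 144)) = true ∧
    (List.finRange 192).any (fun i => inSyl i && (cMul i i == 44)) = true ∧
    (List.finRange 192).any (fun i => inSyl i && (cMul i i == 14)) = true := by
  decide +kernel

/-- The closure of 3, 55, 60 and 76. -/
theorem gens_inQ : ∀ i : Fin 192, inQ i = true →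
    (List.finRange 16).any (fun k => cMul (if Nat.testBit k 0 then 3 else 0)
      (cMul (if Nat.testBit k 1 then 55 else 0) (cMul (if Nat.testBit k 2 then 60 else 0)
        (if Nat.testBit k 3 then 44 else 0))) == i ||
      cMul cT (cMul (if Nat.testBit k 0 then 3 else 0)
      (cMul (if Nat.testBit k 1 then 55 else 0) (cMul (if Nat.testBit k 2 then 60 else 0)
        (if Nat.testBit k 3 then 44 else 0)))) == i) = true := by
  decide +kernel

universe u

namespace Frame

variable {G : Type u} [Group G] (F : Frame G)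

/-- The elements of the centraliser of `z` fixing the involution `x` up to `z`. -/
def pm (x : G) (_hx : x * F.z = F.z * x) : Subgroup G where
  carrier := {h | h * F.z = F.z * h ∧ (h * x * h⁻¹ = x ∨ h * x * h⁻¹ = x * F.z)}
  one_mem' := ⟨by simp, Or.inl (by simp)⟩
  mul_mem' := by
    rintro a b ⟨ha, ha'⟩ ⟨hb, hb'⟩
    refine ⟨by rw [mul_assoc, hb, ← mul_assoc, ha, mul_assoc], ?_⟩
    have e : a * b * x * (a * b)⁻¹ = a * (b * x * b⁻¹) * a⁻¹ := by group
    rw [e]
    rcases hb' with q | q <;> rw [q]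
    · exact ha'
    · rw [show a * (x * F.z) * a⁻¹ = a * x * a⁻¹ * (a * F.z * a⁻¹) by group, ha, mul_inv_cancel_right]
      rcases ha' with p | p <;> rw [p]
      · exact Or.inr rfl
      · exact Or.inl (by rw [mul_assoc, F.z_sq, mul_one])
  inv_mem' := by
    rintro a ⟨ha, ha'⟩
    refine ⟨(Commute.inv_left (show Commute a F.z from ha)).eq, ?_⟩
    rcases ha' with p | p
    · exact Or.inl (by rw [inv_inv]; nth_rw 1 [← p]; group)
    · refine Or.inr ?_
      rw [inv_inv]
      have h1 : a⁻¹ * x * a = x * (a⁻¹ * F.z * a) := by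
        have h2 : x = a⁻¹ * (a * x * a⁻¹) * a := by group
        rw [p] at h2
        have h3 : x * (a⁻¹ * F.z * a) = a⁻¹ * x * a := by
          conv_lhs => arg 1; rw [h2]
          rw [show a⁻¹ * (x * F.z) * a * (a⁻¹ * F.z * a) = a⁻¹ * (x * (F.z * F.z)) * a by group, F.z_sq,
            mul_one]
        exact h3.symm
      rw [h1, mul_assoc a⁻¹, ← ha, inv_mul_cancel_left]

theorem mem_pm_idx {v : Fin 192} (hv : inSyl v = true) {i : Fin 192} (hi : inSyl i = true) :
    F.f i ∈ F.pm (F.f v) (F.comm_z hv) ↔ sPm v i = true := by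
  show _ ∧ _ ↔ _
  have hc : inSyl (cConj i v) = true := inS_mul (inS_mul hi hv) (inS_inv hi)
  simp only [sPm, hi, Bool.true_and, Bool.or_eq_true, beq_iff_eq, F.comm_z hi, true_and]
  rw [← F.fconj hi hv, show F.z = F.f cT from rfl, ← F.fmul _ _ hv inS_cT]
  exact ⟨fun h => h.imp (F.inj _ _ hc hv) (F.inj _ _ hc (inS_mul hv inS_cT)),
    fun h => h.imp (fun e => by rw [e]) (fun e => by rw [e])⟩

variable [Finite G]

theorem card_P_inf_pm {v : Fin 192} (hv : inSyl v = true) :
    Nat.card ↥((F.P : Subgroup G) ⊓ F.pm (F.f v) (F.comm_z hv)) =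
      ((List.finRange 192).filter fun j => sPm v j).length := by
  refine F.card_of_pred _ (fun i h => (Bool.and_eq_true _ _ ▸ h : _ ∧ _).1) _ fun g => ?_
  rw [mem_inf, F.mem_iff]
  constructor
  · rintro ⟨⟨i, hi, rfl⟩, h⟩
    exact ⟨i, (F.mem_pm_idx hv hi).1 h, rfl⟩
  · rintro ⟨i, h, rfl⟩
    have hi : inSyl i = true := (Bool.and_eq_true _ _ ▸ h : _ ∧ _).1
    exact ⟨⟨i, hi, rfl⟩, (F.mem_pm_idx hv hi).2 h⟩

variable [IsSimpleGroup G] (hna : ¬ IsMulCommutative G) (h44 : F.T 44) (h3 : F.T 3)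
  (h55 : ¬ F.T 55) (h60 : ¬ F.T 60) (h76 : ¬ F.T 76)

theorem T_of_inA {i : Fin 192} (hi : inSyl i = true) (h : inA i = true) (h44 : F.T 44) (h3 : F.T 3) :
    F.T i := by
  simp only [inA, Bool.or_eq_true, beq_iff_eq] at h
  have hs : sCl i ≠ 0 := by rcases h with (e | e) | e <;> rw [e] <;> decide
  refine (F.T_sCl hi hs).2 ?_
  rcases h with (e | e) | e <;> rw [e]
  exacts [F.T_z, h44, h3]

include h44 h3 h55 h60 h76

theorem inA_or {i : Fin 192} (hi : inSyl i = true) (hs : sCl i ≠ 0) :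
    (F.T i → (inA i || (sCl i == 61)) = true ∧ (¬ F.T 61 → inA i = true)) ∧ (¬ F.T i → inB i = true) := by
  have h := F.T_sCl hi hs
  simp only [inA, inB, Bool.or_eq_true, beq_iff_eq]
  rcases (sCl_facts i hi).2 hs with e | e | e | e | e | e | e <;> rw [e] at h ⊢
  · exact ⟨fun _ => ⟨by decide, fun _ => by decide⟩, fun hn => absurd (h.2 h3) hn⟩
  · exact ⟨fun _ => ⟨by decide, fun _ => by decide⟩, fun hn => absurd (h.2 F.T_z) hn⟩
  · exact ⟨fun _ => ⟨by decide, fun _ => by decide⟩, fun hn => absurd (h.2 h44) hn⟩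
  · exact ⟨fun ht => absurd (h.1 ht) h55, fun _ => by decide⟩
  · exact ⟨fun ht => absurd (h.1 ht) h60, fun _ => by decide⟩
  · exact ⟨fun ht => ⟨by decide, fun hn => absurd (h.1 ht) hn⟩, fun _ => by decide⟩
  · exact ⟨fun ht => absurd (h.1 ht) h76, fun _ => by decide⟩

include hna

/-- The centraliser of `z` does not fuse 61 into the extraspecial subgroup. -/
theorem not_fused {h : G} (hh : h * F.z = F.z * h) {q : Fin 192} (hq : inQ q = true) :
    h * F.f 61 * h⁻¹ ≠ F.f q := by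
  intro he
  obtain ⟨-, hQS, -⟩ := max_facts.1
  have hqS := hQS q hq
  have h61S : inSyl 61 = true := by decide +kernel
  have h61 : sCl 61 ≠ 0 := by decide +kernel
  have hq2 : sCl q ≠ 0 := by
    have ho : orderOf (F.f q) = 2 := by
      rw [← he, show h * F.f 61 * h⁻¹ = MulAut.conj h (F.f 61) from rfl, MulEquiv.orderOf_eq, F.orderOf_f h61S h61]
    obtain ⟨i, hi, hie, hic⟩ := F.exists_idx (F.f_mem hqS) ho
    rwa [← F.inj _ _ hi hqS hie]
  have hqz : q ≠ cT := fun e => by
    rw [e] at he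
    have h2 : h * F.f 61 * h⁻¹ = h * F.z * h⁻¹ := by rw [he, hh, mul_inv_cancel_right]; rfl
    exact absurd (F.inj _ _ h61S inS_cT (mul_left_cancel (mul_right_cancel h2))) (by decide)
  -- replace `q` by 44 or 106 if it is conjugate to `z`
  obtain ⟨a, c, haS, hc, hac, hca, hamax⟩ : ∃ a, ∃ c : G, ∃ haS : inSyl a = true, c * F.z = F.z * c ∧
      c * F.f 61 * c⁻¹ = F.f a ∧
      ((F.T 61 ∧ (a = 44 ∨ a = 106)) ∨ (¬ F.T 61 ∧ inQ a = true ∧ inB a = true)) ∧
      (∀ R' : Subgroup G, IsPGroup 2 R' → (F.P : Subgroup G) ⊓ F.pm (F.f a) (F.comm_z haS) ≤ R' →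
        R' ≤ F.pm (F.f a) (F.comm_z haS) →
        R' ≤ (F.P : Subgroup G) ⊓ F.pm (F.f a) (F.comm_z haS)) := by
    by_cases hT : F.T 61
    · have hTq : F.T q := (F.T_of_conj he).1 hT
      obtain ⟨hA, -⟩ := (F.inA_or h44 h3 h55 h60 h76 hqS hq2).1 hTq
      obtain ⟨a, c, ha, hc, hce⟩ : ∃ a, ∃ c : G, (a = 44 ∨ a = 106) ∧ c * F.z = F.z * c ∧
          c * F.f q * c⁻¹ = F.f a := by
        simp only [inA, Bool.or_eq_true, beq_iff_eq] at hA
        rcases hA with ((e | e) | e) | e
        · exact absurd (sCl_eq.2.2.2.1 q e) hqz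
        · exact ⟨q, 1, sCl_eq.2.2.2.2 q e, by simp, by simp⟩
        · obtain ⟨k, -, hk⟩ := List.any_eq_true.1 (sCl_wit q hqS hq2)
          simp only [Bool.and_eq_true, beq_iff_eq] at hk
          obtain ⟨g, hgz, w, hw, hgw, -⟩ := F.exists_fix hna (v := 3) (Or.inl rfl) h3
          refine ⟨w, g * (F.f k)⁻¹, hw, ?_, ?_⟩
          · rw [mul_assoc, (Commute.inv_left (show Commute (F.f k) F.z from F.comm_z hk.1)).eq, ← mul_assoc,
              hgz, mul_assoc]
          · rw [← hk.2, F.fconj hk.1 (by rw [e]; decide +kernel), ← hgw, e]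
            group
        · exact absurd e (max_facts.1.2.2.2.2.2.2 q hq)
      have haS : inSyl a = true := by rcases ha with rfl | rfl <;> decide +kernel
      refine ⟨a, c * h, haS, ?_, ?_, Or.inl ⟨hT, ha⟩, fun R' h1 h2 h3' => le_inf (F.le_P h1 ?_) h3'⟩
      · rw [mul_assoc, hh, ← mul_assoc, hc, mul_assoc]
      · rw [show c * h * F.f 61 * (c * h)⁻¹ = c * (h * F.f 61 * h⁻¹) * c⁻¹ by group, he, hce]
      · refine le_trans (le_inf le_rfl ?_) h2
        intro g hg
        obtain ⟨i, hi, rfl⟩ := (F.mem_iff g).1 hg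
        refine (F.mem_pm_idx haS hi).2 ?_
        rcases ha with rfl | rfl
        exacts [(sPm_44 i hi).1, (sPm_44 i hi).2]
    · have hB : inB q = true := (F.inA_or h44 h3 h55 h60 h76 hqS hq2).2 fun e => hT ((F.T_of_conj he).2 e)
      have hc' : sCl q = 55 ∨ sCl q = 60 ∨ sCl q = 76 := by
        simp only [inB, Bool.or_eq_true, beq_iff_eq] at hB
        have := max_facts.1.2.2.2.2.2.2 q hq
        tauto
      refine ⟨q, h, hqS, hh, he, Or.inr ⟨hT, hq, hB⟩, fun R' h1 h2 h3' => (eq_of_le_of_card_ge h2 ?_).ge⟩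
      rw [F.card_P_inf_pm hqS, pm_card q hqS hc']
      haveI : Fact (Nat.Prime 2) := ⟨Nat.prime_two⟩
      by_contra hlt
      obtain ⟨d, hd, hdR⟩ := exists_conj_into (centralizer ({F.z} : Set G)) R' F.P h1
        (fun x hx => mem_centralizer_singleton_iff.2 (h3' hx).1) F.P.isPGroup' F.P_le_centralizer
        (fun R'' k1 k2 _ => F.le_P k1 k2)
      have hle : R'.map (MulAut.conj d).toMonoidHom ≤ (F.P : Subgroup G) := by
        rintro _ ⟨x, hx, rfl⟩; exact hdR x hx
      have hR64 : Nat.card R' = 64 := by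
        obtain ⟨n, hn⟩ := IsPGroup.iff_card.1 h1
        have hl : Nat.card R' ≤ 64 := by
          rw [← card_map_of_injective (K := R') (f := (MulAut.conj d).toMonoidHom) (MulAut.conj d).injective,
            ← F.card_P]
          exact card_le_of_le hle
        rcases Nat.lt_or_ge n 6 with h6 | h6
        · have := Nat.pow_le_pow_right (show 1 ≤ 2 by norm_num) (show n ≤ 5 by omega)
          omega
        · rcases Nat.lt_or_ge 6 n with h7 | h7
          · have := Nat.pow_le_pow_right (show 1 ≤ 2 by norm_num) h7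
            omega
          · rw [hn, show n = 6 by omega]; norm_num
      have heq : R'.map (MulAut.conj d).toMonoidHom = (F.P : Subgroup G) := eq_of_le_of_card_ge hle
        (by rw [card_map_of_injective (MulAut.conj d).injective, hR64, F.card_P])
      obtain ⟨i, hi, hie, hic⟩ := F.exists_idx (hdR _ (h2 (mem_inf.2 ⟨F.f_mem hqS,
        ⟨F.comm_z hqS, Or.inl (by rw [mul_inv_cancel_right])⟩⟩))) (by
        rw [show d * F.f q * d⁻¹ = MulAut.conj d (F.f q) from rfl, MulEquiv.orderOf_eq, F.orderOf_f hqS hq2])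
      have hdz := mem_centralizer_singleton_iff.1 hd
      have hall : ((List.finRange 192).filter fun j => sPm i j).length = 64 := by
        rw [← F.card_P_inf_pm hi, inf_eq_left.2 ?_, F.card_P]
        rw [← heq]
        rintro _ ⟨x, hx, rfl⟩
        refine ⟨(mem_centralizer_singleton_iff.1 (F.P_le_centralizer (hdR x hx))), ?_⟩
        show d * x * d⁻¹ * F.f i * (d * x * d⁻¹)⁻¹ = F.f i ∨
          d * x * d⁻¹ * F.f i * (d * x * d⁻¹)⁻¹ = F.f i * F.z
        rw [hie, show d * x * d⁻¹ * (d * F.f q * d⁻¹) * (d * x * d⁻¹)⁻¹ = d * (x * F.f q * x⁻¹) * d⁻¹ by group]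
        rcases (h3' hx).2 with p | p <;> rw [p]
        · exact Or.inl rfl
        · refine Or.inr ?_
          rw [show d * (F.f q * F.z) * d⁻¹ = d * F.f q * d⁻¹ * (d * F.z * d⁻¹) by group, hdz,
            mul_inv_cancel_right]
      have hTi : ¬ F.T i := fun e => hT ((F.T_of_conj he).2 ((F.T_of_conj hie.symm).2 e))
      have h' := F.T_sCl hi hic
      rcases centre_pm i hi hic hall with e | e <;> rw [e] at h'
      exacts [hTi (h'.2 F.T_z), hTi (h'.2 h44)]
  obtain ⟨s1, s2, s3, s4, s5, s6, s7, s8, s9, s10⟩ := src61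
  have hQ : (((F.P : Subgroup G) ⊓ F.pm (F.f 61) (F.comm_z h61S)).map (MulAut.conj c).toMonoidHom) ≤
      F.pm (F.f a) (F.comm_z haS) := by
    rintro _ ⟨x, hx, rfl⟩
    obtain ⟨hxz, hxu⟩ := (mem_inf.1 hx).2
    refine ⟨?_, ?_⟩
    · show c * x * c⁻¹ * F.z = F.z * (c * x * c⁻¹)
      have hcz : c⁻¹ * F.z = F.z * c⁻¹ := (Commute.inv_left (show Commute c F.z from hc)).eq
      calc c * x * c⁻¹ * F.z = c * (x * F.z) * c⁻¹ := by rw [mul_assoc, hcz]; group
        _ = c * (F.z * x) * c⁻¹ := by rw [hxz]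
        _ = (c * F.z) * (x * c⁻¹) := by group
        _ = _ := by rw [hc]; group
    · show c * x * c⁻¹ * F.f a * (c * x * c⁻¹)⁻¹ = F.f a ∨ c * x * c⁻¹ * F.f a * (c * x * c⁻¹)⁻¹ = F.f a * F.z
      rw [← hac, show c * x * c⁻¹ * (c * F.f 61 * c⁻¹) * (c * x * c⁻¹)⁻¹ = c * (x * F.f 61 * x⁻¹) * c⁻¹ by group]
      rcases hxu with p | p <;> rw [p]
      · exact Or.inl rfl
      · refine Or.inr ?_
        rw [show c * (F.f 61 * F.z) * c⁻¹ = c * F.f 61 * c⁻¹ * (c * F.z * c⁻¹) by group, hc,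
          mul_inv_cancel_right]
  obtain ⟨k, hk, hkQ⟩ := exists_conj_into _ _ _ ((F.P.isPGroup'.to_le inf_le_left).map _) hQ
    (F.P.isPGroup'.to_le inf_le_left) inf_le_right hamax
  have himg : ∀ i, sPm 61 i = true → ∃ j, sPm a j = true ∧ k * c * F.f i * (k * c)⁻¹ = F.f j := by
    intro i hi
    have hiS : inSyl i = true := (Bool.and_eq_true _ _ ▸ hi : _ ∧ _).1
    obtain ⟨hP, hpm⟩ := mem_inf.1 (hkQ _ ⟨F.f i, mem_inf.2 ⟨F.f_mem hiS, (F.mem_pm_idx h61S hiS).2 hi⟩, rfl⟩)
    obtain ⟨j, hj, e⟩ := (F.mem_iff _).1 hP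
    refine ⟨j, (F.mem_pm_idx haS hj).1 (e ▸ hpm), ?_⟩
    rw [e]; simp [mul_inv_rev, mul_assoc]
  obtain ⟨a', ha', hae⟩ := himg 61 s1
  obtain ⟨b, hb, hbe⟩ := himg 73 s2
  obtain ⟨w, hw, hwe⟩ := himg 44 s3
  have hS : ∀ {j}, sPm a j = true → inSyl j = true := fun h => (Bool.and_eq_true _ _ ▸ h : _ ∧ _).1
  have h73S : inSyl 73 = true := by decide +kernel
  have h44S : inSyl 44 = true := by decide +kernel
  have hkz : k * c * F.z = F.z * (k * c) := by rw [mul_assoc, hc, ← mul_assoc, hk.1, mul_assoc]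
  -- the image of 61 is `a` or `a z`
  obtain ⟨hcmab, hcmaw, hcmbw⟩ : sComm a' b = cT ∧ sCm a' w = true ∧ sCm b w = true := by
    refine ⟨F.inj _ _ (inS_comm (hS ha') (hS hb)) inS_cT ?_, F.cm_of_comm (hS ha') (hS hw) ?_,
      F.cm_of_comm (hS hb) (hS hw) ?_⟩
    · rw [F.fcomm (hS ha') (hS hb), ← hae, ← hbe,
        show k * c * F.f 61 * (k * c)⁻¹ * (k * c * F.f 73 * (k * c)⁻¹) *
          ((k * c * F.f 61 * (k * c)⁻¹)⁻¹ * (k * c * F.f 73 * (k * c)⁻¹)⁻¹) =
          k * c * (F.f 61 * F.f 73 * ((F.f 61)⁻¹ * (F.f 73)⁻¹)) * (k * c)⁻¹ by group,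
        ← F.fcomm h61S h73S, s4]
      exact mul_inv_eq_iff_eq_mul.2 hkz
    · rw [← hae, ← hwe, show k * c * F.f 61 * (k * c)⁻¹ * (k * c * F.f 44 * (k * c)⁻¹) =
          k * c * (F.f 61 * F.f 44) * (k * c)⁻¹ by group, F.comm_of_cm h61S h44S s5]
      group
    · rw [← hbe, ← hwe, show k * c * F.f 73 * (k * c)⁻¹ * (k * c * F.f 44 * (k * c)⁻¹) =
          k * c * (F.f 73 * F.f 44) * (k * c)⁻¹ by group, F.comm_of_cm h73S h44S s6]
      group
  have hne0 : ∀ {i j : Fin 192}, inSyl i = true → sCl i ≠ 0 → inSyl j = true →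
      k * c * F.f i * (k * c)⁻¹ = F.f j → sCl j ≠ 0 := by
    intro i j hi hic hj e
    have ho : orderOf (F.f j) = 2 := by
      rw [← e, show k * c * F.f i * (k * c)⁻¹ = MulAut.conj (k * c) (F.f i) from rfl, MulEquiv.orderOf_eq,
        F.orderOf_f hi hic]
    obtain ⟨j', hj', hje, hjc⟩ := F.exists_idx (F.f_mem hj) ho
    rwa [← F.inj _ _ hj' hj hje]
  have hTT : ∀ {i j : Fin 192}, inSyl i = true → sCl i = 61 → inSyl j = true →
      k * c * F.f i * (k * c)⁻¹ = F.f j → (F.T 61 → (inA j || (sCl j == 61)) = true) ∧ (¬ F.T 61 → inB j = true) := by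
    intro i j hi hic hj e
    have hjc := hne0 hi (by rw [hic]; decide) hj e
    have hiff : F.T 61 ↔ F.T j := by
      rw [← hic]; exact (F.T_sCl hi (by rw [hic]; decide)).symm.trans (F.T_of_conj e)
    exact ⟨fun ht => ((F.inA_or h44 h3 h55 h60 h76 hj hjc).1 (hiff.1 ht)).1,
      fun hn => (F.inA_or h44 h3 h55 h60 h76 hj hjc).2 fun e' => hn (hiff.2 e')⟩
  have hwz : w ≠ cT := fun e => by
    have h2 : k * c * F.f 44 * (k * c)⁻¹ = k * c * F.z * (k * c)⁻¹ := by
      rw [hwe, e, hkz, mul_inv_cancel_right]; rfl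
    exact absurd (F.inj _ _ h44S inS_cT (mul_left_cancel (mul_right_cancel h2))) (by decide)
  have haw : k * c * F.f (cMul 61 44) * (k * c)⁻¹ = F.f (cMul a' w) := by
    rw [F.fmul _ _ h61S h44S, F.fmul _ _ (hS ha') (hS hw), ← hae, ← hwe]; group
  have hbw : k * c * F.f (cMul 73 44) * (k * c)⁻¹ = F.f (cMul b w) := by
    rw [F.fmul _ _ h73S h44S, F.fmul _ _ (hS hb) (hS hw), ← hbe, ← hwe]; group
  have hTb := hTT h73S s7 (hS hb) hbe
  have hTaw := hTT (inS_mul h61S h44S) s8 (inS_mul (hS ha') (hS hw)) haw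
  have hTbw := hTT (inS_mul h73S h44S) s9 (inS_mul (hS hb) (hS hw)) hbw
  have hTw : F.T w := (F.T_of_conj hwe).1 h44
  have hwA := (F.inA_or h44 h3 h55 h60 h76 (hS hw) (hne0 h44S (by decide +kernel) (hS hw) hwe)).1 hTw
  have ha'a : a' = a ∨ a' = cMul a cT := by
    have e1 : k * c * F.f 61 * (k * c)⁻¹ = k * F.f a * k⁻¹ := by
      rw [show k * c * F.f 61 * (k * c)⁻¹ = k * (c * F.f 61 * c⁻¹) * k⁻¹ by group, hac]
    rw [hae] at e1
    rcases hk.2 with p | p <;> rw [p] at e1
    · exact Or.inl (F.inj _ _ (hS ha') haS e1)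
    · rw [show F.z = F.f cT from rfl, ← F.fmul _ _ haS inS_cT] at e1
      exact Or.inr (F.inj _ _ (hS ha') (inS_mul haS inS_cT) e1)
  have hpmeq : ∀ i j : Fin 192, inSyl i = true → j = cMul i cT → ∀ l, sPm j l = sPm i l := by
    intro i j hi hj l
    subst hj
    by_cases hl : inSyl l = true
    · refine Bool.eq_iff_iff.2 ?_
      rw [← F.mem_pm_idx (inS_mul hi inS_cT) hl, ← F.mem_pm_idx hi hl]
      show _ ∧ _ ↔ _ ∧ _
      rw [F.fmul _ _ hi inS_cT, show F.f cT = F.z from rfl,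
        show F.f l * (F.f i * F.z) * (F.f l)⁻¹ = F.f l * F.f i * (F.f l)⁻¹ * (F.f l * F.z * (F.f l)⁻¹) by group,
        F.comm_z hl, mul_inv_cancel_right]
      constructor
      · rintro ⟨p, q | q⟩
        · exact ⟨p, Or.inl (mul_right_cancel q)⟩
        · exact ⟨p, Or.inr (mul_right_cancel q)⟩
      · rintro ⟨p, q | q⟩
        · exact ⟨p, Or.inl (by rw [q])⟩
        · exact ⟨p, Or.inr (by rw [q])⟩
    · simp [sPm, hl]
  have hsame : ∀ l, sPm a l = true → sPm a' l = true := by
    rcases ha'a with e | e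
    · rw [e]; exact fun l h => h
    · exact fun l h => by rw [hpmeq a a' haS e l]; exact h
  rcases hca with ⟨hT, ha⟩ | ⟨hT, haQ, haB⟩
  · have ha'44 : a' = 44 ∨ a' = 106 := by
      have e44 : cMul 44 cT = 106 ∧ cMul 106 cT = 44 := by decide +kernel
      rcases ha'a with e | e <;> rcases ha with f | f <;> rw [e, f]
      exacts [Or.inl rfl, Or.inr rfl, Or.inr e44.1, Or.inl e44.2]
    rcases cert_T a' ha'44 b (hsame b hb) (hTb.1 hT) hcmab w (hsame w hw) hwA.1 hcmaw hcmbw with e | e | e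
    · exact hwz e
    · rw [hTaw.1 hT] at e; exact Bool.noConfusion e
    · rw [hTbw.1 hT] at e; exact Bool.noConfusion e
  · have ha'Q : inQ a' = true := by
      rcases ha'a with e | e <;> rw [e]
      · exact haQ
      · exact max_facts.1.2.2.1 _ _ haQ (by decide +kernel)
    rcases cert_B a' ha'Q ((hTT h61S sCl_Four.2.2.2.2.1 (hS ha') hae).2 hT) b (hsame b hb) (hTb.2 hT) hcmab w
      (hsame w hw) (hwA.2 hT) hcmaw hcmbw with e | e | e
    · exact hwz e
    · rw [hTaw.2 hT] at e; exact Bool.noConfusion e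
    · rw [hTbw.2 hT] at e; exact Bool.noConfusion e

/-- The subgroup of index 2 of the centraliser of `z`. -/
theorem exists_indexTwo : ∃ N : Subgroup G, N ≤ centralizer ({F.z} : Set G) ∧
    N.relIndex (centralizer ({F.z} : Set G)) = 2 ∧
    ∀ i, inSyl i = true → (F.f i ∈ N ↔ inQ i = true) := by
  haveI : Fact (Nat.Prime 2) := ⟨Nat.prime_two⟩
  set H := centralizer ({F.z} : Set G) with hH
  obtain ⟨q0, qS, qm, qi, q32, q61, -⟩ := max_facts.1
  let Qs : Subgroup G := F.sub inQ q0 qS qm qi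
  have hQP : Qs ≤ (F.P : Subgroup G) := by rintro _ ⟨i, hi, rfl⟩; exact F.f_mem (qS i hi)
  let PH : Sylow 2 H := F.P.subtype F.P_le_centralizer
  have hrel : (Qs.subgroupOf H).relIndex (PH : Subgroup H) = 2 := by
    have h0 : (PH : Subgroup H) = (F.P : Subgroup G).subgroupOf H := F.P.coe_subtype F.P_le_centralizer
    have hQH : Qs.subgroupOf H ≤ (PH : Subgroup H) := by rw [h0]; exact comap_mono hQP
    have h1 := ((Qs.subgroupOf H).subgroupOf (PH : Subgroup H)).index_mul_card
    rw [Nat.card_congr (subgroupOfEquivOfLe hQH).toEquiv,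
      Nat.card_congr (subgroupOfEquivOfLe (hQP.trans F.P_le_centralizer)).toEquiv,
      F.card_of_pred inQ qS Qs (fun _ => Iff.rfl), q32, h0,
      Nat.card_congr (subgroupOfEquivOfLe F.P_le_centralizer).toEquiv, F.card_P] at h1
    rw [relIndex, h0]
    omega
  have h61S : inSyl 61 = true := by decide +kernel
  let u : H := ⟨F.f 61, F.P_le_centralizer (F.f_mem h61S)⟩
  have huP : u ∈ (PH : Subgroup H) := by
    rw [Sylow.coe_subtype, mem_subgroupOf]; exact F.f_mem h61S
  have huQ : u ∉ Qs.subgroupOf H := by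
    rw [mem_subgroupOf]
    rintro ⟨i, hi, e⟩
    rw [F.inj _ _ (qS i hi) h61S e, q61] at hi
    exact Bool.noConfusion hi
  rcases Cfsg.Agent.S0111.result PH (Qs.subgroupOf H) (by rw [Sylow.coe_subtype]; exact comap_mono hQP) hrel u
      (by rw [← orderOf_coe]; exact F.orderOf_f h61S (by decide +kernel)) huP huQ with
    ⟨M, hMn, hMi, huM⟩ | ⟨g, hg⟩
  · refine ⟨M.map H.subtype, map_subtype_le _, ?_, ?_⟩
    · rw [relIndex, subgroupOf, comap_map_eq_self_of_injective H.subtype_injective, hMi]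
    haveI := hMn
    have hmem : ∀ (i : Fin 192) (hi : inSyl i = true),
        F.f i ∈ M.map H.subtype ↔ (⟨F.f i, F.P_le_centralizer (F.f_mem hi)⟩ : H) ∈ M := fun i hi => by
      constructor
      · rintro ⟨y, hy, e⟩
        rwa [show (⟨F.f i, F.P_le_centralizer (F.f_mem hi)⟩ : H) = y from Subtype.ext e.symm]
      · exact fun h => ⟨_, h, rfl⟩
    let χ : Fin 192 → Prop := fun i => F.f i ∈ M.map H.subtype
    have hmul : ∀ i j, inSyl i = true → inSyl j = true → (χ (cMul i j) ↔ (χ i ↔ χ j)) := fun i j hi hj => by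
      show F.f _ ∈ _ ↔ (F.f i ∈ _ ↔ F.f j ∈ _)
      rw [hmem i hi, hmem j hj, hmem _ (inS_mul hi hj), ← mul_mem_iff_of_index_two hMi]
      exact Iff.of_eq (congrArg (· ∈ M) (Subtype.ext (F.fmul _ _ hi hj)))
    have hsq : ∀ k, (List.finRange 192).any (fun i => inSyl i && (cMul i i == k)) = true → χ k := by
      intro k hk
      obtain ⟨i, -, hi⟩ := List.any_eq_true.1 hk
      simp only [Bool.and_eq_true, beq_iff_eq] at hi
      rw [← hi.2, hmul i i hi.1 hi.1]
    obtain ⟨r55, r144, rsq, rsq44, rsq14⟩ := quad_rel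
    have hconjH : ∀ i j, inSyl i = true → inSyl j = true → (∃ g : G, g * F.z = F.z * g ∧
        g * F.f i * g⁻¹ = F.f j) → (χ i ↔ χ j) := by
      rintro i j hi hj ⟨g, hgz, e⟩
      show F.f i ∈ _ ↔ F.f j ∈ _
      rw [hmem i hi, hmem j hj]
      let gH : H := ⟨g, mem_centralizer_singleton_iff.2 hgz⟩
      have e' : (⟨F.f j, F.P_le_centralizer (F.f_mem hj)⟩ : H) =
          gH * ⟨F.f i, F.P_le_centralizer (F.f_mem hi)⟩ * gH⁻¹ := Subtype.ext e.symm
      rw [e']
      refine ⟨fun h => hMn.conj_mem _ h gH, fun h => ?_⟩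
      have h' := hMn.conj_mem _ h gH⁻¹
      simpa [mul_assoc] using h'
    have c44 : χ 44 := hsq 44 rsq44
    have c3 : χ 3 := by
      obtain ⟨g, hgz, w, hw, hgw, -⟩ := F.exists_fix hna (v := 3) (Or.inl rfl) h3
      have hwS : inSyl w = true := by rcases hw with rfl | rfl <;> decide +kernel
      refine (hconjH 3 w (by decide +kernel) hwS ⟨g, hgz, hgw⟩).2 ?_
      rcases hw with rfl | rfl
      · exact c44
      · have e : cMul 44 cT = 106 := by decide +kernel
        rw [← e, hmul _ _ (by decide +kernel) inS_cT]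
        exact iff_of_true c44 (hsq cT rsq14)
    have hfour : ∀ w, Four w → ¬ F.T w → IsConj (F.f 55) (F.f w) → (χ 55 ↔ χ w) := fun w hw hT hc => by
      obtain ⟨g, hgz, he, -⟩ := F.exists_conj_four (Or.inr (Or.inl rfl)) hw hT h44 hc
      exact hconjH 55 w (by decide +kernel) (hw.inS).1 ⟨g, hgz, he⟩
    have e60 := hfour 60 (Or.inr (Or.inr (Or.inl rfl))) h60
      (F.isConj_55 hna h44 h3 h55 (by decide +kernel) (by decide +kernel) h60)
    have e76 := hfour 76 (Or.inr (Or.inr (Or.inr rfl))) h76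
      (F.isConj_55 hna h44 h3 h55 (by decide +kernel) (by decide +kernel) h76)
    have c55 : χ 55 := by
      have h := hsq 144 rsq
      rw [← r55, hmul _ _ (inS_mul (by decide +kernel) (by decide +kernel)) (by decide +kernel),
        hmul _ _ (by decide +kernel) (by decide +kernel)] at h
      tauto
    have c0 : χ 0 := by
      show F.f 0 ∈ _
      rw [F.fone]; exact one_mem _
    have hQ : ∀ i, inQ i = true → χ i := by
      intro i hi
      obtain ⟨k, -, hk⟩ := List.any_eq_true.1 (gens_inQ i hi)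
      simp only [Bool.or_eq_true, beq_iff_eq] at hk
      have hsel : ∀ (b : Bool) (g : Fin 192), inSyl g = true → χ g →
          χ (if b then g else 0) ∧ inSyl (if b then g else 0) = true := fun b g hg hc => by
        cases b
        · exact ⟨c0, inSyl_facts.1⟩
        · exact ⟨hc, hg⟩
      obtain ⟨p1, s1⟩ := hsel (Nat.testBit k 0) 3 (by decide +kernel) c3
      obtain ⟨p2, s2⟩ := hsel (Nat.testBit k 1) 55 (by decide +kernel) c55
      obtain ⟨p3, s3⟩ := hsel (Nat.testBit k 2) 60 (by decide +kernel) (e60.1 c55)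
      obtain ⟨p4, s4⟩ := hsel (Nat.testBit k 3) 44 (by decide +kernel) c44
      have hp := (hmul _ _ s1 (inS_mul s2 (inS_mul s3 s4))).2 (iff_of_true p1
        ((hmul _ _ s2 (inS_mul s3 s4)).2 (iff_of_true p2 ((hmul _ _ s3 s4).2 (iff_of_true p3 p4)))))
      rcases hk with e | e
      · exact e ▸ hp
      · exact e ▸ (hmul _ _ inS_cT (inS_mul s1 (inS_mul s2 (inS_mul s3 s4)))).2 (iff_of_true (hsq cT rsq14) hp)
    intro i hi
    refine ⟨fun h => ?_, hQ i⟩
    by_contra hn
    -- otherwise 61 lies in the subgroup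
    have key : ∀ i : Fin 192, inSyl i = true → inQ i = false → inQ (cMul i 61) = true := by decide +kernel
    have h2 := (hmul i 61 hi h61S).1 (hQ _ (key i hi (by simpa using hn)))
    exact huM ((hmem 61 h61S).1 (h2.1 h))
  · exfalso
    rw [mem_subgroupOf] at hg
    obtain ⟨i, hi, e⟩ := hg
    refine F.not_fused hna h44 h3 h55 h60 h76 (h := (g : G)) (mem_centralizer_singleton_iff.1 g.2) hi ?_
    rw [e]; rfl

end Frame

end Cfsg.Lib.MTwelveLocal
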