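import Cfsg.Agent.Lib.MTwelveLocal.Types

/-!
The pattern of the two classes of involutions on the Sylow subgroup, and the fusion of the others by the
centraliser of the central involution.
-/

set_option autoImplicit false
set_option linter.style.haveILetI false
set_option linter.unusedSectionVars false
set_option maxRecDepth 100000

namespace Cfsg.Lib.MTwelveLocal

open Cfsg Cfsg.Lib.MTwelveRecog Subgroup

theorem max_facts :
    (inQ 0 = true ∧ (∀ i, inQ i = true → inSyl i = true) ∧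
      (∀ i j, inQ i = true → inQ j = true → inQ (cMul i j) = true) ∧ (∀ i, inQ i = true → inQ (cInv i) = true) ∧
      ((List.finRange 192).filter inQ).length = 32 ∧ inQ 61 = false ∧
      ∀ i, inQ i = true → sCl i ≠ 61) ∧
    (inM60 0 = true ∧ (∀ i, inM60 i = true → inSyl i = true) ∧
      (∀ i j, inM60 i = true → inM60 j = true → inM60 (cMul i j) = true) ∧
      (∀ i, inM60 i = true → inM60 (cInv i) = true) ∧ ((List.finRange 192).filter inM60).length = 32 ∧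
      inM60 3 = false ∧ inM60 55 = false ∧
      ∀ i, inM60 i = true → sCl i ≠ 0 → sCl i = cT ∨ sCl i = 44 ∨ sCl i = 60) ∧
    (inM76 0 = true ∧ (∀ i, inM76 i = true → inSyl i = true) ∧
      (∀ i j, inM76 i = true → inM76 j = true → inM76 (cMul i j) = true) ∧
      (∀ i, inM76 i = true → inM76 (cInv i) = true) ∧ ((List.finRange 192).filter inM76).length = 32 ∧
      inM76 3 = false ∧ inM76 55 = false ∧
      ∀ i, inM76 i = true → sCl i ≠ 0 → sCl i = cT ∨ sCl i = 44 ∨ sCl i = 76) ∧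
    (inM3 0 = true ∧ (∀ i, inM3 i = true → inSyl i = true) ∧
      (∀ i j, inM3 i = true → inM3 j = true → inM3 (cMul i j) = true) ∧ (∀ i, inM3 i = true → inM3 (cInv i) = true) ∧
      ((List.finRange 192).filter inM3).length = 32 ∧ inM3 60 = false ∧ inM3 61 = false ∧
      ∀ i, inM3 i = true → sCl i ≠ 0 → sCl i = cT ∨ sCl i = 44 ∨ sCl i = 3 ∨ sCl i = 55) := by
  refine ⟨⟨?_, ?_, ?_, ?_, ?_, ?_, ?_⟩, ⟨?_, ?_, ?_, ?_, ?_, ?_, ?_, ?_⟩, ⟨?_, ?_, ?_, ?_, ?_, ?_, ?_, ?_⟩,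
    ⟨?_, ?_, ?_, ?_, ?_, ?_, ?_, ?_⟩⟩ <;> decide +kernel

theorem comm_four : ∀ v : Fin 192, (v = 3 ∨ v = 55 ∨ v = 60 ∨ v = 76) → ∀ a : Fin 192, inSyl a = true →
    sCm v a = true → ∀ b : Fin 192, inSyl b = true → sCm v b = true → sComm a b = 0 ∨ sComm a b = cT := by
  decide +kernel

theorem cent_60 : ∀ i : Fin 192, inSyl i = true → sCm 60 i = true → sCl i ≠ 0 → i ≠ cT →
    sCl i = 3 ∨ sCl i = 55 ∨ sCl i = 60 ∨ sCl i = 76 := by
  decide +kernel

theorem sCl_Four : sCl 3 = 3 ∧ sCl 55 = 55 ∧ sCl 60 = 60 ∧ sCl 76 = 76 ∧ sCl 61 = 61 ∧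
    inSyl 44 = true ∧ sCm 3 44 = true ∧ sCm 55 44 = true := by
  decide +kernel

universe u

/-- Some two involutions are not conjugate. -/
def TwoClasses (G : Type u) [Group G] : Prop :=
  ∃ x y : G, orderOf x = 2 ∧ orderOf y = 2 ∧ ¬ IsConj x y

namespace Frame

variable {G : Type u} [Group G] [Finite G] (F : Frame G)

theorem exists_idx_conj {x : G} (hx : orderOf x = 2) :
    ∃ i, inSyl i = true ∧ sCl i ≠ 0 ∧ IsConj x (F.f i) := by
  obtain ⟨k, -, hk⟩ := exists_conj_into (⊤ : Subgroup G) (zpowers x) F.P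
    (IsPGroup.of_card (p := 2) (n := 1) (by rw [Nat.card_zpowers, hx]; rfl)) le_top F.P.isPGroup' le_top
    (fun R' h1 h2 _ => F.le_P h1 h2)
  obtain ⟨i, hi, hie, hic⟩ := F.exists_idx (hk x (mem_zpowers x)) (by
    rw [show k * x * k⁻¹ = MulAut.conj k x from rfl, MulEquiv.orderOf_eq, hx])
  exact ⟨i, hi, hic, isConj_iff.2 ⟨k, hie.symm⟩⟩

theorem exists_not_T (h2 : TwoClasses G) : ∃ i, inSyl i = true ∧ sCl i ≠ 0 ∧ ¬ F.T i := by
  obtain ⟨x, y, hx, hy, hxy⟩ := h2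
  by_contra hc
  push Not at hc
  obtain ⟨i, hi, hic, hxi⟩ := F.exists_idx_conj hx
  obtain ⟨j, hj, hjc, hyj⟩ := F.exists_idx_conj hy
  exact hxy ((hxi.trans (IsConj.symm (hc i hi hic))).trans (IsConj.trans (hc j hj hjc) hyj.symm))

/-- An involution of the class of 3, 55, 60 or 76 not conjugate to `z` is extremal. -/
theorem centS_max {w : Fin 192} (h : Four w) (hT : ¬ F.T w) (R' : Subgroup G) (hR' : IsPGroup 2 R')
    (hle : F.centS w ≤ R') (hR'C : R' ≤ centralizer ({F.f w} : Set G)) (hT44 : F.T 44) : R' ≤ F.centS w := by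
  refine (eq_of_le_of_card_ge hle ?_).ge
  obtain ⟨hw, -, hwc⟩ := h.inS
  rw [F.card_centS hw, (card_cent w hw).1 (by rcases h with rfl | rfl | rfl | rfl <;> decide +kernel)]
  obtain ⟨k, -, hk⟩ := exists_conj_into (⊤ : Subgroup G) R' F.P hR' le_top F.P.isPGroup' le_top
    (fun R'' h1 h2 _ => F.le_P h1 h2)
  obtain ⟨i, hi, hie, hic⟩ := F.exists_idx (hk _ (hle (mem_inf.2
    ⟨F.f_mem hw, mem_centralizer_singleton_iff.2 rfl⟩))) (by
      rw [show k * F.f w * k⁻¹ = MulAut.conj k (F.f w) from rfl, MulEquiv.orderOf_eq, F.orderOf_f hw hwc])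
  have hTi : ¬ F.T i := fun e => hT ((F.T_of_conj hie.symm).2 e)
  have hsub : R'.map (MulAut.conj k).toMonoidHom ≤ F.centS i := by
    rintro _ ⟨x, hx, rfl⟩
    refine mem_inf.2 ⟨hk x hx, mem_centralizer_singleton_iff.2 ?_⟩
    show k * x * k⁻¹ * F.f i = F.f i * (k * x * k⁻¹)
    rw [hie, show k * x * k⁻¹ * (k * F.f w * k⁻¹) = k * (x * F.f w) * k⁻¹ by group,
      mem_centralizer_singleton_iff.1 (hR'C hx)]
    group
  refine (card_map_of_injective (K := R') (MulAut.conj k).injective).symm.le.trans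
    ((card_le_of_le hsub).trans ?_)
  rw [F.card_centS hi]
  have hT' := F.T_sCl hi hic
  rcases (sCl_facts i hi).2 hic with e | e | e | e | e | e | e <;> rw [e] at hT'
  · exact ((card_cent i hi).1 (Or.inl e)).le
  · exact absurd (hT'.2 F.T_z) hTi
  · exact absurd (hT'.2 hT44) hTi
  · exact ((card_cent i hi).1 (Or.inr (Or.inl e))).le
  · exact ((card_cent i hi).1 (Or.inr (Or.inr (Or.inl e)))).le
  · exact ((card_cent i hi).2.1 e).le.trans (by norm_num)
  · exact ((card_cent i hi).1 (Or.inr (Or.inr (Or.inr e)))).le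

/-- Conjugate involutions of the classes of 3, 55, 60, 76 outside that of `z` are conjugate by the centraliser of `z`. -/
theorem exists_conj_four {v w : Fin 192} (hv : Four v) (hw : Four w) (hT : ¬ F.T w) (hT44 : F.T 44)
    (h : IsConj (F.f v) (F.f w)) :
    ∃ g : G, g * F.z = F.z * g ∧ g * F.f v * g⁻¹ = F.f w ∧
      ∀ i, inSyl i = true → sCm v i = true →
        ∃ j, inSyl j = true ∧ sCm w j = true ∧ g * F.f i * g⁻¹ = F.f j := by
  obtain ⟨c, hc⟩ := isConj_iff.1 h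
  obtain ⟨hvS, -, -⟩ := hv.inS
  obtain ⟨hwS, -, -⟩ := hw.inS
  have hle : (F.centS v).map (MulAut.conj c).toMonoidHom ≤ centralizer ({F.f w} : Set G) := by
    rintro _ ⟨x, hx, rfl⟩
    rw [mem_centralizer_singleton_iff]
    show c * x * c⁻¹ * F.f w = F.f w * (c * x * c⁻¹)
    rw [← hc, show c * x * c⁻¹ * (c * F.f v * c⁻¹) = c * (x * F.f v) * c⁻¹ by group,
      mem_centralizer_singleton_iff.1 (mem_inf.1 hx).2]
    group
  obtain ⟨k, hk, hkQ⟩ := exists_conj_into _ _ (F.centS w) ((F.P.isPGroup'.to_le inf_le_left).map _) hle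
    (F.P.isPGroup'.to_le inf_le_left) inf_le_right (fun R' h1 h2 h3 => F.centS_max hw hT R' h1 h2 h3 hT44)
  have hkv : k * c * F.f v * (k * c)⁻¹ = F.f w := by
    rw [show k * c * F.f v * (k * c)⁻¹ = k * (c * F.f v * c⁻¹) * k⁻¹ by group, hc,
      mem_centralizer_singleton_iff.1 hk, mul_inv_cancel_right]
  have himg : ∀ i, inSyl i = true → sCm v i = true →
      ∃ j, inSyl j = true ∧ sCm w j = true ∧ k * c * F.f i * (k * c)⁻¹ = F.f j := by
    intro i hi hci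
    obtain ⟨j, hj, e⟩ := (F.mem_centS hwS _).1 (hkQ _ ⟨F.f i, (F.mem_centS hvS _).2 ⟨i, by simp [hi, hci], rfl⟩, rfl⟩)
    rw [Bool.and_eq_true] at hj
    exact ⟨j, hj.1, hj.2, by rw [e]; simp [mul_inv_rev, mul_assoc]⟩
  refine ⟨k * c, ?_, hkv, himg⟩
  obtain ⟨a, b, ha, hb, hva, hvb, hab⟩ := hv.exists_pair
  obtain ⟨a', ha', hwa, hae⟩ := himg a ha hva
  obtain ⟨b', hb', hwb, hbe⟩ := himg b hb hvb
  have e : k * c * F.z * (k * c)⁻¹ = F.f (sComm a' b') := by
    rw [F.fcomm ha' hb', ← hae, ← hbe, show F.z = F.f (sComm a b) from by rw [hab]; rfl, F.fcomm ha hb]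
    group
  rcases comm_four w hw a' ha' hwa b' hb' hwb with e' | e' <;> rw [e'] at e
  · rw [F.fone, conj_eq_one_iff] at e
    exact absurd e F.z_ne_one
  · exact mul_inv_eq_iff_eq_mul.1 e

variable [IsSimpleGroup G] (hna : ¬ IsMulCommutative G)
include hna

theorem T_logic (h2 : TwoClasses G) :
    (F.T 3 ∧ ¬ F.T 55 ∧ ¬ F.T 60 ∧ ¬ F.T 76) ∨ (¬ F.T 3 ∧ F.T 55 ∧ ¬ F.T 60 ∧ ¬ F.T 76) := by
  have h44 := F.T_44 hna
  obtain ⟨c3, c55, c60, c76, c61, h44S, -, -⟩ := sCl_Four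
  obtain ⟨⟨a3, b3, d3, e3, f3, m3, n3⟩, ⟨a5, d5, e5, f5, m5, n5⟩, ⟨a6, b6, d6, e6, f6, m6, n6⟩,
    ⟨a7, d7, e7, f7, m7, n7⟩⟩ := src_facts
  have hcl : ∀ t r : Fin 192, inSyl t = true → r ≠ 0 → sCl t = r → (F.T t ↔ F.T r) := fun t r ht hr e => by
    rw [← e]; exact F.T_sCl ht (e ▸ hr)
  have L3 : F.T 3 → ((F.T 60 ↔ F.T 55) ∧ (F.T 76 ↔ F.T 55)) ∨ (F.T 60 ∧ F.T 76) := by
    intro hT
    obtain ⟨g, hgz, w, hw, hgv, hg⟩ := F.exists_fix hna (v := 3) (Or.inl rfl) hT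
    have h := F.img_probes (v := 3) (x := 44) (y := 166) (by decide +kernel) h44S (by decide +kernel) m3 n3 a3
      (by decide +kernel) (by decide +kernel) hgz hw hgv hg
    rw [hcl 166 60 (by decide +kernel) (by decide) d3, hcl _ 3 (by decide +kernel) (by decide) e3,
      hcl _ 76 (by decide +kernel) (by decide) f3] at h
    rcases h with ⟨-, p, -, q⟩ | ⟨-, p, -, q⟩ | ⟨-, p, r, q⟩
    · exact Or.inl ⟨p, q⟩
    · exact Or.inr ⟨p.2 hT, q.2 hT⟩
    · exact Or.inr ⟨p.2 (r.1 hT), q.2 (r.1 hT)⟩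
  have L55 : F.T 55 → ((F.T 60 ↔ F.T 3) ∧ (F.T 76 ↔ F.T 3)) ∨ (F.T 60 ∧ F.T 76) := by
    intro hT
    obtain ⟨g, hgz, w, hw, hgv, hg⟩ := F.exists_fix hna (v := 55) (Or.inr (Or.inl rfl)) hT
    have h := F.img_probes (v := 55) (x := 44) (y := 76) (by decide +kernel) h44S (by decide +kernel) m5 n5 a5
      (by decide +kernel) (by decide +kernel) hgz hw hgv hg
    rw [hcl _ 55 (by decide +kernel) (by decide) e5,
      hcl _ 60 (by decide +kernel) (by decide) f5] at h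
    rcases h with ⟨-, p, -, q⟩ | ⟨-, p, -, q⟩ | ⟨-, p, r, q⟩
    · exact Or.inr ⟨q.2 hT, p.2 hT⟩
    · exact Or.inl ⟨q, p⟩
    · exact Or.inr ⟨q.2 (r.1 hT), p.2 (r.1 hT)⟩
  have L60 : F.T 60 → (F.T 3 ↔ F.T 55) ∧ (F.T 76 ↔ F.T 3) := by
    intro hT
    obtain ⟨g, hgz, w, hw, hgv, hg⟩ := F.exists_fix hna (v := 60) (Or.inr (Or.inr (Or.inl rfl))) hT
    have h := F.img_probes (v := 60) (x := 50) (y := 65) (by decide +kernel) (by decide +kernel)
      (by decide +kernel) m6 n6 a6 (by decide +kernel) (by decide +kernel) hgz hw hgv hg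
    rw [hcl 50 3 (by decide +kernel) (by decide) b6, hcl 65 55 (by decide +kernel) (by decide) d6,
      hcl _ 76 (by decide +kernel) (by decide) e6, hcl _ 76 (by decide +kernel) (by decide) f6] at h
    rcases h with ⟨-, -, p, q⟩ | ⟨r, -, -, q⟩ | ⟨r, p, q, -⟩
    · exact ⟨p.symm.trans q, p⟩
    · exact ⟨r, q⟩
    · exact ⟨r.trans p.symm, q.trans r.symm⟩
  have L76 : F.T 76 → (F.T 3 ↔ F.T 55) ∧ (F.T 60 ↔ F.T 3) := by
    intro hT
    obtain ⟨g, hgz, w, hw, hgv, hg⟩ := F.exists_fix hna (v := 76) (Or.inr (Or.inr (Or.inr rfl))) hT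
    have h := F.img_probes (v := 76) (x := 50) (y := 55) (by decide +kernel) (by decide +kernel)
      (by decide +kernel) m7 n7 a7 (by decide +kernel) (by decide +kernel) hgz hw hgv hg
    rw [hcl 50 3 (by decide +kernel) (by decide) b6,
      hcl _ 60 (by decide +kernel) (by decide) e7, hcl _ 60 (by decide +kernel) (by decide) f7] at h
    rcases h with ⟨-, -, p, q⟩ | ⟨r, -, -, q⟩ | ⟨r, p, q, -⟩
    · exact ⟨p.symm.trans q, p⟩
    · exact ⟨r, q⟩
    · exact ⟨r.trans p.symm, q.trans r.symm⟩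
  obtain ⟨⟨q0, qS, qm, qi, q32, q61, qc⟩, ⟨r0, rS, rm, ri, r32, r3, -, rc⟩, ⟨s0, sS, sm, si, s32, s3, -, sc⟩,
    ⟨t0, tS, tm, ti, t32, t60, -, tc⟩⟩ := max_facts
  have conj_T : ∀ {v : Fin 192}, ¬ F.T v → ∀ {i}, IsConj (F.f v) (F.f i) → ¬ F.T i :=
    fun hv _ hvi hi => hv (IsConj.trans hi hvi.symm)
  have ne0 : ∀ {v i : Fin 192}, inSyl v = true → sCl v ≠ 0 → inSyl i = true → IsConj (F.f v) (F.f i) →
      sCl i ≠ 0 := by
    intro v i hv hvc hi hvi
    have ho : orderOf (F.f i) = 2 := by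
      obtain ⟨c, hc⟩ := isConj_iff.1 hvi
      rw [← hc, show c * F.f v * c⁻¹ = MulAut.conj c (F.f v) from rfl, MulEquiv.orderOf_eq, F.orderOf_f hv hvc]
    obtain ⟨i', hi', hie, hic⟩ := F.exists_idx (F.f_mem hi) ho
    rwa [← F.inj _ _ hi' hi hie]
  -- not all of the four
  have hall : ¬ (F.T 3 ∧ F.T 55 ∧ F.T 60 ∧ F.T 76) := by
    rintro ⟨t3, t5, t6, t7⟩
    have h61 : ¬ F.T 61 := fun h => by
      obtain ⟨i, hi, hic, hiT⟩ := F.exists_not_T h2
      have h' := F.T_sCl hi hic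
      rcases (sCl_facts i hi).2 hic with e | e | e | e | e | e | e <;> rw [e] at h' <;> apply hiT <;> apply h'.2
      exacts [t3, F.T_z, h44, t5, t6, h, t7]
    obtain ⟨i, hi, hci⟩ := F.exists_conj_mem hna inQ q0 qS qm qi q32 (v := 61) (by decide +kernel)
      (by decide +kernel) (by rw [q61]; decide)
    have hic := ne0 (by decide +kernel) (by decide +kernel) (qS i hi) hci
    refine conj_T h61 hci ?_
    have h' := F.T_sCl (qS i hi) hic
    rcases (sCl_facts i (qS i hi)).2 hic with e | e | e | e | e | e | e <;> rw [e] at h'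
    exacts [h'.2 t3, h'.2 F.T_z, h'.2 h44, h'.2 t5, h'.2 t6, absurd e (qc i hi), h'.2 t7]
  have h60 : ¬ (F.T 60 ∧ ¬ F.T 3) := by
    rintro ⟨t6, t3⟩
    obtain ⟨i, hi, hci⟩ := F.exists_conj_mem hna inM60 r0 rS rm ri r32 (v := 3) (by decide +kernel)
      (by decide +kernel) (by rw [r3]; decide)
    have hic := ne0 (by decide +kernel) (by decide +kernel) (rS i hi) hci
    refine conj_T t3 hci ?_
    have h' := F.T_sCl (rS i hi) hic
    rcases rc i hi hic with e | e | e <;> rw [e] at h'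
    exacts [h'.2 F.T_z, h'.2 h44, h'.2 t6]
  have h76 : ¬ (F.T 76 ∧ ¬ F.T 3) := by
    rintro ⟨t7, t3⟩
    obtain ⟨i, hi, hci⟩ := F.exists_conj_mem hna inM76 s0 sS sm si s32 (v := 3) (by decide +kernel)
      (by decide +kernel) (by rw [s3]; decide)
    have hic := ne0 (by decide +kernel) (by decide +kernel) (sS i hi) hci
    refine conj_T t3 hci ?_
    have h' := F.T_sCl (sS i hi) hic
    rcases sc i hi hic with e | e | e <;> rw [e] at h'
    exacts [h'.2 F.T_z, h'.2 h44, h'.2 t7]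
  have hnone : ¬ (¬ F.T 3 ∧ ¬ F.T 55 ∧ ¬ F.T 60 ∧ ¬ F.T 76) := by
    rintro ⟨t3, t5, t6, t7⟩
    obtain ⟨i, hi, hci⟩ := F.exists_conj_mem hna inM3 t0 tS tm ti t32 (v := 60) (by decide +kernel)
      (by decide +kernel) (by rw [t60]; decide)
    have hic := ne0 (by decide +kernel) (by decide +kernel) (tS i hi) hci
    have hTi := conj_T t6 hci
    have h' := F.T_sCl (tS i hi) hic
    have hcl' : ∃ w, (w = 3 ∨ w = 55) ∧ IsConj (F.f w) (F.f 60) := by
      rcases tc i hi hic with e | e | e | e <;> rw [e] at h'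
      · exact absurd (h'.2 F.T_z) hTi
      · exact absurd (h'.2 h44) hTi
      · exact ⟨3, Or.inl rfl, IsConj.trans (e ▸ (F.isConj_sCl (tS i hi) hic).2) hci.symm⟩
      · exact ⟨55, Or.inr rfl, IsConj.trans (e ▸ (F.isConj_sCl (tS i hi) hic).2) hci.symm⟩
    obtain ⟨w, hw, hwc⟩ := hcl'
    have hwF : Four w := by rcases hw with rfl | rfl; exacts [Or.inl rfl, Or.inr (Or.inl rfl)]
    obtain ⟨g, hgz, -, hg⟩ := F.exists_conj_four hwF (Or.inr (Or.inr (Or.inl rfl))) t6 h44 hwc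
    obtain ⟨j, hj, hj6, hje⟩ := hg 44 h44S (by rcases hw with rfl | rfl <;> decide +kernel)
    have hj2 : sCl j ≠ 0 := ne0 h44S (by decide +kernel) hj (isConj_iff.2 ⟨g, hje⟩)
    have hjz : j ≠ cT := fun e => by
      have h3 : g * F.f 44 * g⁻¹ = g * F.z * g⁻¹ := by
        rw [hje, e, hgz, mul_inv_cancel_right]; rfl
      exact absurd (F.inj _ _ h44S inS_cT (mul_left_cancel (mul_right_cancel h3))) (by decide)
    have hjT := (F.T_of_conj hje).1 h44
    have h'' := F.T_sCl hj hj2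
    rcases cent_60 j hj hj6 hj2 hjz with e | e | e | e <;> rw [e] at h''
    exacts [t3 (h''.1 hjT), t5 (h''.1 hjT), t6 (h''.1 hjT), t7 (h''.1 hjT)]
  by_cases a : F.T 3
  · by_cases b : F.T 60
    · obtain ⟨p, q⟩ := L60 b
      exact absurd ⟨a, p.1 a, b, q.2 a⟩ hall
    · rcases L3 a with ⟨p, q⟩ | ⟨p, -⟩
      · exact Or.inl ⟨a, fun c => b (p.2 c), b, fun c => b (p.2 (q.1 c))⟩
      · exact absurd p b
  · have b : ¬ F.T 60 := fun b => h60 ⟨b, a⟩
    have c : ¬ F.T 76 := fun c => h76 ⟨c, a⟩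
    by_cases d : F.T 55
    · exact Or.inr ⟨a, d, b, c⟩
    · exact absurd ⟨a, d, b, c⟩ hnone

include F in
/-- Up to the automorphism of the index set, 3 is conjugate to `z` and 55, 60, 76 are not. -/
theorem exists_normalized (h2 : TwoClasses G) :
    ∃ F' : Frame G, F'.T 44 ∧ F'.T 3 ∧ ¬ F'.T 55 ∧ ¬ F'.T 60 ∧ ¬ F'.T 76 := by
  rcases F.T_logic hna h2 with ⟨h3, h5, h6, h7⟩ | ⟨h3, h5, h6, h7⟩
  · exact ⟨F, F.T_44 hna, h3, h5, h6, h7⟩
  · obtain ⟨hα, hm, hi, c5, c3, cz, -⟩ := sSwap_facts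
    refine ⟨F.precomp sSwap hα hm hi, ?_⟩
    set F' := F.precomp sSwap hα hm hi with hF'
    have hT : ∀ i, F'.T i ↔ F.T (sSwap i) := fun i => by
      show IsConj (F.f (sSwap cT)) (F.f (sSwap i)) ↔ IsConj (F.f cT) (F.f (sSwap i))
      rw [cz]
    have h5' : F'.T 3 := (hT 3).2 ((F.T_sCl (hα 3 (by decide +kernel)) (by rw [c5]; decide)).2 (by rw [c5]; exact h5))
    rcases F'.T_logic hna h2 with ⟨-, g5, g6, g7⟩ | ⟨g3, -⟩
    · exact ⟨F'.T_44 hna, h5', g5, g6, g7⟩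
    · exact absurd h5' g3

variable (h44 : F.T 44) (h3 : F.T 3) (h55 : ¬ F.T 55) (h60 : ¬ F.T 60) (h76 : ¬ F.T 76)
include h44 h3 h55

/-- The involutions not conjugate to `z` are conjugate to 55. -/
theorem isConj_55 {i : Fin 192} (hi : inSyl i = true) (hic : sCl i ≠ 0) (hT : ¬ F.T i) :
    IsConj (F.f 55) (F.f i) := by
  obtain ⟨-, ⟨r0, rS, rm, ri, r32, -, r5, rc⟩, ⟨s0, sS, sm, si, s32, -, s5, sc⟩,
    ⟨t0, tS, tm, ti, t32, -, t61, tc⟩⟩ := max_facts
  have h55c : orderOf (F.f 55) = 2 := F.orderOf_f (by decide +kernel) (by decide +kernel)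
  have hkey : ∀ {j v : Fin 192}, inSyl j = true → IsConj (F.f v) (F.f j) → orderOf (F.f v) = 2 → sCl j ≠ 0 := by
    intro j v hj hvj ho
    obtain ⟨c, hc⟩ := isConj_iff.1 hvj
    have ho' : orderOf (F.f j) = 2 := by
      rw [← hc, show c * F.f v * c⁻¹ = MulAut.conj c (F.f v) from rfl, MulEquiv.orderOf_eq, ho]
    obtain ⟨j', hj', hje, hjc⟩ := F.exists_idx (F.f_mem hj) ho'
    rwa [← F.inj _ _ hj' hj hje]
  have k60 : IsConj (F.f 55) (F.f 60) := by
    obtain ⟨j, hj, hcj⟩ := F.exists_conj_mem hna inM60 r0 rS rm ri r32 (v := 55) (by decide +kernel)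
      (by decide +kernel) (by rw [r5]; decide)
    have hjc := hkey (rS j hj) hcj h55c
    have hjT : ¬ F.T j := fun h => h55 (IsConj.trans h hcj.symm)
    have h' := F.T_sCl (rS j hj) hjc
    rcases rc j hj hjc with e | e | e <;> rw [e] at h'
    · exact absurd (h'.2 F.T_z) hjT
    · exact absurd (h'.2 h44) hjT
    · exact hcj.trans (e ▸ (F.isConj_sCl (rS j hj) hjc).2).symm
  have k76 : IsConj (F.f 55) (F.f 76) := by
    obtain ⟨j, hj, hcj⟩ := F.exists_conj_mem hna inM76 s0 sS sm si s32 (v := 55) (by decide +kernel)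
      (by decide +kernel) (by rw [s5]; decide)
    have hjc := hkey (sS j hj) hcj h55c
    have hjT : ¬ F.T j := fun h => h55 (IsConj.trans h hcj.symm)
    have h' := F.T_sCl (sS j hj) hjc
    rcases sc j hj hjc with e | e | e <;> rw [e] at h'
    · exact absurd (h'.2 F.T_z) hjT
    · exact absurd (h'.2 h44) hjT
    · exact hcj.trans (e ▸ (F.isConj_sCl (sS j hj) hjc).2).symm
  have k61 : ¬ F.T 61 → IsConj (F.f 55) (F.f 61) := by
    intro h61
    obtain ⟨j, hj, hcj⟩ := F.exists_conj_mem hna inM3 t0 tS tm ti t32 (v := 61) (by decide +kernel)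
      (by decide +kernel) (by rw [t61]; decide)
    have hjc := hkey (tS j hj) hcj (F.orderOf_f (by decide +kernel) (by decide +kernel))
    have hjT : ¬ F.T j := fun h => h61 (IsConj.trans h hcj.symm)
    have h' := F.T_sCl (tS j hj) hjc
    rcases tc j hj hjc with e | e | e | e <;> rw [e] at h'
    · exact absurd (h'.2 F.T_z) hjT
    · exact absurd (h'.2 h44) hjT
    · exact absurd (h'.2 h3) hjT
    · have h5 : IsConj (F.f 55) (F.f j) := e ▸ (F.isConj_sCl (tS j hj) hjc).2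
      exact h5.trans hcj.symm
  refine IsConj.trans ?_ (F.isConj_sCl hi hic).2
  have h' := F.T_sCl hi hic
  rcases (sCl_facts i hi).2 hic with e | e | e | e | e | e | e <;> rw [e] at h' ⊢
  exacts [absurd (h'.2 h3) hT, absurd (h'.2 F.T_z) hT, absurd (h'.2 h44) hT, k60,
    k61 (fun h => hT (h'.2 h)), k76]

end Frame

end Cfsg.Lib.MTwelveLocal
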