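import Cfsg.Agent.Lib.MTwelveLocal.Fpf
import Cfsg.Agent.Lib.MTwelveLocal.Act

/-!
The quotient of the index two subgroup of the centraliser of `z` by `z` and the odd core.
-/

set_option autoImplicit false
set_option linter.style.haveILetI false
set_option linter.unusedSectionVars false
set_option maxRecDepth 100000

namespace Cfsg.Lib.MTwelveLocal

open Cfsg Cfsg.Lib.MTwelveRecog Subgroup

theorem quot_facts : (∀ i j : Fin 192, inQ i = true → inQ j = true → qEq (sComm i j) 0 = true ∧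
      qEq (cMul i i) 0 = true) ∧
    (∀ k l : Fin 16, qEq (qWord 3 55 60 44 k) (qWord 3 55 60 44 l) = true → k = l) ∧
    inQ cT = true ∧ sCl (cMul 55 cT) = 55 ∧
    (∀ i : Fin 192, inQ i = true → inQ (cConj 61 i) = true) ∧ qEq (cConj 61 55) 55 = false ∧
    (∀ i : Fin 192, inQ i = true → (∀ j : Fin 192, inQ j = true → cMul i j = cMul j i) → i = 0 ∨ i = cT) ∧
    (∀ i : Fin 192, inSyl i = true → inQ i = false → inQ (cMul i 61) = true) := by
  refine ⟨?_, ?_, ?_, ?_, ?_, ?_, ?_, ?_⟩ <;> decide +kernel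

universe u

namespace Frame

variable {G : Type u} [Group G] (F : Frame G)

/-- The extraspecial subgroup. -/
def qGrp : Subgroup G :=
  F.sub inQ max_facts.1.1 max_facts.1.2.1 max_facts.1.2.2.1 max_facts.1.2.2.2.1

theorem qGrp_le : F.qGrp ≤ (F.P : Subgroup G) := by
  rintro _ ⟨i, hi, rfl⟩
  exact F.f_mem (max_facts.1.2.1 i hi)

variable [Finite G]

theorem card_qGrp : Nat.card F.qGrp = 32 :=
  (F.card_of_pred inQ max_facts.1.2.1 _ fun _ => Iff.rfl).trans max_facts.1.2.2.2.2.1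

theorem acts_of_normalizer {g : G} (hz : g * F.z = F.z * g) (hg : g ∈ normalizer (F.qGrp : Set G)) :
    F.Acts g := by
  refine ⟨hz, fun i hi => ?_⟩
  obtain ⟨j, hj, e⟩ := (mem_normalizer_iff.1 hg _).1 ⟨i, hi, rfl⟩
  exact ⟨j, hj, e.symm⟩

theorem normalizer_of_acts {g : G} (hg : F.Acts g) : g ∈ normalizer (F.qGrp : Set G) := by
  refine mem_normalizer_fintype ?_
  rintro _ ⟨i, hi, rfl⟩
  obtain ⟨j, hj, e⟩ := hg.2 i hi
  exact ⟨j, hj, e.symm⟩

theorem acts_61 : F.Acts (F.f 61) := by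
  have h61 : inSyl 61 = true := by decide +kernel
  exact ⟨F.comm_z h61, fun i hi => ⟨cConj 61 i, quot_facts.2.2.2.2.1 i hi, (F.fconj h61 (max_facts.1.2.1 i hi)).symm⟩⟩

variable [IsSimpleGroup G] (hna : ¬ IsMulCommutative G) (h44 : F.T 44) (h3 : F.T 3)
  (h55 : ¬ F.T 55) (h60 : ¬ F.T 60) (h76 : ¬ F.T 76)
include hna h44 h3 h55 h60 h76

/-- Every element of the centraliser of `z` is an element of its odd core times one normalising the
extraspecial subgroup; those centralising it modulo `z` lie in the odd core times it. -/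
theorem centralizer_structure :
    (∀ h : G, h * F.z = F.z * h → ∃ o ∈ centralizerPPrimeCore 2 F.z, ∃ n, F.Acts n ∧ h = o * n) ∧
    (∀ n : G, F.Acts n → (∀ i, inQ i = true → F.Eqz (n * F.f i * n⁻¹) (F.f i)) →
      ∃ o ∈ centralizerPPrimeCore 2 F.z, ∃ i, inQ i = true ∧ n = o * F.f i) := by
  classical
  haveI : Fact (Nat.Prime 2) := ⟨Nat.prime_two⟩
  obtain ⟨N, hNH, hN2, hNP⟩ := F.exists_indexTwo hna h44 h3 h55 h60 h76
  obtain ⟨fcm, fword, fz, f55z, f61Q, f61m, fctr, f61c⟩ := quot_facts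
  obtain ⟨q3, q55, q60, q44⟩ := gens_inQ'
  obtain ⟨-, hQS, hQm, -⟩ := max_facts.1
  set H := centralizer ({F.z} : Set G) with hH
  haveI hNn : (N.subgroupOf H).Normal := normal_of_index_eq_two hN2
  have hQN : F.qGrp ≤ N := by
    rintro _ ⟨i, hi, rfl⟩; exact (hNP i (hQS i hi)).2 hi
  set QN : Subgroup N := F.qGrp.subgroupOf N with hQNdef
  have hQNcard : Nat.card QN = 32 := (Nat.card_congr (subgroupOfEquivOfLe hQN).toEquiv).trans F.card_qGrp
  obtain ⟨SN, hSN⟩ : ∃ SN : Sylow 2 N, (SN : Subgroup N) = QN := by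
    obtain ⟨SN, hle⟩ := (IsPGroup.of_card (p := 2) (n := 5) (by rw [hQNcard]; rfl) : IsPGroup 2 QN).exists_le_sylow
    refine ⟨SN, (eq_of_le_of_card_ge hle ?_).symm⟩
    rw [hQNcard, ← card_map_of_injective (K := (SN : Subgroup N)) N.subtype_injective]
    obtain ⟨d, hd, hdS⟩ := exists_conj_into H ((SN : Subgroup N).map N.subtype) F.P (SN.isPGroup'.map _)
      ((map_subtype_le _).trans hNH) F.P.isPGroup' F.P_le_centralizer (fun R' h1 h2 _ => F.le_P h1 h2)
    have hsub : ((SN : Subgroup N).map N.subtype).map (MulAut.conj d).toMonoidHom ≤ F.qGrp := by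
      rintro _ ⟨x, hx, rfl⟩
      obtain ⟨i, hi, e⟩ := (F.mem_iff _).1 (hdS x hx)
      refine ⟨i, (hNP i hi).1 ?_, e⟩
      rw [e]
      have hxN : x ∈ N := map_subtype_le _ hx
      exact mem_subgroupOf.1 (hNn.conj_mem ⟨x, hNH hxN⟩ (mem_subgroupOf.2 hxN) ⟨d, hd⟩)
    rw [← F.card_qGrp,
      ← card_map_of_injective (K := (SN : Subgroup N).map N.subtype) (f := (MulAut.conj d).toMonoidHom)
        (MulAut.conj d).injective]
    exact card_le_of_le hsub
  let zN : N := ⟨F.z, hQN ⟨cT, fz, rfl⟩⟩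
  have hzc : ∀ x : N, x * zN = zN * x := fun x =>
    Subtype.ext (mem_centralizer_singleton_iff.1 (hNH x.2))
  set Z : Subgroup N := zpowers zN with hZ
  haveI hZn : Z.Normal := ⟨fun x hx g => by
    obtain ⟨i, rfl⟩ := mem_zpowers_iff.1 hx
    rw [((Commute.zpow_right (show Commute g zN from hzc g) i).eq), mul_inv_cancel_right]
    exact zpow_mem (mem_zpowers _) i⟩
  let R0 := N ⧸ Z
  let π : N →* R0 ⧸ oddCore R0 := (QuotientGroup.mk' (oddCore R0)).comp (QuotientGroup.mk' Z)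
  have hπ : Function.Surjective π :=
    (QuotientGroup.mk'_surjective _).comp (QuotientGroup.mk'_surjective _)
  have hO : oddCore (R0 ⧸ oddCore R0) = ⊥ := Core.pPrimeCore_quotient_eq_bot
  have hzN2 : orderOf zN = 2 := by rw [← orderOf_coe]; exact F.orderOf_z
  have hker : ∀ x ∈ QN, π x = 1 → (x : G) = 1 ∨ (x : G) = F.z := by
    intro x hx he
    have h1 : (QuotientGroup.mk' Z x) ∈ oddCore R0 := (QuotientGroup.eq_one_iff _).1 he
    obtain ⟨k, hk⟩ := (IsPGroup.of_card (p := 2) (n := 5) (by rw [hQNcard]; rfl) : IsPGroup 2 QN) ⟨x, hx⟩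
    have hk' : x ^ 2 ^ k = 1 := congrArg Subtype.val hk
    have h2 : (orderOf (QuotientGroup.mk' Z x)).Coprime (2 ^ k) :=
      Nat.Coprime.pow_right k (Nat.Coprime.coprime_dvd_left (Subgroup.orderOf_mk _ h1 ▸ orderOf_dvd_natCard _)
        (Core.pPrimeCore_coprime 2 R0))
    have h3 : orderOf (QuotientGroup.mk' Z x) = 1 :=
      Nat.eq_one_of_dvd_coprimes h2 dvd_rfl ((orderOf_map_dvd _ x).trans (orderOf_dvd_of_pow_eq_one hk'))
    have h4 : x ∈ Z := (QuotientGroup.eq_one_iff x).1 (orderOf_eq_one_iff.1 h3)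
    rw [hZ, ← mem_powers_iff_mem_zpowers] at h4
    obtain ⟨i, hi⟩ := h4
    have hi' : zN ^ i = x := hi
    rw [← hi', ← pow_mod_orderOf, hzN2]
    rcases Nat.mod_two_eq_zero_or_one i with e | e <;> simp [e, zN]
  have heqz : ∀ (i j : Fin 192) (hi : inQ i = true) (hj : inQ j = true),
      π ⟨F.f i, hQN ⟨i, hi, rfl⟩⟩ = π ⟨F.f j, hQN ⟨j, hj, rfl⟩⟩ → F.Eqz (F.f i) (F.f j) := by
    intro i j hi hj he
    set a : N := ⟨F.f i, hQN ⟨i, hi, rfl⟩⟩
    set b : N := ⟨F.f j, hQN ⟨j, hj, rfl⟩⟩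
    have hm : b⁻¹ * a ∈ QN := mul_mem (inv_mem (mem_subgroupOf.2 ⟨j, hj, rfl⟩)) (mem_subgroupOf.2 ⟨i, hi, rfl⟩)
    rcases hker _ hm (by rw [map_mul, map_inv, he, inv_mul_cancel]) with e | e
    · exact Or.inl (inv_mul_eq_one.1 e).symm
    · exact Or.inr (inv_mul_eq_iff_eq_mul.1 e)
  have hπz : π zN = 1 := by
    show QuotientGroup.mk' _ (QuotientGroup.mk' Z zN) = 1
    rw [show QuotientGroup.mk' Z zN = 1 from (QuotientGroup.eq_one_iff _).2 (mem_zpowers _), map_one]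
  have hidx : ∀ x : N, x ∈ QN → ∃ i, inQ i = true ∧ F.f i = (x : G) := fun x hx => mem_subgroupOf.1 hx
  have hqz : ∀ (x : N) (i : Fin 192) (hi : inQ i = true), qEq i 0 = true → (x : G) = F.f i → π x = 1 := by
    intro x i hi he hx
    simp only [qEq, Bool.or_eq_true, beq_iff_eq] at he
    rcases he with e | e
    · rw [e, F.fone] at hx
      rw [show x = 1 from Subtype.ext hx, map_one]
    · rw [e, (cMul_inv cT).2.2.1] at hx
      rw [show x = zN from Subtype.ext hx, hπz]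
  let SR : Sylow 2 (R0 ⧸ oddCore R0) := SN.mapSurjective hπ
  have hSR : (SR : Subgroup (R0 ⧸ oddCore R0)) = QN.map π := by rw [← hSN]; rfl
  haveI hab : IsMulCommutative (SR : Subgroup (R0 ⧸ oddCore R0)) := ⟨⟨fun p q => Subtype.ext (by
    obtain ⟨x, hx, hxe⟩ := (hSR ▸ p.2 : (p : R0 ⧸ oddCore R0) ∈ QN.map π)
    obtain ⟨y, hy, hye⟩ := (hSR ▸ q.2 : (q : R0 ⧸ oddCore R0) ∈ QN.map π)
    obtain ⟨i, hi, ei⟩ := hidx x hx
    obtain ⟨j, hj, ej⟩ := hidx y hy
    have h1 : π (x * y * (x⁻¹ * y⁻¹)) = 1 := hqz _ (sComm i j)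
      (hQm _ _ (hQm _ _ hi hj) (hQm _ _ (max_facts.1.2.2.2.1 i hi) (max_facts.1.2.2.2.1 j hj)))
      (fcm i j hi hj).1 (by rw [F.fcomm (hQS i hi) (hQS j hj), ei, ej]; rfl)
    rw [map_mul, map_mul, map_mul, map_inv, map_inv, hxe, hye, ← mul_inv_rev, mul_inv_eq_one] at h1
    exact h1)⟩⟩
  have h16 : 16 ≤ Nat.card (SR : Subgroup (R0 ⧸ oddCore R0)) := by
    let φ : Fin 16 → (SR : Subgroup (R0 ⧸ oddCore R0)) := fun k =>
      ⟨π ⟨F.f (qWord 3 55 60 44 k), hQN ⟨_, qWord_inQ q3 q55 q60 q44 k, rfl⟩⟩, by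
        rw [hSR]; exact mem_map_of_mem π (mem_subgroupOf.2 ⟨_, qWord_inQ q3 q55 q60 q44 k, rfl⟩)⟩
    have hφ : Function.Injective φ := fun k l e => fword k l
      ((F.eqz_idx (hQS _ (qWord_inQ q3 q55 q60 q44 k)) (hQS _ (qWord_inQ q3 q55 q60 q44 l))).1
        (heqz _ _ (qWord_inQ q3 q55 q60 q44 k) (qWord_inQ q3 q55 q60 q44 l) (congrArg Subtype.val e)))
    simpa using Nat.card_le_card_of_injective φ hφ
  have hsq : ∀ e ∈ (SR : Subgroup (R0 ⧸ oddCore R0)), e * e = 1 := by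
    intro e he
    rw [hSR] at he
    obtain ⟨x, hx, rfl⟩ := he
    obtain ⟨i, hi, ei⟩ := hidx x hx
    rw [← map_mul]
    exact hqz _ (cMul i i) (hQm _ _ hi hi) (fcm i i hi hi).2
      (by rw [F.fmul _ _ (hQS i hi) (hQS i hi), ei]; rfl)
  -- the preimage of the Sylow subgroup and its conjugacy
  set K := ((SR : Subgroup (R0 ⧸ oddCore R0))).comap π with hK
  have hQK : QN ≤ K := fun x hx => by rw [hK, mem_comap, hSR]; exact mem_map_of_mem π hx
  have hKconj : ∀ R' : Subgroup N, IsPGroup 2 R' → R' ≤ K → ∃ k ∈ K, ∀ x ∈ R', k * x * k⁻¹ ∈ QN :=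
    fun R' h1 h2 => exists_conj_into K R' QN h1 h2
      (IsPGroup.of_card (p := 2) (n := 5) (by rw [hQNcard]; rfl)) hQK
      (fun R'' k1 k2 _ => by rw [← hSN] at k2 ⊢; exact (SN.3 k1 k2).le)
  -- lifting an element normalising the Sylow subgroup
  have hlift : ∀ r ∈ normalizer ((SR : Subgroup (R0 ⧸ oddCore R0)) : Set (R0 ⧸ oddCore R0)),
      ∃ n : N, F.Acts (n : G) ∧ ∀ e ∈ (SR : Subgroup (R0 ⧸ oddCore R0)),
        π n * e * (π n)⁻¹ = r * e * r⁻¹ := by
    intro r hr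
    obtain ⟨n, rfl⟩ := hπ r
    obtain ⟨k, hk, hkQ⟩ := hKconj (QN.map (MulAut.conj n).toMonoidHom)
      ((IsPGroup.of_card (p := 2) (n := 5) (by rw [hQNcard]; rfl) : IsPGroup 2 QN).map _) (by
        rintro _ ⟨x, hx, rfl⟩
        rw [hK, mem_comap]
        show π (n * x * n⁻¹) ∈ _
        rw [map_mul, map_mul, map_inv]
        exact (mem_normalizer_iff.1 hr _).1 (by rw [hSR]; exact mem_map_of_mem π hx))
    refine ⟨k * n, F.acts_of_normalizer (mem_centralizer_singleton_iff.1 (hNH (k * n).2))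
      (mem_normalizer_fintype ?_), fun e he => ?_⟩
    · rintro _ ⟨i, hi, rfl⟩
      have h := mem_subgroupOf.1 (hkQ _ (mem_map_of_mem _ (show (⟨F.f i, hQN ⟨i, hi, rfl⟩⟩ : N) ∈ QN from
        mem_subgroupOf.2 ⟨i, hi, rfl⟩)))
      have e : ((k * n : N) : G) * F.f i * ((k * n : N) : G)⁻¹ =
          ((k * (MulAut.conj n) ⟨F.f i, hQN ⟨i, hi, rfl⟩⟩ * k⁻¹ : N) : G) := by simp [mul_assoc]
      rw [e]
      exact h
    · have hke : π n * e * (π n)⁻¹ ∈ (SR : Subgroup (R0 ⧸ oddCore R0)) := (mem_normalizer_iff.1 hr _).1 he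
      rw [map_mul, show π k * π n * e * (π k * π n)⁻¹ = π k * (π n * e * (π n)⁻¹) * (π k)⁻¹ by group,
        setLike_mul_comm (mem_comap.1 hk) hke, mul_inv_cancel_right]
  have hfix : FixFree (SR : Subgroup (R0 ⧸ oddCore R0)) := by
    rintro r hro hrn ⟨e, he, he1, hre⟩
    obtain ⟨n, hn, hne⟩ := hlift r hrn
    -- a power of odd order
    have hpow : ∀ (j : ℕ), ∀ e' ∈ (SR : Subgroup (R0 ⧸ oddCore R0)),
        π (n ^ j) * e' * (π (n ^ j))⁻¹ = r ^ j * e' * (r ^ j)⁻¹ := by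
      intro j
      induction j with
      | zero => intro e' _; simp
      | succ j ih =>
        intro e' he'
        have hin : r * e' * r⁻¹ ∈ (SR : Subgroup (R0 ⧸ oddCore R0)) := (mem_normalizer_iff.1 hrn _).1 he'
        rw [pow_succ, pow_succ, map_mul,
          show π (n ^ j) * π n * e' * (π (n ^ j) * π n)⁻¹ = π (n ^ j) * (π n * e' * (π n)⁻¹) * (π (n ^ j))⁻¹
            by group, hne e' he', ih _ hin]
        group
    set a := ordProj[2] (orderOf n) with ha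
    have hodd : Odd (orderOf (((n ^ a : N)) : G)) := by
      rw [orderOf_coe, orderOf_pow' _ (by rw [ha]; positivity), Nat.gcd_eq_right (Nat.ordProj_dvd _ 2)]
      exact Nat.odd_iff.2 (Nat.two_dvd_ne_zero.1 (Nat.not_dvd_ordCompl Nat.prime_two (orderOf_pos n).ne'))
    have hA : F.Acts (((n ^ a : N)) : G) := F.acts_of_normalizer
      (mem_centralizer_singleton_iff.1 (hNH (n ^ a).2)) (by rw [coe_pow]; exact pow_mem (F.normalizer_of_acts hn) a)
    rw [hSR] at he
    obtain ⟨x, hx, hxe⟩ := he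
    obtain ⟨i, hi, ei⟩ := hidx x hx
    obtain ⟨j, hj, ej⟩ := hA.2 i hi
    have hxn : (n ^ a) * x * (n ^ a)⁻¹ = ⟨F.f j, hQN ⟨j, hj, rfl⟩⟩ := Subtype.ext (by
      show ((n ^ a : N) : G) * (x : G) * ((n ^ a : N) : G)⁻¹ = F.f j
      rw [← ei, ej])
    have hre' : r ^ a * e * (r ^ a)⁻¹ = e :=
      mul_inv_eq_iff_eq_mul.2 ((show Commute r e from hre).pow_left a).eq
    have hfixi : F.Eqz (((n ^ a : N) : G) * F.f i * ((n ^ a : N) : G)⁻¹) (F.f i) := by
      rw [ej]
      refine heqz j i hj hi ?_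
      rw [← hxn, map_mul, map_mul, map_inv, show (⟨F.f i, _⟩ : N) = x from Subtype.ext ei, hxe,
        hpow a e (by rw [hSR, ← hxe]; exact mem_map_of_mem π hx), hre']
    have hall := (F.act_odd h44 h3 h55 h60 h76 hA hodd).2 ⟨i, hi, fun e0 => ?_, fun e0 => ?_, hfixi⟩
    · intro e' he'
      have he'' := he'
      rw [SetLike.mem_coe, hSR] at he''
      obtain ⟨y, hy, rfl⟩ := he''
      obtain ⟨l, hl, el'⟩ := hidx y hy
      have hc : π (n ^ a) * π y * (π (n ^ a))⁻¹ = π y := by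
        rw [← map_inv, ← map_mul, ← map_mul]
        refine congrArg π (Subtype.ext ?_)
        show ((n ^ a : N) : G) * (y : G) * ((n ^ a : N) : G)⁻¹ = y
        rw [← el', hall l hl, mul_inv_cancel_right]
      rw [hpow a _ he'] at hc
      have hca : Commute (r ^ a) (π y) := mul_inv_eq_iff_eq_mul.1 hc
      obtain ⟨t, ht⟩ : ∃ t : ℕ, r = (r ^ a) ^ t := by
        have hcop : (orderOf r).Coprime a := by
          rw [ha]; exact Nat.Coprime.pow_right _ (Nat.coprime_two_right.2 hro)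
        obtain ⟨t, ht⟩ := exists_pow_eq_self_of_coprime hcop.symm
        exact ⟨t, ht.symm⟩
      rw [ht]
      exact (hca.pow_left t).eq.symm
    · rw [e0, F.fone] at ei
      exact he1 (by rw [← hxe, show x = 1 from Subtype.ext ei.symm, map_one])
    · rw [e0] at ei
      exact he1 (by rw [← hxe, show x = zN from Subtype.ext ei.symm, hπz])
  have hcl : ∃ a ∈ (SR : Subgroup (R0 ⧸ oddCore R0)), ∃ b ∈ (SR : Subgroup (R0 ⧸ oddCore R0)),
      a * a = 1 ∧ b * b = 1 ∧ a ≠ 1 ∧ b ≠ 1 ∧ ¬ IsConj a b := by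
    set a : N := ⟨F.f 44, hQN ⟨44, q44, rfl⟩⟩ with ha
    set b : N := ⟨F.f 55, hQN ⟨55, q55, rfl⟩⟩ with hb
    have haS : π a ∈ (SR : Subgroup (R0 ⧸ oddCore R0)) := by
      rw [hSR]; exact mem_map_of_mem π (mem_subgroupOf.2 ⟨44, q44, rfl⟩)
    have hbS : π b ∈ (SR : Subgroup (R0 ⧸ oddCore R0)) := by
      rw [hSR]; exact mem_map_of_mem π (mem_subgroupOf.2 ⟨55, q55, rfl⟩)
    have hne : ∀ (i : Fin 192) (hi : inQ i = true), i ≠ 0 → i ≠ cT → π ⟨F.f i, hQN ⟨i, hi, rfl⟩⟩ ≠ 1 := by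
      intro i hi h0 hz he
      rcases hker _ (mem_subgroupOf.2 ⟨i, hi, rfl⟩) he with e | e
      · exact h0 (F.inj _ _ (hQS i hi) inSyl_facts.1 (e.trans F.fone.symm))
      · exact hz (F.inj _ _ (hQS i hi) inS_cT e)
    refine ⟨π a, haS, π b, hbS, hsq _ haS, hsq _ hbS, hne 44 q44 (by decide) (by decide),
      hne 55 q55 (by decide) (by decide), fun hc => ?_⟩
    obtain ⟨r, hr⟩ := isConj_iff.1 hc
    obtain ⟨n, rfl⟩ := hπ r
    have ha2 : orderOf (n * a * n⁻¹) = 2 := by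
      rw [show n * a * n⁻¹ = MulAut.conj n a from rfl, MulEquiv.orderOf_eq, ← orderOf_coe]
      exact F.orderOf_f (hQS 44 q44) (by decide +kernel)
    obtain ⟨k, hk, hkQ⟩ := hKconj (zpowers (n * a * n⁻¹))
      (IsPGroup.of_card (p := 2) (n := 1) (by rw [Nat.card_zpowers, ha2]; rfl))
      (zpowers_le.2 (by rw [hK, mem_comap, map_mul, map_mul, map_inv, hr]; exact hbS))
    have hy := hkQ _ (mem_zpowers _)
    obtain ⟨i, hi, ei⟩ := hidx _ hy
    have hπe : π ⟨F.f i, hQN ⟨i, hi, rfl⟩⟩ = π b := by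
      rw [show (⟨F.f i, _⟩ : N) = k * (n * a * n⁻¹) * k⁻¹ from Subtype.ext ei, map_mul, map_mul, map_mul,
        map_mul, map_inv, map_inv, hr, setLike_mul_comm (mem_comap.1 hk) hbS, mul_inv_cancel_right]
    have hT : F.T i := (F.T_of_conj (g := (k : G) * n) (i := 44) (by
      rw [ei]
      show (k : G) * n * F.f 44 * ((k : G) * n)⁻¹ = (k : G) * ((n : G) * F.f 44 * (n : G)⁻¹) * (k : G)⁻¹
      group)).1 h44
    rcases heqz i 55 hi q55 hπe with e | e
    · exact h55 ((F.inj _ _ (hQS i hi) (hQS 55 q55) e) ▸ hT)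
    · rw [show F.z = F.f cT from rfl, ← F.fmul _ _ (hQS 55 q55) inS_cT] at e
      rw [F.inj _ _ (hQS i hi) (inS_mul (hQS 55 q55) inS_cT) e,
        F.T_sCl (inS_mul (hQS 55 q55) inS_cT) (by rw [f55z]; decide), f55z] at hT
      exact h55 hT
  obtain ⟨hnorm, hcent⟩ := normal_of_fixFree hO SR hfix h16 hcl
  -- the odd core of the index two subgroup lies in that of the centraliser
  haveI hZ0 : K.Normal := hnorm.comap π
  have hodd : ∀ x : N, x ∈ oddCore N → (x : G) ∈ centralizerPPrimeCore 2 F.z := by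
    intro x hx
    let ι : N →* H := inclusion hNH
    have hmap : (oddCore N).map ι ≤ oddCore H := by
      have hsn : (N.subgroupOf H).IsSubnormal := hNn.isSubnormal
      let e : N ≃* N.subgroupOf H := (subgroupOfEquivOfLe hNH).symm
      have h1 := Core.pPrimeCore_map_le_of_isSubnormal (p := 2) hsn
      refine le_trans ?_ h1
      rintro _ ⟨y, hy, rfl⟩
      exact ⟨e y, Core.map_pPrimeCore_equiv e ▸ mem_map_of_mem e.toMonoidHom hy, rfl⟩
    exact ⟨ι x, hmap (mem_map_of_mem ι hx), rfl⟩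
  have hkerO : ∀ x : N, π x = 1 → ∃ o ∈ oddCore N, ∃ e ∈ Z, x = o * e := by
    intro x hx
    set L : Subgroup N := (oddCore R0).comap (QuotientGroup.mk' Z) with hL
    have hxL : x ∈ L := mem_comap.2 ((QuotientGroup.eq_one_iff (QuotientGroup.mk' Z x)).1 hx)
    have hZL : Z ≤ L := fun y hy => by
      rw [hL, mem_comap, show QuotientGroup.mk' Z y = 1 from (QuotientGroup.eq_one_iff y).2 hy]
      exact one_mem _
    set m := orderOf (QuotientGroup.mk' Z x) with hm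
    have hmodd : Odd m := Nat.coprime_two_right.1 (Nat.Coprime.coprime_dvd_left
      (by rw [hm, ← Subgroup.orderOf_mk (QuotientGroup.mk' Z x) (mem_comap.1 hxL)]; exact orderOf_dvd_natCard _)
      (Core.pPrimeCore_coprime 2 R0))
    have hxm : x ^ m ∈ Z := (QuotientGroup.eq_one_iff _).1 (by
      show QuotientGroup.mk' Z (x ^ m) = 1
      rw [map_pow, hm, pow_orderOf_eq_one])
    have hZ2 : ∀ y ∈ Z, y ^ 2 = 1 := fun y hy => by
      obtain ⟨i, rfl⟩ := mem_zpowers_iff.1 hy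
      rw [← zpow_natCast, ← zpow_mul, mul_comm, zpow_mul, zpow_natCast, ← hzN2, pow_orderOf_eq_one, one_zpow]
    obtain ⟨k, hk⟩ := hmodd
    have ho : Odd (orderOf (x ^ (m + 1))) := by
      have hd : orderOf (x ^ (m + 1)) ∣ m := orderOf_dvd_of_pow_eq_one (by
        rw [← pow_mul, mul_comm, pow_mul, show m + 1 = 2 * (k + 1) by omega, pow_mul, hZ2 _ hxm, one_pow])
      exact Odd.of_dvd_nat ⟨k, hk⟩ hd
    -- the elements of odd order of the preimage form a normal subgroup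
    haveI hLn : L.Normal := inferInstanceAs (((oddCore R0).comap (QuotientGroup.mk' Z)).Normal)
    have hcomp : HasNormalPComplement 2 L := by
      haveI : (Z.subgroupOf L).Normal := inferInstance
      let ZS : Subgroup L := Z.subgroupOf L
      obtain ⟨T, hT⟩ := (IsPGroup.of_card (p := 2) (n := 1) (by
        rw [Nat.card_congr (subgroupOfEquivOfLe hZL).toEquiv, hZ, Nat.card_zpowers, hzN2]; rfl) :
        IsPGroup 2 ZS).exists_le_sylow
      have hTle : (T : Subgroup L) ≤ ZS := by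
        intro y hy
        rw [mem_subgroupOf]
        obtain ⟨j, hj⟩ := T.isPGroup' ⟨y, hy⟩
        have hyj : y ^ 2 ^ j = 1 := congrArg Subtype.val hj
        have h1 : (QuotientGroup.mk' Z (y : N)) = 1 := by
          refine orderOf_eq_one_iff.1 (Nat.eq_one_of_dvd_coprimes
            (Nat.Coprime.pow_right j (Core.pPrimeCore_coprime 2 R0)) ?_ ?_)
          · exact Subgroup.orderOf_mk (QuotientGroup.mk' Z (y : N)) (mem_comap.1 y.2) ▸ orderOf_dvd_natCard _
          · refine orderOf_dvd_of_pow_eq_one ?_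
            rw [← map_pow, ← coe_pow, hyj, coe_one, map_one]
        exact (QuotientGroup.eq_one_iff _).1 h1
      refine Fusion.hasNormalPComplement_of_normalizer_le_centralizer T fun y _ p hp => Subtype.ext ?_
      obtain ⟨i, hi⟩ := mem_zpowers_iff.1 (mem_subgroupOf.1 (hTle hp))
      show (p : N) * (y : N) = (y : N) * (p : N)
      rw [← hi]
      exact ((show Commute (y : N) zN from hzc _).zpow_right i).eq.symm
    have hres : ((⟨x, hxL⟩ : L) ^ (m + 1)) ∈ Cfsg.pPrimeCore 2 L := Core.le_pPrimeCore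
      (Fusion.hasNormalPComplement_iff_coprime.1 hcomp) (Fusion.mem_pResidual_of_coprime (by
        rw [← orderOf_coe, coe_pow]; exact Nat.coprime_two_right.2 ho))
    refine ⟨x ^ (m + 1), Core.pPrimeCore_map_le_of_isSubnormal hLn.isSubnormal
      ⟨_, hres, by simp⟩, (x ^ m)⁻¹, inv_mem hxm, ?_⟩
    rw [pow_succ', mul_inv_cancel_right]
  -- the decomposition of the preimage
  have hKdec : ∀ x ∈ K, ∃ o ∈ centralizerPPrimeCore 2 F.z, ∃ i, inQ i = true ∧ (x : G) = o * F.f i := by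
    intro x hx
    have hxS : π x ∈ (SR : Subgroup (R0 ⧸ oddCore R0)) := hx
    rw [hSR] at hxS
    obtain ⟨q, hq, hqe⟩ := hxS
    obtain ⟨o, ho, e, he, hoe⟩ := hkerO (x * q⁻¹) (by rw [map_mul, map_inv, hqe, mul_inv_cancel])
    have heQ : e * q ∈ QN := mul_mem ((zpowers_le.2 (show zN ∈ QN from mem_subgroupOf.2 ⟨cT, fz, rfl⟩)) he) hq
    obtain ⟨i, hi, ei⟩ := hidx _ heQ
    refine ⟨o, hodd o ho, i, hi, ?_⟩
    rw [ei, ← coe_mul, ← mul_assoc, ← hoe, inv_mul_cancel_right]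
  have hOn : ∀ g : G, g * F.z = F.z * g → ∀ o ∈ centralizerPPrimeCore 2 F.z,
      g * o * g⁻¹ ∈ centralizerPPrimeCore 2 F.z := by
    rintro g hg _ ⟨y, hy, rfl⟩
    exact ⟨⟨g, mem_centralizer_singleton_iff.2 hg⟩ * y * ⟨g, mem_centralizer_singleton_iff.2 hg⟩⁻¹,
      (inferInstance : (Cfsg.pPrimeCore 2 H).Normal).conj_mem y hy _, rfl⟩
  have hNdec : ∀ n : N, ∃ o ∈ centralizerPPrimeCore 2 F.z, ∃ m, F.Acts m ∧ (n : G) = o * m := by
    intro n
    obtain ⟨k, hk, hkQ⟩ := hKconj (QN.map (MulAut.conj n).toMonoidHom)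
      ((IsPGroup.of_card (p := 2) (n := 5) (by rw [hQNcard]; rfl) : IsPGroup 2 QN).map _) (by
        rintro _ ⟨x, hx, rfl⟩
        exact hZ0.conj_mem x (hQK hx) n)
    have hA : F.Acts ((k * n : N) : G) := F.acts_of_normalizer (mem_centralizer_singleton_iff.1 (hNH (k * n).2))
      (mem_normalizer_fintype (by
        rintro _ ⟨i, hi, rfl⟩
        have h := mem_subgroupOf.1 (hkQ _ (mem_map_of_mem _ (show (⟨F.f i, hQN ⟨i, hi, rfl⟩⟩ : N) ∈ QN from
          mem_subgroupOf.2 ⟨i, hi, rfl⟩)))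
        have e : ((k * n : N) : G) * F.f i * ((k * n : N) : G)⁻¹ =
            ((k * (MulAut.conj n) ⟨F.f i, hQN ⟨i, hi, rfl⟩⟩ * k⁻¹ : N) : G) := by simp [mul_assoc]
        rw [e]
        exact h))
    obtain ⟨o, ho, i, hi, e⟩ := hKdec k⁻¹ (inv_mem hk)
    refine ⟨o, ho, F.f i * ((k * n : N) : G), F.acts_of_normalizer ?_ ?_, ?_⟩
    · rw [mul_assoc, hA.1, ← mul_assoc, F.comm_z (hQS i hi), mul_assoc]
    · exact mul_mem (le_normalizer ⟨i, hi, rfl⟩) (F.normalizer_of_acts hA)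
    · rw [← mul_assoc, ← e]
      simp
  have h61S : inSyl 61 = true := by decide +kernel
  have h61A := F.acts_61
  have h61H : F.f 61 ∈ H := F.P_le_centralizer (F.f_mem h61S)
  have h61N : F.f 61 ∉ N := fun h => by
    have := (hNP 61 h61S).1 h
    rw [max_facts.1.2.2.2.2.2.1] at this
    exact Bool.noConfusion this
  have hout : ∀ h : G, h ∈ H → h ∉ N → h * F.f 61 ∈ N := fun h hh hn =>
    mem_subgroupOf.1 ((mul_mem_iff_of_index_two (H := N.subgroupOf H) hN2 (a := ⟨h, hh⟩) (b := ⟨F.f 61, h61H⟩)).2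
      (iff_of_false (fun e => hn (mem_subgroupOf.1 e)) fun e => h61N (mem_subgroupOf.1 e)))
  refine ⟨fun h hh => ?_, fun n hn hcz => ?_⟩
  · by_cases hN : h ∈ N
    · exact hNdec ⟨h, hN⟩
    · obtain ⟨o, ho, m, hm, e⟩ := hNdec ⟨h * F.f 61, hout h (mem_centralizer_singleton_iff.2 hh) hN⟩
      refine ⟨o, ho, m * (F.f 61)⁻¹, F.acts_of_normalizer ?_
        (mul_mem (F.normalizer_of_acts hm) (inv_mem (F.normalizer_of_acts h61A))), ?_⟩
      · rw [mul_assoc, (Commute.inv_left (show Commute (F.f 61) F.z from h61A.1)).eq, ← mul_assoc, hm.1,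
          mul_assoc]
      · rw [← mul_assoc, ← e]
        exact (mul_inv_cancel_right h (F.f 61)).symm
  · have hnH : n ∈ H := mem_centralizer_singleton_iff.2 hn.1
    have hcent' : ∀ m : N, (∀ i, inQ i = true → F.Eqz ((m : G) * F.f i * (m : G)⁻¹) (F.f i)) →
        π m ∈ centralizer ((SR : Subgroup (R0 ⧸ oddCore R0)) : Set (R0 ⧸ oddCore R0)) := by
      intro m hm e he
      rw [SetLike.mem_coe, hSR] at he
      obtain ⟨x, hx, rfl⟩ := he
      obtain ⟨i, hi, ei⟩ := hidx x hx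
      refine (mul_inv_eq_iff_eq_mul.1 ?_).symm
      rw [← map_inv, ← map_mul, ← map_mul]
      rcases hm i hi with h' | h'
      · exact congrArg π (Subtype.ext (by
          show (m : G) * (x : G) * (m : G)⁻¹ = x
          rw [← ei, h']))
      · rw [show m * x * m⁻¹ = x * zN from Subtype.ext (by
          show (m : G) * (x : G) * (m : G)⁻¹ = (x : G) * F.z
          rw [← ei, h']), map_mul, hπz, mul_one]
    by_cases hN : n ∈ N
    · exact hKdec ⟨n, hN⟩ (hcent (hcent' ⟨n, hN⟩ hcz))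
    · exfalso
      set m : N := ⟨n * F.f 61, hout n hnH hN⟩ with hm
      -- its square centralises the quotient
      have hm2 : π m * π m ∈ (SR : Subgroup (R0 ⧸ oddCore R0)) := by
        rw [← map_mul]
        refine hcent (hcent' (m * m) fun i hi => ?_)
        obtain ⟨j, hj, e1⟩ := h61A.2 i hi
        obtain ⟨l, hl, e2⟩ := h61A.2 j hj
        have e3 : ∀ {x y : G}, F.Eqz x y → F.Eqz (F.f 61 * x * (F.f 61)⁻¹) (F.f 61 * y * (F.f 61)⁻¹) :=
          fun h => Eqz.conj F h61A.1 h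
        have hs : F.f 61 * F.f 61 = 1 := (F.sq_eq h61S).2 (by decide +kernel)
        show F.Eqz (n * F.f 61 * (n * F.f 61) * F.f i * (n * F.f 61 * (n * F.f 61))⁻¹) (F.f i)
        rw [show n * F.f 61 * (n * F.f 61) * F.f i * (n * F.f 61 * (n * F.f 61))⁻¹ =
          n * (F.f 61 * (n * (F.f 61 * F.f i * (F.f 61)⁻¹) * n⁻¹) * (F.f 61)⁻¹) * n⁻¹ by group, e1]
        refine Eqz.trans F (Eqz.conj F hn.1 (e3 (hcz j hj))) ?_
        rw [e2]
        refine Eqz.trans F (hcz l hl) (Or.inl ?_)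
        rw [← e2, ← e1, show F.f 61 * (F.f 61 * F.f i * (F.f 61)⁻¹) * (F.f 61)⁻¹ =
          F.f 61 * F.f 61 * F.f i * (F.f 61 * F.f 61)⁻¹ by group, hs, one_mul, inv_one, mul_one]
      have hmS : π m ∈ (SR : Subgroup (R0 ⧸ oddCore R0)) := by
        have hp : IsPGroup 2 (zpowers (π m)) := by
          refine IsPGroup.of_card (n := (orderOf (π m)).factorization 2) ?_
          rw [Nat.card_zpowers]
          have hd : orderOf (π m) ∣ 2 ^ 2 := orderOf_dvd_of_pow_eq_one (by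
            rw [show (2 : ℕ) ^ 2 = 2 * 2 by norm_num, pow_mul, sq (π m), sq]
            exact hsq _ hm2)
          obtain ⟨i, -, hi⟩ := (Nat.dvd_prime_pow Nat.prime_two).1 hd
          rw [hi, Nat.Prime.factorization_pow Nat.prime_two, Finsupp.single_eq_same]
        haveI := hnorm
        rw [← SR.3 (SR.isPGroup'.to_sup_of_normal_left hp) le_sup_left]
        exact mem_sup_right (mem_zpowers _)
      -- so `n` fixes 55 up to `z` but 61 does not
      set x : N := ⟨F.f 55, hQN ⟨55, q55, rfl⟩⟩ with hx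
      have hxS : π x ∈ (SR : Subgroup (R0 ⧸ oddCore R0)) := by
        rw [hSR]; exact mem_map_of_mem π (mem_subgroupOf.2 ⟨55, q55, rfl⟩)
      have hcomm : π (m * x * m⁻¹) = π x := by
        rw [map_mul, map_mul, map_inv, setLike_mul_comm hmS hxS, mul_inv_cancel_right]
      obtain ⟨j, hj, e1⟩ := h61A.2 55 q55
      obtain ⟨l, hl, e2⟩ := hn.2 j hj
      have hval : m * x * m⁻¹ = ⟨F.f l, hQN ⟨l, hl, rfl⟩⟩ := Subtype.ext (by
        show n * F.f 61 * F.f 55 * (n * F.f 61)⁻¹ = F.f l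
        rw [show n * F.f 61 * F.f 55 * (n * F.f 61)⁻¹ = n * (F.f 61 * F.f 55 * (F.f 61)⁻¹) * n⁻¹ by group,
          e1, e2])
      rw [hval] at hcomm
      have e4 := heqz l 55 hl q55 hcomm
      rw [← e2] at e4
      have e5 : F.Eqz (F.f j) (F.f 55) := Eqz.trans F (Eqz.symm F (hcz j hj)) e4
      have ej : j = cConj 61 55 := F.inj _ _ (hQS j hj) (inS_mul (inS_mul h61S (hQS 55 q55)) (inS_inv h61S))
        (by rw [← e1, F.fconj h61S (hQS 55 q55)])
      rw [ej, F.eqz_idx (hQS _ (f61Q 55 q55)) (hQS 55 q55), f61m] at e5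
      exact Bool.noConfusion e5

end Frame

end Cfsg.Lib.MTwelveLocal
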