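import Cfsg.Agent.Lib.MTwelveLocal.Index

/-!
The automorphisms of the extraspecial subgroup, modulo its centre, preserving the classes of the involutions.
-/

set_option autoImplicit false
set_option linter.style.haveILetI false
set_option linter.unusedSectionVars false
set_option linter.style.longLine false
set_option maxRecDepth 100000

namespace Cfsg.Lib.MTwelveLocal

open Cfsg Cfsg.Lib.MTwelveRecog Subgroup

/-- The product selected by the four bits of `k`. -/
def qWord (a b c d : Fin 192) (k : ℕ) : Fin 192 :=
  cMul (if Nat.testBit k 0 then a else 0) (cMul (if Nat.testBit k 1 then b else 0)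
    (cMul (if Nat.testBit k 2 then c else 0) (if Nat.testBit k 3 then d else 0)))

/-- The coordinates of an element of the extraspecial subgroup modulo its centre. -/
def qIdx (i : Fin 192) : ℕ :=
  byteAt 2019754688131907002135339112174545549574459187401279822269845617409606068133568627574232402335351078911852433748345571953003819947497799122968054860908072361204132578437793025618163289017832563185988104227672911117735178429133531434922838640661188794420171470878521869367988695689179059008737609749082962842752994038423982212089308673312133655136123785238956567018637769095051175015762322787364521801444888080939975900997757800924052628876712566913037762560 i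

/-- The map determined by the images of 3, 55, 60, 44. -/
def qImg (a b c d i : Fin 192) : Fin 192 := qWord a b c d (qIdx i)

/-- Equality up to the centre. -/
def qEq (i j : Fin 192) : Bool := i == j || i == cMul j cT

/-- Representatives of the involutions in the classes of 3 and 44. -/
def repA : List (Fin 192) := [3, 44, 50]

/-- Representatives of the involutions in the classes of 55, 60, 76. -/
def repB : List (Fin 192) := [55, 60, 65, 76, 166, 171]

/-- The images respect commutation and the classes. -/
def qGood (a b c d : Fin 192) : Bool :=
  (sCm a b == sCm 3 55) && (sCm a c == sCm 3 60) && (sCm a d == sCm 3 44) && (sCm b c == sCm 55 60) &&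
  (sCm b d == sCm 55 44) && (sCm c d == sCm 60 44) &&
  (List.range 16).all fun k => k == 0 ||
    ((!(qEq (qWord a b c d k) 0)) &&
      ((cMul (qWord a b c d k) (qWord a b c d k) == 0) ==
        (cMul (qWord 3 55 60 44 k) (qWord 3 55 60 44 k) == 0)) &&
      (inA (qWord a b c d k) == inA (qWord 3 55 60 44 k)))

theorem qIdx_spec : ∀ i : Fin 192, inQ i = true → qIdx i < 16 ∧
    (qEq i (qWord 3 55 60 44 (qIdx i)) = true) ∧ (qIdx i = 0 → i = 0 ∨ i = cT) := by
  decide +kernel

theorem rep_spec : (∀ i : Fin 192, inQ i = true → inA i = true → i ≠ cT → repA.any (qEq i) = true) ∧
    (∀ i : Fin 192, inQ i = true → inB i = true → repB.any (qEq i) = true) ∧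
    repA.all inQ = true ∧ repB.all inQ = true := by
  decide +kernel

/-- A preserving map has period dividing 6, and period at most 2 if it fixes a nontrivial element. -/
theorem sigma_cert : ∀ a ∈ repA, ∀ b ∈ repB, ∀ c ∈ repB, ∀ d ∈ repA, qGood a b c d = true →
    ∀ r ∈ [(3 : Fin 192), 55, 60, 44],
      qEq (qImg a b c d (qImg a b c d (qImg a b c d (qImg a b c d (qImg a b c d (qImg a b c d r)))))) r = true ∧
      (((List.range 16).any fun k => k != 0 && qEq (qWord a b c d k) (qWord 3 55 60 44 k)) = true →
        qEq (qImg a b c d (qImg a b c d r)) r = true) := by
  decide +kernel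

end Cfsg.Lib.MTwelveLocal
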