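import Cfsg.Agent.Lib.MTwelveLocal.Build
import Cfsg.Agent.Lib.Syl34.Th
import Cfsg.Agent.Lib.Sig.SSFT.Apply

/-!
The signalizer functor `θ t = O(C(t))` on an elementary subgroup of order eight, and the normaliser of the
odd subgroup it generates: it controls the class of the central involution.
-/

set_option autoImplicit false
set_option linter.style.haveILetI false
set_option linter.unusedSectionVars false
set_option maxRecDepth 100000

namespace Cfsg.Lib.MTwelveLocal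

open Cfsg Cfsg.Lib Cfsg.Lib.MTwelveRecog Subgroup
open Cfsg.Lib.Syl34 (th th_le odd_th commute_of_mem_th cent_le_norm_th th_conj th_conj_iff mem_of_pow_two odd_of_mem_th)

/-- An elementary subgroup of order eight meeting only the class of the central involution. -/
def inE (i : Fin 192) : Bool := i == 0 || i == cT || sixL.contains i

/-- The four-group of the centre and 44. -/
def inV (i : Fin 192) : Bool := i == 0 || i == cT || i == 44 || i == 106

/-- The subgroup generated by the centre, 44 and 61. -/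
def inF (i : Fin 192) : Bool :=
  inV i || i == 61 || i == cMul cT 61 || i == cMul 44 61 || i == cMul 106 61

/-- The classes of the central involution and of 3, 44, 61. -/
def inT (i : Fin 192) : Bool := sCl i == 3 || sCl i == cT || sCl i == 44 || sCl i == 61

theorem inE_facts : inE 0 = true ∧ (∀ i, inE i = true → inSyl i = true) ∧
    (∀ i j, inE i = true → inE j = true → inE (cMul i j) = true) ∧
    (∀ i, inE i = true → inE (cInv i) = true) ∧
    ((List.finRange 192).filter inE).length = 8 ∧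
    (∀ i, inE i = true → cMul i i = 0 ∧ inQ i = true ∧ (i = 0 ∨ (inA i = true ∧ sCl i ≠ 0 ∧
      (sCl i = 3 ∨ sCl i = 44 ∨ i = cT)))) ∧
    inE cT = true ∧ inE 44 = true ∧ (∀ i, inV i = true → inE i = true) ∧
    (∀ i, inQ i = true → inA i = true → inE i = true) := by
  refine ⟨?_, ?_, ?_, ?_, ?_, ?_, ?_, ?_, ?_, ?_⟩ <;> decide +kernel

theorem inV_facts : inV 0 = true ∧ (∀ i, inV i = true → inSyl i = true) ∧
    (∀ i j, inV i = true → inV j = true → inV (cMul i j) = true) ∧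
    (∀ i, inV i = true → inV (cInv i) = true) ∧
    ((List.finRange 192).filter inV).length = 4 ∧ (∀ i, inV i = true → cMul i i = 0) ∧
    cMul 44 cT = 106 ∧ cMul 106 cT = 44 := by
  refine ⟨?_, ?_, ?_, ?_, ?_, ?_, ?_, ?_⟩ <;> decide +kernel

theorem inF_facts : inF 0 = true ∧ (∀ i, inF i = true → inSyl i = true) ∧
    (∀ i j, inF i = true → inF j = true → inF (cMul i j) = true) ∧
    (∀ i, inF i = true → inF (cInv i) = true) ∧
    ((List.finRange 192).filter inF).length = 8 ∧ (∀ i, inF i = true → cMul i i = 0) ∧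
    (∀ i, inF i = true → i = 0 ∨ inV i = true ∨ sCl i = 61) ∧
    (∀ i j, inF i = true → inF j = true → sCm i j = true) ∧ inF 61 = true := by
  refine ⟨?_, ?_, ?_, ?_, ?_, ?_, ?_, ?_, ?_⟩ <;> decide +kernel

/-- A pure elementary subgroup of order eight with the centre contains 44 or 106. -/
theorem pure_cert : ∀ x : Fin 192, inSyl x = true → inT x = true → ∀ y : Fin 192, inSyl y = true →
    inT y = true → sCm x y = true → x ≠ cT → y ≠ cT → y ≠ x → y ≠ cMul x cT →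
    inT (cMul x y) = true → inT (cMul (cMul x y) cT) = true → inT (cMul x cT) = true →
    inT (cMul y cT) = true →
    (([x, y, cMul x y, cMul x cT, cMul y cT, cMul (cMul x y) cT]).any fun i => i == 44 || i == 106) = true := by
  decide +kernel

/-- A power of a product with an element normalising a subgroup. -/
theorem mul_pow_mem {G : Type*} [Group G] {O : Subgroup G} {o p : G} (ho : o ∈ O)
    (hp : p ∈ normalizer (O : Set G)) (k : ℕ) : ∃ o' ∈ O, (o * p) ^ k = o' * p ^ k := by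
  induction k with
  | zero => exact ⟨1, one_mem _, by simp⟩
  | succ k ih =>
    obtain ⟨o', ho', e⟩ := ih
    refine ⟨o' * (p ^ k * o * (p ^ k)⁻¹), mul_mem ho' ((mem_normalizer_iff.1 (pow_mem hp k) o).1 ho), ?_⟩
    rw [pow_succ, e, pow_succ]; group

universe u

theorem conj_comm {G : Type*} [Group G] {d c : G} (g : G) (h : d * c = c * d) :
    g * d * g⁻¹ * (g * c * g⁻¹) = g * c * g⁻¹ * (g * d * g⁻¹) := by
  rw [show g * d * g⁻¹ * (g * c * g⁻¹) = g * (d * c) * g⁻¹ by group, h]; group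

theorem map_conj_facts {G : Type u} [Group G] [Finite G] {D : Subgroup G} {c : G} (hD : D ≤ centralizer ({c} : Set G)) (hodd : Odd (Nat.card D))
    (g : G) : D.map (MulAut.conj g).toMonoidHom ≤ centralizer ({g * c * g⁻¹} : Set G) ∧
      Odd (Nat.card (D.map (MulAut.conj g).toMonoidHom)) ∧
      (∀ x ∈ normalizer (D : Set G), g * x * g⁻¹ ∈ normalizer (D.map (MulAut.conj g).toMonoidHom : Set G)) ∧
      (D.map (MulAut.conj g).toMonoidHom ≤ th (g * c * g⁻¹) → D ≤ th c) := by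
  refine ⟨?_, ?_, fun x hx => ?_, fun h d hd => (th_conj_iff g c).1 (h ⟨d, hd, rfl⟩)⟩
  · rintro _ ⟨d, hd, rfl⟩
    exact mem_centralizer_singleton_iff.2 (conj_comm g (mem_centralizer_singleton_iff.1 (hD hd)))
  · rwa [card_map_of_injective (MulAut.conj g).injective]
  · refine mem_normalizer_fintype ?_
    rintro _ ⟨d, hd, rfl⟩
    exact ⟨x * d * x⁻¹, (mem_normalizer_iff.1 hx d).1 hd, by simp [mul_assoc]⟩

/-- The functor on an elementary subgroup with the balance. -/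
theorem setup_of {G : Type u} [Group G] [Finite G] (A : Subgroup G) (h8 : Nat.card A = 8) (hsq : ∀ a ∈ A, a * a = 1)
    (hb : ∀ c ∈ A, c ≠ 1 → ∀ D : Subgroup G, D ≤ centralizer ({c} : Set G) → Odd (Nat.card D) →
      A ≤ normalizer (D : Set G) → D ≤ th c) :
    haveI : Fact (Nat.Prime 2) := ⟨Nat.prime_two⟩
    Sig.SSFT.Setup 2 A (fun a => th a) := by
  haveI : Fact (Nat.Prime 2) := ⟨Nat.prime_two⟩
  have hc : ∀ a ∈ A, ∀ b ∈ A, a * b = b * a := fun a ha b hb' => by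
    have h := hsq _ (mul_mem ha hb')
    calc a * b = a * (a * b * (a * b)) * b := by rw [h, mul_one]
      _ = a * a * (b * a) * (b * b) := by group
      _ = b * a := by rw [hsq a ha, hsq b hb', one_mul, mul_one]
  have hAn : ∀ a ∈ A, A ≤ normalizer (th a : Set G) := fun a ha x hx =>
    cent_le_norm_th a (mem_centralizer_singleton_iff.2 (hc x hx a ha))
  refine ⟨⟨⟨⟨fun a b => Subtype.ext (hc a a.2 b b.2)⟩⟩, fun a ha => by rw [sq]; exact hsq a ha⟩,
    by rw [h8]; norm_num, ⟨fun a _ _ => th_le a, fun a _ _ => ?_,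
      fun a ha _ b hbA x hx => (mem_normalizer_iff.1 (hAn a ha hbA) x).1 hx,
      fun a ha _ b hbA hb1 => ?_⟩, fun a _ _ => Syl34.solvable_th a⟩
  · rw [← even_iff_two_dvd, Nat.not_even_iff_odd]; exact odd_th a
  · refine hb b hbA hb1 _ inf_le_right ((odd_th a).of_dvd_nat (card_dvd_of_le inf_le_left)) ?_
    intro x hx
    refine mem_normalizer_fintype fun d hd => ?_
    obtain ⟨hd1, hd2⟩ := Subgroup.mem_inf.1 hd
    refine Subgroup.mem_inf.2 ⟨(mem_normalizer_iff.1 (hAn a ha hx) d).1 hd1, mem_centralizer_singleton_iff.2 ?_⟩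
    have h : Commute x b := hc x hx b hbA
    exact ((h.mul_left (show Commute d b from mem_centralizer_singleton_iff.1 hd2)).mul_left h.inv_left).eq

namespace Frame

variable {G : Type u} [Group G] (F : Frame G)

/-- The classes of involutions: 44 and 3 with the central one, and not 55, 60, 76. -/
structure Good : Prop where
  hna : ¬ IsMulCommutative G
  h44 : F.T 44
  h3 : F.T 3
  h55 : ¬ F.T 55
  h60 : ¬ F.T 60
  h76 : ¬ F.T 76

/-- The elementary group of order eight. -/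
def eGrp : Subgroup G := F.sub inE inE_facts.1 inE_facts.2.1 inE_facts.2.2.1 inE_facts.2.2.2.1

/-- The four-group. -/
def vGrp : Subgroup G := F.sub inV inV_facts.1 inV_facts.2.1 inV_facts.2.2.1 inV_facts.2.2.2.1

/-- The elementary group with 61. -/
def fGrp : Subgroup G := F.sub inF inF_facts.1 inF_facts.2.1 inF_facts.2.2.1 inF_facts.2.2.2.1

/-- The subgroup generated by the signalizers. -/
def wGrp : Subgroup G := ⨆ a : {a : G // a ∈ F.eGrp ∧ a ≠ 1}, th (a : G)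

/-- Its normaliser. -/
def mGrp : Subgroup G := normalizer (F.wGrp : Set G)

theorem vGrp_le_eGrp : F.vGrp ≤ F.eGrp := by
  rintro _ ⟨i, hi, rfl⟩; exact ⟨i, inE_facts.2.2.2.2.2.2.2.2.1 i hi, rfl⟩

theorem vGrp_le_fGrp : F.vGrp ≤ F.fGrp := by
  rintro _ ⟨i, hi, rfl⟩; exact ⟨i, by simp [inF, hi], rfl⟩

theorem z_mem_vGrp : F.z ∈ F.vGrp := ⟨cT, by decide +kernel, rfl⟩

theorem f44_mem_vGrp : F.f 44 ∈ F.vGrp := ⟨44, by decide +kernel, rfl⟩

variable [Finite G]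

theorem card_eGrp : Nat.card F.eGrp = 8 :=
  (F.card_of_pred inE inE_facts.2.1 _ fun _ => Iff.rfl).trans inE_facts.2.2.2.2.1

theorem card_fGrp : Nat.card F.fGrp = 8 :=
  (F.card_of_pred inF inF_facts.2.1 _ fun _ => Iff.rfl).trans inF_facts.2.2.2.2.1

theorem card_vGrp : Nat.card F.vGrp = 4 :=
  (F.card_of_pred inV inV_facts.2.1 _ fun _ => Iff.rfl).trans inV_facts.2.2.2.2.1

theorem th_z_f {i : Fin 192} (hi : inSyl i = true) (h : F.f i ∈ th F.z) : i = 0 := by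
  haveI : Fact (Nat.Prime 2) := ⟨Nat.prime_two⟩
  refine F.inj _ _ hi inSyl_facts.1 (Eq.trans ?_ F.fone.symm)
  have h64 : orderOf (F.f i) ∣ 2 ^ 6 := by
    rw [show (2 : ℕ) ^ 6 = 64 by norm_num, ← F.card_P]
    exact Subgroup.orderOf_dvd_natCard _ (F.f_mem hi)
  exact orderOf_eq_one_iff.1 (Nat.Coprime.eq_one_of_dvd
    ((odd_of_mem_th h).coprime_two_right.pow_right 6) h64)

theorem f_mem_norm {i : Fin 192} (hi : inSyl i = true) : F.f i ∈ normalizer (th F.z : Set G) :=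
  cent_le_norm_th _ (F.P_le_centralizer (F.f_mem hi))

theorem odd_th_mul {x o : G} (hx : Odd (orderOf x)) (ho : o ∈ th F.z) {i : Fin 192} (hi : inSyl i = true)
    (e : x = o * F.f i) : x ∈ th F.z ∧ i = 0 := by
  obtain ⟨o', ho', he⟩ := mul_pow_mem ho (F.f_mem_norm hi) (orderOf x)
  rw [← e, pow_orderOf_eq_one] at he
  have hmem : F.f i ^ orderOf x ∈ th F.z := by
    rw [eq_inv_of_mul_eq_one_right he.symm]; exact inv_mem ho'
  have h64 : F.f i ^ 64 = 1 := by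
    rw [← F.card_P]
    exact congrArg Subtype.val (pow_card_eq_one' (x := (⟨_, F.f_mem hi⟩ : (F.P : Subgroup G))))
  obtain ⟨m, hm⟩ := exists_pow_eq_self_of_coprime (x := F.f i) (n := orderOf x)
    (Nat.Coprime.coprime_dvd_right (orderOf_dvd_of_pow_eq_one h64)
      (by rw [show (64 : ℕ) = 2 ^ 6 by norm_num]; exact hx.coprime_two_right.pow_right 6))
  have hf : F.f i ∈ th F.z := hm ▸ pow_mem hmem m
  exact ⟨e ▸ mul_mem ho hf, F.th_z_f hi hf⟩

variable [IsSimpleGroup G] (hG : F.Good)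
include hG

theorem le_th_z {D : Subgroup G} (hD : D ≤ centralizer ({F.z} : Set G)) (hodd : Odd (Nat.card D))
    {q : Fin 192} (hq : inQ q = true) (hq0 : q ≠ 0) (hqz : q ≠ cT)
    (hn : F.f q ∈ normalizer (D : Set G)) : D ≤ th F.z := by
  haveI : Fact (Nat.Prime 2) := ⟨Nat.prime_two⟩
  obtain ⟨hna, h44, h3, h55, h60, h76⟩ := hG
  obtain ⟨s1, s2⟩ := F.centralizer_structure hna h44 h3 h55 h60 h76
  have hqS := max_facts.1.2.1 q hq
  intro d hd
  have hdo : Odd (orderOf d) := hodd.of_dvd_nat (Subgroup.orderOf_dvd_natCard _ hd)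
  obtain ⟨o, ho, n, hn', rfl⟩ := s1 d (mem_centralizer_singleton_iff.1 (hD hd))
  obtain ⟨j, hj, ej⟩ := hn'.2 q hq
  have hjS := max_facts.1.2.1 j hj
  have he : o * n * (F.f q * (o * n)⁻¹ * (F.f q)⁻¹) ∈ D :=
    mul_mem hd ((mem_normalizer_iff.1 hn _).1 (inv_mem hd))
  have hconj := (mem_normalizer_iff.1 (F.f_mem_norm hjS) o⁻¹).1 (inv_mem ho)
  have hl := F.odd_th_mul (hodd.of_dvd_nat (Subgroup.orderOf_dvd_natCard _ he))
    (mul_mem ho hconj) (inS_mul hjS (inS_inv hqS)) (by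
      rw [F.fmul _ _ hjS (inS_inv hqS), F.finv hqS, ← ej]; group)
  have hfix : F.f j = F.f q := by
    have := congrArg F.f hl.2
    rw [F.fmul _ _ hjS (inS_inv hqS), F.finv hqS, F.fone] at this
    exact mul_inv_eq_one.1 this
  rw [hfix] at ej
  set a := ordProj[2] (orderOf n) with ha
  have hnodd : Odd (orderOf (n ^ a)) := by
    rw [orderOf_pow' _ (by rw [ha]; exact (Nat.ordProj_pos _ 2).ne'), Nat.gcd_eq_right (Nat.ordProj_dvd _ 2)]
    exact Nat.odd_iff.2 (Nat.two_dvd_ne_zero.1 (Nat.not_dvd_ordCompl Nat.prime_two (orderOf_pos n).ne'))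
  have hA : F.Acts (n ^ a) := F.acts_of_normalizer
    ((show Commute n F.z from hn'.1).pow_left a).eq (pow_mem (F.normalizer_of_acts hn') a)
  have hcq : Commute (n ^ a) (F.f q) :=
    (show Commute n (F.f q) from mul_inv_eq_iff_eq_mul.1 ej).pow_left a
  have hall := (F.act_odd h44 h3 h55 h60 h76 hA hnodd).2
    ⟨q, hq, hq0, hqz, Or.inl (mul_inv_eq_iff_eq_mul.2 hcq.eq)⟩
  obtain ⟨o', ho', i, hi, e'⟩ := s2 _ hA fun i hi => Or.inl (mul_inv_eq_iff_eq_mul.2 (hall i hi))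
  have hna' := (F.odd_th_mul hnodd ho' (max_facts.1.2.1 i hi) e').1
  obtain ⟨oa, hoa, ea⟩ := mul_pow_mem ho (cent_le_norm_th F.z (mem_centralizer_singleton_iff.2 hn'.1)) a
  refine mem_of_pow_two hdo (k := (orderOf n).factorization 2) ?_
  rw [ea]
  exact mul_mem hoa hna'

theorem exists_swap {w : Fin 192} (hw : w = 44 ∨ w = 106) :
    ∃ g : G, g * F.f w * g⁻¹ = F.z ∧ ∃ w', (w' = 44 ∨ w' = 106) ∧ g * F.z * g⁻¹ = F.f w' := by
  have hwS : inSyl w = true := by rcases hw with rfl | rfl <;> decide +kernel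
  have hTw : F.T w := by
    rcases hw with rfl | rfl
    · exact hG.h44
    · exact F.T_44_iff_106.1 hG.h44
  obtain ⟨g, hgw, hg⟩ := F.exists_to_z hwS hTw
  obtain ⟨w', hw', e⟩ := F.conj_z_of_comm hwS (by rcases hw with rfl | rfl <;> decide)
    (a := 3) (b := 55) (by decide +kernel) (by decide +kernel)
    (by rcases hw with rfl | rfl <;> decide +kernel) (by rcases hw with rfl | rfl <;> decide +kernel)
    f61_facts.2.2.2.2.2.2.1 hgw hg
  exact ⟨g, hgw, w', hw', e⟩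

theorem exists_three {i : Fin 192} (hi : inSyl i = true) (hc : sCl i = 3) :
    ∃ g : G, g * F.z = F.z * g ∧ ∃ w, (w = 44 ∨ w = 106) ∧ g * F.f i * g⁻¹ = F.f w := by
  obtain ⟨h, -, hh⟩ := List.any_eq_true.1 (sCl_wit i hi (by rw [hc]; decide))
  simp only [Bool.and_eq_true, beq_iff_eq, hc] at hh
  obtain ⟨g, hgz, w, hw, hgw, -⟩ := F.exists_fix hG.hna (v := 3) (Or.inl rfl) hG.h3
  refine ⟨g * (F.f h)⁻¹, ?_, w, hw, ?_⟩
  · exact ((show Commute g F.z from hgz).mul_left (show Commute (F.f h) F.z from F.comm_z hh.1).inv_left).eq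
  · rw [← hh.2, F.fconj hh.1 (by decide +kernel), ← hgw]; group

theorem le_th_w {w : Fin 192} (hw : w = 44 ∨ w = 106) {D : Subgroup G}
    (hD : D ≤ centralizer ({F.f w} : Set G)) (hodd : Odd (Nat.card D))
    (hn : F.z ∈ normalizer (D : Set G)) : D ≤ th (F.f w) := by
  obtain ⟨g, hgw, w', hw', hgz⟩ := F.exists_swap hG hw
  obtain ⟨h1, h2, h3, h4⟩ := map_conj_facts hD hodd g
  refine h4 ?_
  have hn' := h3 _ hn
  rw [hgz] at hn'
  rw [hgw] at h1 ⊢
  exact F.le_th_z hG h1 h2 (q := w') (by rcases hw' with rfl | rfl <;> decide +kernel)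
    (by rcases hw' with rfl | rfl <;> decide) (by rcases hw' with rfl | rfl <;> decide) hn'

theorem le_th_eGrp {c : G} (hc : c ∈ F.eGrp) (hc1 : c ≠ 1) {D : Subgroup G}
    (hD : D ≤ centralizer ({c} : Set G)) (hodd : Odd (Nat.card D))
    (hn : F.eGrp ≤ normalizer (D : Set G)) : D ≤ th c := by
  obtain ⟨i, hi, rfl⟩ := hc
  have hiS := inE_facts.2.1 i hi
  have hzn : F.z ∈ normalizer (D : Set G) := hn (F.vGrp_le_eGrp F.z_mem_vGrp)
  rcases (inE_facts.2.2.2.2.2.1 i hi).2.2 with h0 | ⟨-, hne, hcl⟩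
  · exact absurd (by rw [h0, F.fone]) hc1
  rcases hcl with hcl | hcl | hcl
  · obtain ⟨g, hgz, w, hw, hgi⟩ := F.exists_three hG hiS hcl
    obtain ⟨h1, h2, h3, h4⟩ := map_conj_facts hD hodd g
    refine h4 ?_
    have hn' := h3 _ hzn
    rw [mul_inv_eq_iff_eq_mul.2 hgz] at hn'
    rw [hgi] at h1 ⊢
    exact F.le_th_w hG hw h1 h2 hn'
  · exact F.le_th_w hG (sCl_eq.2.2.2.2 i hcl) hD hodd hzn
  · subst hcl
    exact F.le_th_z hG hD hodd (q := 44) gens_inQ'.2.2.2 (by decide) (by decide)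
      (hn (F.vGrp_le_eGrp F.f44_mem_vGrp))

theorem le_th_fGrp (h61 : F.T 61) {c : G} (hc : c ∈ F.fGrp) (hc1 : c ≠ 1) {D : Subgroup G}
    (hD : D ≤ centralizer ({c} : Set G)) (hodd : Odd (Nat.card D))
    (hn : F.fGrp ≤ normalizer (D : Set G)) : D ≤ th c := by
  obtain ⟨i, hi, rfl⟩ := hc
  have hiS := inF_facts.2.1 i hi
  have hzn : F.z ∈ normalizer (D : Set G) := hn (F.vGrp_le_fGrp F.z_mem_vGrp)
  have hi0 : i ≠ 0 := fun h0 => hc1 (by rw [h0, F.fone])
  rcases (inF_facts.2.2.2.2.2.2.1 i hi).resolve_left hi0 with hv | hcl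
  · simp only [inV, Bool.or_eq_true, beq_iff_eq] at hv
    rcases hv with ((h0 | hz) | h4) | h6
    · exact absurd h0 hi0
    · subst hz
      exact F.le_th_z hG hD hodd (q := 44) gens_inQ'.2.2.2 (by decide) (by decide)
        (hn (F.vGrp_le_fGrp F.f44_mem_vGrp))
    · exact F.le_th_w hG (Or.inl h4) hD hodd hzn
    · exact F.le_th_w hG (Or.inr h6) hD hodd hzn
  · obtain ⟨g, hgc, w, hw, e, he, hge⟩ := exists_w h61 hi hcl
    obtain ⟨h1, h2, h3, h4⟩ := map_conj_facts hD hodd g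
    refine h4 ?_
    have hn' := h3 _ (hn he)
    rw [hge] at hn'
    rw [hgc] at h1 ⊢
    exact F.le_th_z hG h1 h2 (q := w) (by rcases hw with rfl | rfl <;> decide +kernel)
      (by rcases hw with rfl | rfl <;> decide) (by rcases hw with rfl | rfl <;> decide) hn'
where
  exists_w (h61 : F.T 61) {i : Fin 192} (hi : inF i = true) (hcl : sCl i = 61) :
      ∃ g : G, g * F.f i * g⁻¹ = F.z ∧ ∃ w, (w = 44 ∨ w = 106) ∧
        ∃ e ∈ F.fGrp, g * e * g⁻¹ = F.f w := by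
    obtain ⟨h0, hS, hm, -, -, hsq, hcls, hcm, -⟩ := inF_facts
    have hiS := hS i hi
    obtain ⟨g, hgi, hg⟩ := F.exists_to_z hiS ((F.T_sCl hiS (by rw [hcl]; decide)).2 (by rw [hcl]; exact h61))
    have hTF : ∀ j, inF j = true → j ≠ 0 → F.T j := by
      intro j hj hj0
      rcases (hcls j hj).resolve_left hj0 with hv | h
      · simp only [inV, Bool.or_eq_true, beq_iff_eq] at hv
        rcases hv with ((h0 | rfl) | rfl) | rfl
        exacts [absurd h0 hj0, F.T_z, hG.h44, F.T_44_iff_106.1 hG.h44]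
      · exact (F.T_sCl (hS j hj) (by rw [h]; decide)).2 (by rw [h]; exact h61)
    -- the images of the members
    have himg : ∀ j, inF j = true → j ≠ 0 →
        ∃ k, inSyl k = true ∧ inT k = true ∧ g * F.f j * g⁻¹ = F.f k := by
      intro j hj hj0
      obtain ⟨k, hk, ek⟩ := hg j (hS j hj) (hcm i j hi hj)
      refine ⟨k, hk, ?_, ek⟩
      have ho : orderOf (F.f k) = 2 := by
        rw [← ek, Invol.orderOf_conj_eq]
        exact orderOf_eq_prime (by rw [sq]; exact (F.sq_eq (hS j hj)).2 (hsq j hj)) (F.ne_one (hS j hj) hj0)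
      obtain ⟨k', hk', ek', hkc⟩ := F.exists_idx (F.f_mem hk) ho
      rw [F.inj _ _ hk' hk ek'] at hkc
      have hT := (F.T_of_conj ek).1 (hTF j hj hj0)
      have hT' := (F.T_sCl hk hkc).1 hT
      simp only [inT, Bool.or_eq_true, beq_iff_eq]
      rcases (sCl_facts k hk).2 hkc with e | e | e | e | e | e | e
      · exact Or.inl (Or.inl (Or.inl e))
      · exact Or.inl (Or.inl (Or.inr e))
      · exact Or.inl (Or.inr e)
      · exact absurd (e ▸ hT') hG.h55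
      · exact absurd (e ▸ hT') hG.h60
      · exact Or.inr e
      · exact absurd (e ▸ hT') hG.h76
    -- two members generating with `i`
    obtain ⟨b, hb, hb0, hbi, hbv⟩ : ∃ b, inF b = true ∧ b ≠ 0 ∧ b ≠ i ∧ b = 44 :=
      ⟨44, by decide +kernel, by decide, fun e => by rw [← e] at hcl; exact absurd hcl (by decide +kernel), rfl⟩
    obtain ⟨c, hc, hc0, hci, hcv⟩ : ∃ c, inF c = true ∧ c ≠ 0 ∧ c ≠ i ∧ c = cT :=
      ⟨cT, by decide +kernel, by decide, fun e => by rw [← e] at hcl; exact absurd hcl (by decide +kernel), rfl⟩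
    obtain ⟨x, hx, hxT, ex⟩ := himg b hb hb0
    obtain ⟨y, hy, hyT, ey⟩ := himg c hc hc0
    have hprod : ∀ {s t k l : Fin 192}, inF s = true → inF t = true → inSyl k = true → inSyl l = true →
        g * F.f s * g⁻¹ = F.f k → g * F.f t * g⁻¹ = F.f l → g * F.f (cMul s t) * g⁻¹ = F.f (cMul k l) := by
      intro s t k l hs ht hk hl e1 e2
      rw [F.fmul _ _ (hS s hs) (hS t ht), F.fmul _ _ hk hl, ← e1, ← e2]; group
    have hTk : ∀ {s k : Fin 192}, inF s = true → s ≠ 0 → inSyl k = true → g * F.f s * g⁻¹ = F.f k →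
        inT k = true := by
      intro s k hs hs0 hk e
      obtain ⟨k', hk', hT, e'⟩ := himg s hs hs0
      rwa [F.inj _ _ hk hk' (e.symm.trans e')]
    have hne : ∀ {s t k l : Fin 192}, inF s = true → inF t = true → g * F.f s * g⁻¹ = F.f k →
        g * F.f t * g⁻¹ = F.f l → s ≠ t → k ≠ l := by
      intro s t k l hs ht e1 e2 hst e
      subst e
      exact hst (F.inj _ _ (hS s hs) (hS t ht) (mul_left_cancel (mul_right_cancel (e1.trans e2.symm))))
    have exy := hprod hb hc hx hy ex ey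
    have exi := hprod hb hi hx inS_cT ex hgi
    have eyi := hprod hc hi hy inS_cT ey hgi
    have exyi := hprod (hm _ _ hb hc) hi (inS_mul hx hy) inS_cT exy hgi
    have hd : ∀ i : Fin 192, inF i = true → sCl i = 61 →
        cMul 44 cT ≠ 0 ∧ cMul 44 i ≠ 0 ∧ cMul cT i ≠ 0 ∧ cMul (cMul 44 cT) i ≠ 0 ∧ cT ≠ cMul 44 i := by
      decide +kernel
    obtain ⟨d1, d2, d3, d4, d5⟩ := hd i hi hcl
    subst hbv hcv
    have hcert := pure_cert x hx hxT y hy hyT
      (F.cm_of_comm hx hy (by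
        rw [← ex, ← ey]; exact conj_comm g (F.comm_of_cm (hS _ hb) (hS _ hc) (hcm _ _ hb hc))))
      (hne hb hi ex hgi hbi) (hne hc hi ey hgi hci) (hne hc hb ey ex (by decide))
      (hne hc (hm _ _ hb hi) ey exi d5)
      (hTk (hm _ _ hb hc) d1 (inS_mul hx hy) exy)
      (hTk (hm _ _ (hm _ _ hb hc) hi) d4 (inS_mul (inS_mul hx hy) inS_cT) exyi)
      (hTk (hm _ _ hb hi) d2 (inS_mul hx inS_cT) exi)
      (hTk (hm _ _ hc hi) d3 (inS_mul hy inS_cT) eyi)
    obtain ⟨k, hk, hkw⟩ := List.any_eq_true.1 hcert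
    simp only [Bool.or_eq_true, beq_iff_eq] at hkw
    refine ⟨g, hgi, k, hkw, ?_⟩
    simp only [List.mem_cons, List.mem_nil_iff, or_false] at hk
    rcases hk with rfl | rfl | rfl | rfl | rfl | rfl
    exacts [⟨_, ⟨_, hb, rfl⟩, ex⟩, ⟨_, ⟨_, hc, rfl⟩, ey⟩, ⟨_, ⟨_, hm _ _ hb hc, rfl⟩, exy⟩,
      ⟨_, ⟨_, hm _ _ hb hi, rfl⟩, exi⟩, ⟨_, ⟨_, hm _ _ hc hi, rfl⟩, eyi⟩,
      ⟨_, ⟨_, hm _ _ (hm _ _ hb hc) hi, rfl⟩, exyi⟩]

theorem eGrp_setup : haveI : Fact (Nat.Prime 2) := ⟨Nat.prime_two⟩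
    Sig.SSFT.Setup 2 F.eGrp (fun a => th a) :=
  setup_of F.eGrp F.card_eGrp (by
    rintro _ ⟨i, hi, rfl⟩
    exact (F.sq_eq (inE_facts.2.1 i hi)).2 (inE_facts.2.2.2.2.2.1 i hi).1)
    fun _ hc h1 _ => F.le_th_eGrp hG hc h1

theorem wGrp_facts : Odd (Nat.card F.wGrp) ∧ th F.z ≤ F.wGrp ∧
    F.wGrp ⊓ centralizer ({F.z} : Set G) = th F.z ∧
    F.wGrp = ⨆ a : {a : G // a ∈ F.vGrp ∧ a ≠ 1}, th (a : G) := by
  haveI : Fact (Nat.Prime 2) := ⟨Nat.prime_two⟩
  have hS := F.eGrp_setup hG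
  have hzE : F.z ∈ F.eGrp := F.vGrp_le_eGrp F.z_mem_vGrp
  refine ⟨?_, le_iSup_of_le ⟨F.z, hzE, F.z_ne_one⟩ le_rfl, hS.closure_inf_centralizer hzE F.z_ne_one,
    (hS.closure_eq F.vGrp_le_eGrp (by rw [F.card_vGrp]; norm_num)).symm⟩
  rw [← Nat.not_even_iff_odd, even_iff_two_dvd]
  exact hS.closure_mem.2.1

theorem mem_mGrp {g : G} (h : ∀ v ∈ F.vGrp, v ≠ 1 → th (g * v * g⁻¹) ≤ F.wGrp) : g ∈ F.mGrp := by
  refine mem_normalizer_fintype fun x hx => ?_
  have hle : F.wGrp.map (MulAut.conj g).toMonoidHom ≤ F.wGrp := by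
    conv_lhs => rw [(F.wGrp_facts hG).2.2.2]
    rw [Subgroup.map_iSup]
    refine iSup_le fun a => ?_
    rintro _ ⟨c, hc, rfl⟩
    exact h a a.2.1 a.2.2 (th_conj g a hc)
  exact hle ⟨x, hx, rfl⟩

theorem mem_mGrp_of_map {g : G} (h : ∀ v ∈ F.vGrp, g * v * g⁻¹ ∈ F.eGrp) : g ∈ F.mGrp :=
  F.mem_mGrp hG fun v hv h1 => le_iSup_of_le ⟨_, h v hv, fun e => h1 (conj_eq_one_iff.1 e)⟩ le_rfl

theorem centralizer_le : centralizer ({F.z} : Set G) ≤ F.mGrp := by
  intro g hg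
  obtain ⟨s1, -⟩ := F.centralizer_structure hG.hna hG.h44 hG.h3 hG.h55 hG.h60 hG.h76
  obtain ⟨o, ho, n, hn, rfl⟩ := s1 g (mem_centralizer_singleton_iff.1 hg)
  refine mul_mem (le_normalizer ((F.wGrp_facts hG).2.1 ho)) (F.mem_mGrp_of_map hG ?_)
  rintro _ ⟨i, hi, rfl⟩
  have hiE := inE_facts.2.2.2.2.2.2.2.2.1 i hi
  obtain ⟨hi2, hiQ, hi'⟩ := inE_facts.2.2.2.2.2.1 i hiE
  obtain ⟨j, hj, e⟩ := hn.2 i hiQ
  rw [e]
  refine ⟨j, ?_, rfl⟩
  rcases hi' with h0 | ⟨hiA, -, -⟩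
  · rw [h0, F.fone, mul_one, mul_inv_cancel] at e
    rw [F.inj _ _ (max_facts.1.2.1 j hj) inSyl_facts.1 (e.symm.trans F.fone.symm)]
    exact inE_facts.1
  · obtain ⟨hic, hT⟩ := (F.inA_iff_T hG.h44 hG.h3 hG.h55 hG.h60 hG.h76 hiQ).1 hiA
    have ho' : orderOf (F.f j) = 2 := by
      rw [← e, Invol.orderOf_conj_eq, F.orderOf_f (max_facts.1.2.1 i hiQ) hic]
    obtain ⟨j', hj', hje, hjc⟩ := F.exists_idx (F.f_mem (max_facts.1.2.1 j hj)) ho'
    rw [F.inj _ _ hj' (max_facts.1.2.1 j hj) hje] at hjc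
    exact inE_facts.2.2.2.2.2.2.2.2.2 j hj
      ((F.inA_iff_T hG.h44 hG.h3 hG.h55 hG.h60 hG.h76 hj).2 ⟨hjc, (F.T_of_conj e).1 hT⟩)

theorem P_le : (F.P : Subgroup G) ≤ F.mGrp := F.P_le_centralizer.trans (F.centralizer_le hG)

theorem swap_mem {g : G} {w : Fin 192} (hw : w = 44 ∨ w = 106) (hgw : g * F.f w * g⁻¹ = F.z)
    {w' : Fin 192} (hw' : w' = 44 ∨ w' = 106) (hgz : g * F.z * g⁻¹ = F.f w') : g ∈ F.mGrp := by
  refine F.mem_mGrp_of_map hG ?_
  have hwE : F.f w' ∈ F.eGrp := ⟨w', by rcases hw' with rfl | rfl <;> decide +kernel, rfl⟩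
  have hzE : F.z ∈ F.eGrp := F.vGrp_le_eGrp F.z_mem_vGrp
  have hw1 : g * F.f w * g⁻¹ ∈ F.eGrp := hgw ▸ hzE
  have hz1 : g * F.z * g⁻¹ ∈ F.eGrp := hgz ▸ hwE
  have hoth : ∀ u, u = cMul w cT → g * F.f u * g⁻¹ ∈ F.eGrp := fun u hu => by
    rw [hu, F.fmul _ _ (by rcases hw with rfl | rfl <;> decide +kernel) inS_cT,
      show g * (F.f w * F.f cT) * g⁻¹ = g * F.f w * g⁻¹ * (g * F.z * g⁻¹) by
        show _ = g * F.f w * g⁻¹ * (g * F.f cT * g⁻¹); group]
    exact mul_mem hw1 hz1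
  rintro _ ⟨i, hi, rfl⟩
  simp only [inV, Bool.or_eq_true, beq_iff_eq] at hi
  rcases hi with ((rfl | rfl) | rfl) | rfl
  · rw [F.fone, mul_one, mul_inv_cancel]; exact one_mem _
  · exact hz1
  · rcases hw with rfl | rfl
    · exact hw1
    · exact hoth _ inV_facts.2.2.2.2.2.2.2.symm
  · rcases hw with rfl | rfl
    · exact hoth _ inV_facts.2.2.2.2.2.2.1.symm
    · exact hw1

/-- The class of `z` in the Sylow subgroup is fused in the normaliser. -/
theorem exists_to_z_mem {i : Fin 192} (hi : inSyl i = true) (hc : sCl i ≠ 0) (hT : F.T i) :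
    ∃ g ∈ F.mGrp, g * F.f i * g⁻¹ = F.z := by
  haveI : Fact (Nat.Prime 2) := ⟨Nat.prime_two⟩
  have h44' : ∀ w, (w = (44 : Fin 192) ∨ w = 106) → ∃ g ∈ F.mGrp, g * F.f w * g⁻¹ = F.z := by
    intro w hw
    obtain ⟨g, hgw, w', hw', hgz⟩ := F.exists_swap hG hw
    exact ⟨g, F.swap_mem hG hw hgw hw' hgz, hgw⟩
  have hT' := (F.T_sCl hi hc).1 hT
  rcases (sCl_facts i hi).2 hc with e | e | e | e | e | e | e
  · obtain ⟨g, hgz, w, hw, hgi⟩ := F.exists_three hG hi e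
    obtain ⟨k, hk, hkw⟩ := h44' w hw
    refine ⟨k * g, mul_mem hk (F.centralizer_le hG (mem_centralizer_singleton_iff.2 hgz)), ?_⟩
    rw [← hkw, ← hgi]; group
  · exact ⟨1, one_mem _, by rw [sCl_eq.2.2.2.1 i e]; simp [Frame.z]⟩
  · exact h44' i (sCl_eq.2.2.2.2 i e)
  · exact absurd (e ▸ hT') hG.h55
  · exact absurd (e ▸ hT') hG.h60
  · rw [e] at hT'
    obtain ⟨h, -, hh⟩ := List.any_eq_true.1 (sCl_wit i hi hc)
    simp only [Bool.and_eq_true, beq_iff_eq, e] at hh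
    obtain ⟨g, hgi, w, hw, x, hx, hgx⟩ :=
      le_th_fGrp.exists_w F hG hT' (i := 61) inF_facts.2.2.2.2.2.2.2.2 sCl_Four.2.2.2.2.1
    have hS : Sig.SSFT.Setup 2 F.fGrp (fun a => th a) := setup_of F.fGrp F.card_fGrp (by
      rintro _ ⟨i, hi, rfl⟩
      exact (F.sq_eq (inF_facts.2.1 i hi)).2 (inF_facts.2.2.2.2.2.1 i hi))
      fun _ hc h1 _ => F.le_th_fGrp hG hT' hc h1
    have hWF : ∀ y ∈ F.fGrp, y ≠ 1 → th y ≤ F.wGrp := fun y hy h1 => by
      rw [(F.wGrp_facts hG).2.2.2, hS.closure_eq F.vGrp_le_fGrp (by rw [F.card_vGrp]; norm_num)]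
      exact le_iSup_of_le ⟨y, hy, h1⟩ le_rfl
    have hgM : g⁻¹ ∈ F.mGrp := by
      refine F.mem_mGrp hG fun v hv h1 => hWF _ ?_ fun e => h1 (conj_eq_one_iff.1 e)
      have hz' : g⁻¹ * F.z * g⁻¹⁻¹ ∈ F.fGrp := by
        rw [← hgi, show g⁻¹ * (g * F.f 61 * g⁻¹) * g⁻¹⁻¹ = F.f 61 by group]
        exact ⟨61, inF_facts.2.2.2.2.2.2.2.2, rfl⟩
      have hw' : g⁻¹ * F.f w * g⁻¹⁻¹ ∈ F.fGrp := by
        rw [← hgx, show g⁻¹ * (g * x * g⁻¹) * g⁻¹⁻¹ = x by group]; exact hx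
      have hprod : g⁻¹ * F.f (cMul w cT) * g⁻¹⁻¹ ∈ F.fGrp := by
        rw [F.fmul _ _ (by rcases hw with rfl | rfl <;> decide +kernel) inS_cT,
          show g⁻¹ * (F.f w * F.f cT) * g⁻¹⁻¹ = g⁻¹ * F.f w * g⁻¹⁻¹ * (g⁻¹ * F.z * g⁻¹⁻¹) by
            show _ = g⁻¹ * F.f w * g⁻¹⁻¹ * (g⁻¹ * F.f cT * g⁻¹⁻¹); group]
        exact mul_mem hw' hz'
      obtain ⟨k, hk, rfl⟩ := hv
      simp only [inV, Bool.or_eq_true, beq_iff_eq] at hk
      rcases hk with ((rfl | rfl) | rfl) | rfl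
      · exact absurd F.fone h1
      · exact hz'
      · rcases hw with rfl | rfl
        · exact hw'
        · rwa [inV_facts.2.2.2.2.2.2.2] at hprod
      · rcases hw with rfl | rfl
        · rwa [inV_facts.2.2.2.2.2.2.1] at hprod
        · exact hw'
    refine ⟨g * (F.f h)⁻¹, mul_mem (by simpa using inv_mem hgM)
      (inv_mem (F.P_le hG (F.f_mem hh.1))), ?_⟩
    rw [← hh.2, F.fconj hh.1 (by decide +kernel), ← hgi]; group
  · exact absurd (e ▸ hT') hG.h76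

theorem exists_to_z_of_mem {v : G} (hv : v ∈ F.mGrp) (hT : IsConj F.z v) :
    ∃ g ∈ F.mGrp, g * v * g⁻¹ = F.z := by
  haveI : Fact (Nat.Prime 2) := ⟨Nat.prime_two⟩
  have hv2 : orderOf v = 2 := by
    obtain ⟨c, hc⟩ := isConj_iff.1 hT
    rw [← hc, Invol.orderOf_conj_eq, F.orderOf_z]
  obtain ⟨k, hk, hkP⟩ := exists_conj_into F.mGrp (zpowers v) F.P
    (IsPGroup.of_card (p := 2) (n := 1) (by rw [Nat.card_zpowers, hv2]; rfl))
    (zpowers_le.2 hv) F.P.isPGroup' (F.P_le hG) (fun R' h1 h2 _ => F.le_P h1 h2)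
  obtain ⟨i, hi, hie, hic⟩ := F.exists_idx (hkP v (mem_zpowers v)) (by rw [Invol.orderOf_conj_eq, hv2])
  have hTi : F.T i := hT.trans (isConj_iff.2 ⟨k, hie.symm⟩)
  obtain ⟨g, hg, e⟩ := F.exists_to_z_mem hG hi hic hTi
  exact ⟨g * k, mul_mem hg hk, by rw [← e, hie]; group⟩

/-- The fusion of the class of `z` is controlled. -/
theorem mem_of_conj {v g : G} (hv : v ∈ F.mGrp) (hT : IsConj F.z v) (hgv : g * v * g⁻¹ ∈ F.mGrp) :
    g ∈ F.mGrp := by
  obtain ⟨m, hm, em⟩ := F.exists_to_z_of_mem hG hv hT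
  obtain ⟨m', hm', em'⟩ := F.exists_to_z_of_mem hG hgv (hT.trans (isConj_iff.2 ⟨g, rfl⟩))
  have hc : m' * g * m⁻¹ ∈ F.mGrp := F.centralizer_le hG (mem_centralizer_singleton_iff.2
    (mul_inv_eq_iff_eq_mul.1 (by
      calc m' * g * m⁻¹ * F.z * (m' * g * m⁻¹)⁻¹ = m' * g * m⁻¹ * (m * v * m⁻¹) * (m' * g * m⁻¹)⁻¹ := by
            rw [em]
        _ = m' * (g * v * g⁻¹) * m'⁻¹ := by group
        _ = F.z := em')))
  rw [show g = m'⁻¹ * (m' * g * m⁻¹) * m by group]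
  exact mul_mem (mul_mem (inv_mem hm') hc) hm

theorem cent_of_T {v : G} (hv : v ∈ F.mGrp) (hT : IsConj F.z v) :
    centralizer ({v} : Set G) ≤ F.mGrp := fun g hg => F.mem_of_conj hG hv hT (by
  rwa [mul_inv_eq_iff_eq_mul.2 (mem_centralizer_singleton_iff.1 hg)])

theorem th_le_of_T {v : G} (hv : v ∈ F.mGrp) (hT : IsConj F.z v) :
    th v ≤ F.wGrp ∧ F.wGrp ⊓ centralizer ({v} : Set G) ≤ th v := by
  obtain ⟨g, hg, e⟩ := F.exists_to_z_of_mem hG hv hT
  obtain ⟨-, h1, h2, -⟩ := F.wGrp_facts hG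
  refine ⟨fun c hc => ?_, fun c hc => ?_⟩
  · have := h1 (e ▸ th_conj g v hc)
    exact (mem_normalizer_iff.1 hg c).2 this
  · obtain ⟨hcW, hcv⟩ := Subgroup.mem_inf.1 hc
    refine (th_conj_iff g v).1 ?_
    rw [e]
    refine h2 ▸ Subgroup.mem_inf.2 ⟨(mem_normalizer_iff.1 hg c).1 hcW, mem_centralizer_singleton_iff.2 ?_⟩
    rw [← e]
    exact conj_comm g (mem_centralizer_singleton_iff.1 hcv)

theorem mGrp_ne_top (hO : centralizerPPrimeCore 2 F.z ≠ ⊥) : F.mGrp ≠ ⊤ := fun h => by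
  obtain ⟨hodd, hle, -, -⟩ := F.wGrp_facts hG
  haveI : F.wGrp.Normal := normalizer_eq_top_iff.1 h
  rcases IsSimpleGroup.eq_bot_or_eq_top_of_normal F.wGrp inferInstance with h' | h'
  · exact hO (le_bot_iff.1 (h' ▸ hle))
  · rw [h', card_top] at hodd
    exact Nat.not_even_iff_odd.2 hodd (even_iff_two_dvd.2 (F.orderOf_z ▸ orderOf_dvd_natCard F.z))

end Frame

end Cfsg.Lib.MTwelveLocal
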