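import Cfsg.Agent.Lib.MTwelveLocal.Frame
import Cfsg.Agent.Lib.ZStar.Main

/-!
The involutions of the Sylow subgroup conjugate to the central one, when not all involutions are conjugate:
up to an automorphism they are the classes of 14, 44, 3, possibly with that of 61.
-/

set_option autoImplicit false
set_option linter.style.haveILetI false
set_option linter.unusedSectionVars false
set_option maxRecDepth 100000

namespace Cfsg.Lib.MTwelveLocal

open Cfsg Cfsg.Lib.MTwelveRecog Subgroup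

/-- An involution of the index set of the maximal subgroup centralising 44. -/
def inI0 (i : Fin 192) : Bool := inM0 i && (sCl i != 0)

theorem inM0_facts : inM0 0 = true ∧ (∀ i, inM0 i = true → inSyl i = true) ∧
    (∀ i j, inM0 i = true → inM0 j = true → inM0 (cMul i j) = true) ∧
    (∀ i, inM0 i = true → inM0 (cInv i) = true) ∧
    ((List.finRange 192).filter inM0).length = 32 ∧
    (∀ i, inM0 i = true ↔ (inSyl i = true ∧ sCm 44 i = true)) ∧
    (∀ i, inM0 i = true ↔ (inSyl i = true ∧ sCm 106 i = true)) := by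
  decide +kernel

theorem pair_61 : ∀ a : Fin 192, inSyl a = true → sCl a = 61 → ∀ c : Fin 192, inSyl c = true →
    sCl c = 61 → sCm a c = true → sCl (cMul a c) ≠ 61 := by
  decide +kernel

theorem img_3 : ∀ a : Fin 192, (a = 44 ∨ a = 106) → ∀ b : Fin 192, inI0 b = true → ∀ c : Fin 192,
    inI0 c = true → sComm b c = cT → sCm a b = true → sCm a c = true →
    sCl (cMul a cT) = 44 ∧ sCl (cMul c a) = sCl c ∧
      ((sCl b = 3 ∧ sCl c = 55) ∨ (sCl b = 55 ∧ sCl c = 3) ∨ (sCl b = 61 ∧ sCl c = 61)) ∧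
      sCl (cMul b a) = sCl b := by
  decide +kernel

theorem src_facts : (sComm 44 166 = cT ∧ sCl 44 = 44 ∧ sCl 166 = 60 ∧ sCl (cMul 44 3) = 3 ∧
      sCl (cMul 166 3) = 76 ∧ sCm 3 44 = true ∧ sCm 3 166 = true) ∧
    (sComm 44 76 = cT ∧ sCl 76 = 76 ∧ sCl (cMul 44 55) = 55 ∧
      sCl (cMul 76 55) = 60 ∧ sCm 55 44 = true ∧ sCm 55 76 = true) ∧
    (sComm 50 65 = cT ∧ sCl 50 = 3 ∧ sCl 65 = 55 ∧ sCl (cMul 50 60) = 76 ∧
      sCl (cMul 65 60) = 76 ∧ sCm 60 50 = true ∧ sCm 60 65 = true) ∧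
    (sComm 50 55 = cT ∧ sCl 55 = 55 ∧ sCl (cMul 50 76) = 60 ∧
      sCl (cMul 55 76) = 60 ∧ sCm 76 50 = true ∧ sCm 76 55 = true) := by
  decide +kernel

theorem f61_facts : sCm 61 cT = true ∧ sCm 61 44 = true ∧ sCl (cMul 44 61) = 61 ∧
    sCl (cMul cT (cMul 44 61)) = 61 ∧ sCm 61 (cMul 44 61) = true ∧ sCm cT (cMul 44 61) = true ∧
    sComm 3 55 = cT ∧ inM0 3 = true ∧ inM0 55 = true ∧ inM0 106 = true ∧ inM0 44 = true := by
  decide +kernel

theorem centre_facts : ∀ i : Fin 192, inSyl i = true →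
    (∀ j : Fin 192, inSyl j = true → cMul i j = cMul j i) → i = 0 ∨ i = cT :=
  inSyl_facts.2.2.2.2.2

universe u

namespace Frame

variable {G : Type u} [Group G] [Finite G] (F : Frame G)

theorem isolated_of_unique (h : ∀ i, inSyl i = true → sCl i ≠ 0 → F.T i → i = cT) :
    IsIsolatedInvolution F.z := by
  refine ⟨F.orderOf_z, fun g hg => ?_⟩
  have h2 : orderOf (g * F.z * g⁻¹) = 2 := by
    rw [show g * F.z * g⁻¹ = MulAut.conj g F.z from rfl, MulEquiv.orderOf_eq, F.orderOf_z]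
  obtain ⟨k, hk, hkQ⟩ := exists_conj_into (centralizer ({F.z} : Set G)) (zpowers (g * F.z * g⁻¹)) F.P
    (IsPGroup.of_card (p := 2) (n := 1) (by rw [Nat.card_zpowers, h2]; rfl))
    (zpowers_le.2 (mem_centralizer_singleton_iff.2 hg.eq.symm)) F.P.isPGroup' F.P_le_centralizer
    (fun R' h1 h2 _ => F.le_P h1 h2)
  have hmem := hkQ _ (mem_zpowers _)
  obtain ⟨i, hi, hie, hic⟩ := F.exists_idx hmem (by
    rw [show k * (g * F.z * g⁻¹) * k⁻¹ = MulAut.conj k (g * F.z * g⁻¹) from rfl, MulEquiv.orderOf_eq, h2])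
  have hT : F.T i := isConj_iff.2 ⟨k * g, by rw [hie]; group⟩
  rw [h i hi hic hT] at hie
  have hkz : k⁻¹ * F.z * k = F.z := by
    rw [mul_assoc, ← mem_centralizer_singleton_iff.1 hk, inv_mul_cancel_left]
  calc g * F.z * g⁻¹ = k⁻¹ * (k * (g * F.z * g⁻¹) * k⁻¹) * k := by group
    _ = k⁻¹ * F.z * k := by rw [← hie]; rfl
    _ = F.z := hkz

variable [IsSimpleGroup G] (hna : ¬ IsMulCommutative G)
include hna

theorem exists_T_ne : ∃ i, inSyl i = true ∧ sCl i ≠ 0 ∧ F.T i ∧ i ≠ cT := by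
  by_contra hc
  push Not at hc
  have hiso := F.isolated_of_unique fun i h1 h2 h3 => hc i h1 h2 h3
  have hO : oddCore G = ⊥ := by
    refine (IsSimpleGroup.eq_bot_or_eq_top_of_normal _ inferInstance).resolve_right fun h => ?_
    have hcop := Cfsg.Lib.Core.pPrimeCore_coprime 2 G
    change (Nat.card (oddCore G)).Coprime 2 at hcop
    rw [h, card_top] at hcop
    have : 2 ∣ Nat.card G := F.orderOf_z ▸ orderOf_dvd_natCard F.z
    exact Nat.prime_two.one_lt.ne' (Nat.eq_one_of_dvd_coprimes hcop this dvd_rfl)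
  have hzc := Cfsg.Lib.ZStar.mem_center_of_isolated hO hiso
  rcases IsSimpleGroup.eq_bot_or_eq_top_of_normal (center G) inferInstance with h | h
  · rw [h] at hzc
    exact F.z_ne_one hzc
  · exact hna ⟨⟨fun a b => (mem_center_iff.1 (h ▸ mem_top b) a)⟩⟩

omit hna

/-- A commutator of the centraliser in the Sylow subgroup goes to the class of 44. -/
theorem conj_z_of_comm {v a b : Fin 192} (hv : inSyl v = true) (hvz : v ≠ cT)
    (ha : inSyl a = true) (hb : inSyl b = true) (hva : sCm v a = true) (hvb : sCm v b = true)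
    (hab : sComm a b = cT) {g : G} (hgv : g * F.f v * g⁻¹ = F.z)
    (hg : ∀ i, inSyl i = true → sCm v i = true → ∃ j, inSyl j = true ∧ g * F.f i * g⁻¹ = F.f j) :
    ∃ w, (w = 44 ∨ w = 106) ∧ g * F.z * g⁻¹ = F.f w := by
  obtain ⟨a', ha', hae⟩ := hg a ha hva
  obtain ⟨b', hb', hbe⟩ := hg b hb hvb
  have he : g * F.z * g⁻¹ = F.f (sComm a' b') := by
    rw [F.fcomm ha' hb', ← hae, ← hbe, show F.z = F.f (sComm a b) from by rw [hab]; rfl, F.fcomm ha hb]
    group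
  have hcS := inS_comm ha' hb'
  have h2 : cMul (sComm a' b') (sComm a' b') = 0 := by
    rw [← F.sq_eq hcS, ← he]
    calc g * F.z * g⁻¹ * (g * F.z * g⁻¹) = g * (F.z * F.z) * g⁻¹ := by group
      _ = 1 := by rw [F.z_sq]; group
  rcases comm_invol a' b' ha' hb' h2 with e | e | e | e
  · exfalso
    rw [e, F.fone] at he
    exact F.z_ne_one (conj_eq_one_iff.1 he)
  · exfalso
    rw [e] at he
    refine hvz (F.inj _ _ hv inS_cT ?_)
    have h3 : g * F.f v * g⁻¹ = g * F.z * g⁻¹ := hgv.trans he.symm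
    exact mul_left_cancel (mul_right_cancel h3)
  · exact ⟨_, Or.inl rfl, by rw [he, e]⟩
  · exact ⟨_, Or.inr rfl, by rw [he, e]⟩

theorem T_44_iff_106 : F.T 44 ↔ F.T 106 := by
  have h := F.T_sCl (i := 106) (by decide +kernel) (by decide +kernel)
  rw [sCl_eq.2.2.1] at h
  exact h.symm

/-- The four classes outside the centre and that of 44 in the extraspecial subgroup. -/
def Four (v : Fin 192) : Prop := v = 3 ∨ v = 55 ∨ v = 60 ∨ v = 76

theorem Four.inS {v : Fin 192} (h : Four v) : inSyl v = true ∧ v ≠ cT ∧ sCl v ≠ 0 := by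
  rcases h with rfl | rfl | rfl | rfl <;> decide +kernel

/-- The commutator witnesses. -/
theorem Four.exists_pair {v : Fin 192} (h : Four v) : ∃ a b, inSyl a = true ∧ inSyl b = true ∧
    sCm v a = true ∧ sCm v b = true ∧ sComm a b = cT := by
  obtain ⟨⟨c3, -, -, -, -, m3, n3⟩, ⟨c5, -, -, -, m5, n5⟩, ⟨c6, -, -, -, -, m6, n6⟩, ⟨c7, -, -, -, m7, n7⟩⟩ :=
    src_facts
  rcases h with rfl | rfl | rfl | rfl
  · exact ⟨44, 166, by decide +kernel, by decide +kernel, m3, n3, c3⟩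
  · exact ⟨44, 76, by decide +kernel, by decide +kernel, m5, n5, c5⟩
  · exact ⟨50, 65, by decide +kernel, by decide +kernel, m6, n6, c6⟩
  · exact ⟨50, 55, by decide +kernel, by decide +kernel, m7, n7, c7⟩

theorem T44_of_four {v : Fin 192} (h : Four v) (hT : F.T v) : F.T 44 := by
  obtain ⟨hv, hvz, -⟩ := h.inS
  obtain ⟨a, b, ha, hb, hva, hvb, hab⟩ := h.exists_pair
  obtain ⟨g, hgv, hg⟩ := F.exists_to_z hv hT
  obtain ⟨w, hw, hwe⟩ := F.conj_z_of_comm hv hvz ha hb hva hvb hab hgv hg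
  have hTw : F.T w := isConj_iff.2 ⟨g, hwe⟩
  rcases hw with rfl | rfl
  · exact hTw
  · exact F.T_44_iff_106.2 hTw

theorem T_cases {i : Fin 192} (hi : inSyl i = true) (hc : sCl i ≠ 0) (hne : i ≠ cT) :
    (F.T i ↔ F.T 44) ∨ (F.T i ↔ F.T 61) ∨ ∃ v, Four v ∧ (F.T i ↔ F.T v) := by
  have h := F.T_sCl hi hc
  rcases (sCl_facts i hi).2 hc with e | e | e | e | e | e | e <;> rw [e] at h
  · exact Or.inr (Or.inr ⟨_, Or.inl rfl, h⟩)
  · exact absurd (sCl_eq.2.2.2.1 i e) hne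
  · exact Or.inl h
  · exact Or.inr (Or.inr ⟨_, Or.inr (Or.inl rfl), h⟩)
  · exact Or.inr (Or.inr ⟨_, Or.inr (Or.inr (Or.inl rfl)), h⟩)
  · exact Or.inr (Or.inl h)
  · exact Or.inr (Or.inr ⟨_, Or.inr (Or.inr (Or.inr rfl)), h⟩)

include hna

theorem T_44 : F.T 44 := by
  by_contra h44
  have h4 : ∀ v, Four v → ¬ F.T v := fun v hv hT => h44 (F.T44_of_four hv hT)
  obtain ⟨i, hi, hic, hiT, hne⟩ := F.exists_T_ne hna
  have key : ∀ j, inSyl j = true → sCl j ≠ 0 → j ≠ cT → F.T j → F.T 61 ∧ sCl j = 61 := by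
    intro j hj hjc hjne hjT
    have h' := (F.T_sCl hj hjc).1 hjT
    rcases (sCl_facts j hj).2 hjc with e | e | e | e | e | e | e <;> rw [e] at h'
    · exact absurd h' (h4 _ (Or.inl rfl))
    · exact absurd (sCl_eq.2.2.2.1 j e) hjne
    · exact absurd h' h44
    · exact absurd h' (h4 _ (Or.inr (Or.inl rfl)))
    · exact absurd h' (h4 _ (Or.inr (Or.inr (Or.inl rfl))))
    · exact ⟨h', e⟩
    · exact absurd h' (h4 _ (Or.inr (Or.inr (Or.inr rfl))))
  have h61 := (key i hi hic hne hiT).1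
  obtain ⟨fc, fm, fa, fb, fx, fy, -⟩ := f61_facts
  have hS : inSyl 61 = true := by decide +kernel
  have hS' : inSyl (cMul 44 61) = true := by decide +kernel
  obtain ⟨g, hgv, hg⟩ := F.exists_to_z hS h61
  obtain ⟨a, ha, hae⟩ := hg cT inS_cT fc
  obtain ⟨c, hc, hce⟩ := hg _ hS' fx
  have hac : g * F.f (cMul cT (cMul 44 61)) * g⁻¹ = F.f (cMul a c) := by
    rw [F.fmul _ _ inS_cT hS', F.fmul _ _ ha hc, ← hae, ← hce]; group
  have hcl : ∀ s t, inSyl s = true → inSyl t = true → s ≠ 61 → sCl s ≠ 0 →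
      (F.T s) → g * F.f s * g⁻¹ = F.f t → sCl t = 61 := by
    intro s t hs ht hs61 hsc hsT hst
    refine (key t ht ?_ (fun e => hs61 ?_) ((F.T_of_conj hst).1 hsT)).2
    · refine (sCl_facts t ht).1.1 ⟨(F.sq_eq ht).1 ?_, fun e => ?_⟩
      · rw [← hst, show g * F.f s * g⁻¹ * (g * F.f s * g⁻¹) = g * (F.f s * F.f s) * g⁻¹ by group,
          (F.sq_eq hs).2 ((sCl_facts s hs).1.2 hsc).1]
        group
      · rw [e, F.fone, conj_eq_one_iff] at hst
        exact F.ne_one hs ((sCl_facts s hs).1.2 hsc).2 hst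
    · have h3 : g * F.f s * g⁻¹ = g * F.f 61 * g⁻¹ := by rw [hst, e, hgv]; rfl
      exact F.inj _ _ hs hS (mul_left_cancel (mul_right_cancel h3))
  have hTc : ∀ s, inSyl s = true → sCl s = 61 → F.T s := fun s hs e =>
    (F.T_sCl hs (by rw [e]; decide)).2 (by rw [e]; exact h61)
  have ha61 := hcl cT a inS_cT ha (by decide) (by decide +kernel) F.T_z hae
  have hc61 := hcl _ c hS' hc (by decide +kernel) (by rw [fa]; decide) (hTc _ hS' fa) hce
  refine pair_61 a ha ha61 c hc hc61 (F.cm_of_comm ha hc ?_) (hcl _ _ (inS_mul inS_cT hS') (inS_mul ha hc)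
    (by decide +kernel) (by rw [fb]; decide) (hTc _ (inS_mul inS_cT hS') fb) hac)
  rw [← hae, ← hce]
  have := F.comm_of_cm inS_cT hS' fy
  calc g * F.f cT * g⁻¹ * (g * F.f (cMul 44 61) * g⁻¹)
      = g * (F.f cT * F.f (cMul 44 61)) * g⁻¹ := by group
    _ = g * (F.f (cMul 44 61) * F.f cT) * g⁻¹ := by rw [this]
    _ = _ := by group

/-- A conjugate of `z` in the class of 3, 55, 60 or 76 is fused to 44 by the centraliser of `z`. -/
theorem exists_fix {v : Fin 192} (h : Four v) (hT : F.T v) :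
    ∃ g : G, g * F.z = F.z * g ∧ ∃ w, (w = 44 ∨ w = 106) ∧ g * F.f v * g⁻¹ = F.f w ∧
      ∀ i, inSyl i = true → sCm v i = true → ∃ j, inM0 j = true ∧ g * F.f i * g⁻¹ = F.f j := by
  haveI : Fact (Nat.Prime 2) := ⟨Nat.prime_two⟩
  obtain ⟨hv, hvz, -⟩ := h.inS
  obtain ⟨a, b, ha, hb, hva, hvb, hab⟩ := h.exists_pair
  obtain ⟨g, hgv, hg⟩ := F.exists_to_z hv hT
  obtain ⟨w, hw, hwe⟩ := F.conj_z_of_comm hv hvz ha hb hva hvb hab hgv hg
  obtain ⟨h0, h0S, h0m, h0i, h032, h044, h0106⟩ := inM0_facts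
  have hwS : inSyl w = true := by rcases hw with rfl | rfl <;> decide +kernel
  have hw0 : ∀ i, inM0 i = true ↔ (inSyl i = true ∧ sCm w i = true) := by
    rcases hw with rfl | rfl
    · exact h044
    · exact h0106
  obtain ⟨g₁, hg₁w, hg₁⟩ := F.exists_to_z hwS (isConj_iff.2 ⟨g, hwe⟩)
  obtain ⟨-, -, -, -, -, -, fcomm, f3, f55, -⟩ := f61_facts
  obtain ⟨w₂, hw₂, hw₂e⟩ := F.conj_z_of_comm hwS
    (by rcases hw with rfl | rfl <;> decide) (h0S _ f3) (h0S _ f55) ((hw0 _).1 f3).2 ((hw0 _).1 f55).2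
    fcomm hg₁w hg₁
  have hw₂S : inSyl w₂ = true := by rcases hw₂ with rfl | rfl <;> decide +kernel
  have hw₂0 : ∀ i, inM0 i = true ↔ (inSyl i = true ∧ sCm w₂ i = true) := by
    rcases hw₂ with rfl | rfl
    · exact h044
    · exact h0106
  set c := g₁ * g with hc
  have hcv : c * F.f v * c⁻¹ = F.f w₂ := by
    rw [hc, ← hw₂e, ← hgv]; group
  have hcz : c * F.z * c⁻¹ = F.z := by
    rw [hc, show g₁ * g * F.z * (g₁ * g)⁻¹ = g₁ * (g * F.z * g⁻¹) * g₁⁻¹ by group, hwe, hg₁w]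
  have hQle : (F.centS v).map (MulAut.conj c).toMonoidHom ≤
      centralizer ({F.z} : Set G) ⊓ centralizer ({F.f w₂} : Set G) := by
    rintro _ ⟨x, hx, rfl⟩
    obtain ⟨hxP, hxv⟩ := mem_inf.1 hx
    have hxv' := mem_centralizer_singleton_iff.1 hxv
    have hxz := mem_centralizer_singleton_iff.1 (F.P_le_centralizer hxP)
    refine mem_inf.2 ⟨mem_centralizer_singleton_iff.2 ?_, mem_centralizer_singleton_iff.2 ?_⟩
    · show c * x * c⁻¹ * F.z = F.z * (c * x * c⁻¹)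
      calc c * x * c⁻¹ * F.z = c * x * c⁻¹ * (c * F.z * c⁻¹) := by rw [hcz]
        _ = c * (x * F.z) * c⁻¹ := by group
        _ = c * (F.z * x) * c⁻¹ := by rw [hxz]
        _ = c * F.z * c⁻¹ * (c * x * c⁻¹) := by group
        _ = _ := by rw [hcz]
    · show c * x * c⁻¹ * F.f w₂ = F.f w₂ * (c * x * c⁻¹)
      calc c * x * c⁻¹ * F.f w₂ = c * x * c⁻¹ * (c * F.f v * c⁻¹) := by rw [hcv]
        _ = c * (x * F.f v) * c⁻¹ := by group
        _ = c * (F.f v * x) * c⁻¹ := by rw [hxv']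
        _ = c * F.f v * c⁻¹ * (c * x * c⁻¹) := by group
        _ = _ := by rw [hcv]
  have hRle : F.sub inM0 h0 h0S h0m h0i ≤
      centralizer ({F.z} : Set G) ⊓ centralizer ({F.f w₂} : Set G) := by
    rintro _ ⟨i, hi, rfl⟩
    exact mem_inf.2 ⟨F.P_le_centralizer (F.f_mem (h0S i hi)), mem_centralizer_singleton_iff.2
      (F.comm_of_cm hw₂S (h0S i hi) ((hw₂0 i).1 hi).2).symm⟩
  have hRle' : F.sub inM0 h0 h0S h0m h0i ≤ (F.P : Subgroup G) := by
    rintro _ ⟨i, hi, rfl⟩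
    exact F.f_mem (h0S i hi)
  have hRcard : Nat.card (F.sub inM0 h0 h0S h0m h0i) = 32 :=
    (F.card_of_pred inM0 h0S _ fun _ => Iff.rfl).trans h032
  obtain ⟨k, hk, hkQ⟩ := exists_conj_into _ _ _ ((F.P.isPGroup'.to_le inf_le_left).map _) hQle
    (F.P.isPGroup'.to_le hRle') hRle (fun R' hR' hRR' hR'K => by
      by_contra hne
      have h32 : 32 < Nat.card R' := by
        rw [← hRcard]
        exact lt_of_not_ge fun h => hne (eq_of_le_of_card_ge hRR' h).ge
      obtain ⟨S', hS'⟩ := hR'.exists_le_sylow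
      have h64 : Nat.card S' = 64 := by rw [Sylow.card_eq_multiplicity, ← Sylow.card_eq_multiplicity F.P, F.card_P]
      obtain ⟨n, hn⟩ := IsPGroup.iff_card.1 hR'
      have hle : Nat.card R' ≤ 64 := h64 ▸ card_le_of_le hS'
      have hn6 : n = 6 := by
        rcases Nat.lt_or_ge n 6 with h6 | h6
        · have := Nat.pow_le_pow_right (show 1 ≤ 2 by norm_num) (show n ≤ 5 by omega)
          omega
        · rcases Nat.lt_or_ge 6 n with h7 | h7
          · have := Nat.pow_le_pow_right (show 1 ≤ 2 by norm_num) h7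
            omega
          · omega
      have hR64 : Nat.card R' = 64 := by rw [hn, hn6]; norm_num
      obtain ⟨d, hd, hdR⟩ := exists_conj_into (centralizer ({F.z} : Set G)) R' F.P hR'
        (hR'K.trans inf_le_left) F.P.isPGroup' F.P_le_centralizer (fun R'' h1 h2 _ => F.le_P h1 h2)
      have heq : R'.map (MulAut.conj d).toMonoidHom = (F.P : Subgroup G) := eq_of_le_of_card_ge
        (by rintro _ ⟨x, hx, rfl⟩; exact hdR x hx)
        (by rw [card_map_of_injective (MulAut.conj d).injective, hR64, F.card_P])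
      obtain ⟨i, hi, hie⟩ := (F.mem_iff _).1 (hdR _ (hRR' ⟨w₂, (hw₂0 _).2 ⟨hw₂S, by simp [sCm]⟩, rfl⟩))
      rcases centre_facts i hi (fun j hj => by
        obtain ⟨x, hx, hxe⟩ : F.f j ∈ R'.map (MulAut.conj d).toMonoidHom := heq ▸ F.f_mem hj
        refine F.inj _ _ (inS_mul hi hj) (inS_mul hj hi) ?_
        rw [F.fmul _ _ hi hj, F.fmul _ _ hj hi, hie, ← hxe]
        show d * F.f w₂ * d⁻¹ * (d * x * d⁻¹) = d * x * d⁻¹ * (d * F.f w₂ * d⁻¹)
        rw [show d * F.f w₂ * d⁻¹ * (d * x * d⁻¹) = d * (F.f w₂ * x) * d⁻¹ by group,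
          ← mem_centralizer_singleton_iff.1 (mem_inf.1 (hR'K hx)).2]
        group) with e | e
      · rw [e, F.fone] at hie
        exact F.ne_one hw₂S (by rcases hw₂ with rfl | rfl <;> decide) (conj_eq_one_iff.1 hie.symm)
      · rw [e] at hie
        have hz' : d * F.f w₂ * d⁻¹ = d * F.z * d⁻¹ := by
          rw [mem_centralizer_singleton_iff.1 hd, mul_inv_cancel_right]; exact hie.symm
        have := F.inj _ _ hw₂S inS_cT (mul_left_cancel (mul_right_cancel hz'))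
        rcases hw₂ with rfl | rfl <;> exact absurd this (by decide))
  have hk1 := mem_centralizer_singleton_iff.1 (mem_inf.1 hk).1
  have hk2 := mem_centralizer_singleton_iff.1 (mem_inf.1 hk).2
  refine ⟨k * c, ?_, w₂, hw₂, ?_, fun i hi hci => ?_⟩
  · rw [mul_assoc, mul_inv_eq_iff_eq_mul.1 hcz, ← mul_assoc, hk1, mul_assoc]
  · rw [show k * c * F.f v * (k * c)⁻¹ = k * (c * F.f v * c⁻¹) * k⁻¹ by group, hcv, hk2,
      mul_inv_cancel_right]
  · obtain ⟨j, hj, e⟩ := hkQ _ ⟨F.f i, (F.mem_centS hv _).2 ⟨i, by simp [hi, hci], rfl⟩, rfl⟩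
    exact ⟨j, hj, by rw [e]; simp [mul_inv_rev, mul_assoc]⟩

omit hna

/-- The images of the generators of the centraliser in the Sylow subgroup. -/
theorem img_probes {v x y : Fin 192} (hv : inSyl v = true) (hx : inSyl x = true) (hy : inSyl y = true)
    (hvx : sCm v x = true) (hvy : sCm v y = true) (hxy : sComm x y = cT) (hcx : sCl x ≠ 0) (hcy : sCl y ≠ 0)
    {g : G} (hgz : g * F.z = F.z * g) {w : Fin 192} (hw : w = 44 ∨ w = 106)
    (hgv : g * F.f v * g⁻¹ = F.f w)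
    (hg : ∀ i, inSyl i = true → sCm v i = true → ∃ j, inM0 j = true ∧ g * F.f i * g⁻¹ = F.f j) :
    ((F.T x ↔ F.T 3) ∧ (F.T y ↔ F.T 55) ∧ (F.T (cMul x v) ↔ F.T 3) ∧ (F.T (cMul y v) ↔ F.T 55)) ∨
    ((F.T x ↔ F.T 55) ∧ (F.T y ↔ F.T 3) ∧ (F.T (cMul x v) ↔ F.T 55) ∧ (F.T (cMul y v) ↔ F.T 3)) ∨
    ((F.T x ↔ F.T 61) ∧ (F.T y ↔ F.T 61) ∧ (F.T (cMul x v) ↔ F.T 61) ∧ (F.T (cMul y v) ↔ F.T 61)) := by
  obtain ⟨b, hb, hbe⟩ := hg x hx hvx
  obtain ⟨c, hc, hce⟩ := hg y hy hvy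
  have hwS : inSyl w = true := by rcases hw with rfl | rfl <;> decide +kernel
  have hbS := inM0_facts.2.1 b hb
  have hcS := inM0_facts.2.1 c hc
  have hI : ∀ s t, inSyl s = true → inM0 t = true → sCl s ≠ 0 → g * F.f s * g⁻¹ = F.f t → inI0 t = true := by
    intro s t hs ht hsc hst
    have htS := inM0_facts.2.1 t ht
    simp only [inI0, ht, Bool.true_and, bne_iff_ne]
    refine (sCl_facts t htS).1.1 ⟨(F.sq_eq htS).1 ?_, fun e => ?_⟩
    · rw [← hst, show g * F.f s * g⁻¹ * (g * F.f s * g⁻¹) = g * (F.f s * F.f s) * g⁻¹ by group,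
        (F.sq_eq hs).2 ((sCl_facts s hs).1.2 hsc).1]
      group
    · rw [e, F.fone, conj_eq_one_iff] at hst
      exact F.ne_one hs ((sCl_facts s hs).1.2 hsc).2 hst
  have hcomm : sComm b c = cT := F.inj _ _ (inS_comm hbS hcS) inS_cT (by
    have e : F.f (sComm b c) = g * F.f (sComm x y) * g⁻¹ := by
      rw [F.fcomm hx hy, F.fcomm hbS hcS, ← hbe, ← hce]; group
    rw [e, hxy]
    exact mul_inv_eq_iff_eq_mul.2 hgz)
  have hcm : ∀ s t, inSyl s = true → inM0 t = true → sCm v s = true → g * F.f s * g⁻¹ = F.f t →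
      sCm w t = true := fun s t hs ht hvs hst => F.cm_of_comm hwS (inM0_facts.2.1 t ht) (by
    rw [← hgv, ← hst, show g * F.f v * g⁻¹ * (g * F.f s * g⁻¹) = g * (F.f v * F.f s) * g⁻¹ by group,
      F.comm_of_cm hv hs hvs]
    group)
  obtain ⟨-, hca, hpat, hba⟩ := img_3 w hw b (hI x b hx hb hcx hbe) c (hI y c hy hc hcy hce) hcomm
    (hcm x b hx hb hvx hbe) (hcm y c hy hc hvy hce)
  have hTx := F.T_of_conj hbe
  have hTy := F.T_of_conj hce
  have hxv : F.T (cMul x v) ↔ F.T (cMul b w) := F.T_of_conj (g := g) (by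
    rw [F.fmul _ _ hx hv, F.fmul _ _ hbS hwS, ← hbe, ← hgv]; group)
  have hyv : F.T (cMul y v) ↔ F.T (cMul c w) := F.T_of_conj (g := g) (by
    rw [F.fmul _ _ hy hv, F.fmul _ _ hcS hwS, ← hce, ← hgv]; group)
  have hcls : ∀ t, inSyl t = true → ∀ r : Fin 192, r ≠ 0 → sCl t = r → (F.T t ↔ F.T r) := fun t ht r hr e => by
    rw [← e]; exact F.T_sCl ht (e ▸ hr)
  rw [hTx, hTy, hxv, hyv]
  rcases hpat with ⟨h1, h2⟩ | ⟨h1, h2⟩ | ⟨h1, h2⟩
  · exact Or.inl ⟨hcls b hbS 3 (by decide) h1, hcls c hcS 55 (by decide) h2,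
      hcls _ (inS_mul hbS hwS) 3 (by decide) (hba.trans h1),
      hcls _ (inS_mul hcS hwS) 55 (by decide) (hca.trans h2)⟩
  · exact Or.inr (Or.inl ⟨hcls b hbS 55 (by decide) h1, hcls c hcS 3 (by decide) h2,
      hcls _ (inS_mul hbS hwS) 55 (by decide) (hba.trans h1),
      hcls _ (inS_mul hcS hwS) 3 (by decide) (hca.trans h2)⟩)
  · exact Or.inr (Or.inr ⟨hcls b hbS 61 (by decide) h1, hcls c hcS 61 (by decide) h2,
      hcls _ (inS_mul hbS hwS) 61 (by decide) (hba.trans h1),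
      hcls _ (inS_mul hcS hwS) 61 (by decide) (hca.trans h2)⟩)

end Frame

end Cfsg.Lib.MTwelveLocal
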